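import Cfsg.Agent.Lib.Classical.SpFourRes.Centres

/-!
Simple subgroups of the four-dimensional symplectic group with a root group of order at least four.
-/

set_option autoImplicit false
set_option linter.unusedSectionVars false

namespace Cfsg.Agent.Classical.SpFourRes

open Matrix
open Cfsg.Agent.Classical.Residual (upp low)

variable {F : Type*} [Field F] [CharP F 2] [Fintype F]

local notation "V₄" => (Fin 2 ⊕ Fin 2 → F)
local notation "M₄" => Matrix (Fin 2 ⊕ Fin 2) (Fin 2 ⊕ Fin 2) F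
local notation "G₄" => GL (Fin 2 ⊕ Fin 2) F
local notation "SL₂" => Matrix.SpecialLinearGroup (Fin 2) F

theorem sq_mem_iff {F₀ : Subfield F} {a : F} : a ^ 2 ∈ F₀ ↔ a ∈ F₀ := by
  refine ⟨fun h => ?_, fun h => F₀.pow_mem h 2⟩
  have hs : Function.Surjective fun x : F₀ => x ^ 2 :=
    Finite.injective_iff_surjective.1 fun x y e => Subtype.ext (sq_inj (congrArg Subtype.val e))
  obtain ⟨b, hb⟩ := hs ⟨a ^ 2, h⟩
  rw [sq_inj (a := a) (b := (b : F)) (congrArg Subtype.val hb).symm]
  exact b.2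

variable {P : Subgroup (GL (Fin 2 ⊕ Fin 2) F)}

/-- A long root group on a nonperpendicular pair gives a subfield. -/
theorem root_pair_coef {u v : V₄} (hv : IsCtr P v) (h : sf u v ≠ 0) (hu3 : 3 ≤ (coef P u).ncard)
    (hu1 : IsCtr P u) : ∃ F₀ : Subfield F, 3 ≤ Nat.card F₀ ∧ sf u v ∈ F₀ ∧
      coef P u = (F₀ : Set F) ∧ coef P v = (F₀ : Set F) := by
  set f := sf u v with hf
  obtain ⟨g, hg, hg1, hg3⟩ := exists_frame_pair (s := f⁻¹ • u) (v := v)
    (by rw [sf_smul_left, ← hf, inv_mul_cancel₀ h])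
  set X : Subgroup SL₂ := P.comap ((MulAut.conj g).toMonoidHom.comp plane) with hX
  have hup : ∀ a, upp (a ^ 2) ∈ X ↔ a / f ∈ coef P u := fun a => by
    show g * plane (upp (a ^ 2)) * g⁻¹ ∈ P ↔ _
    rw [plane_upp, tv_conj hg, mem_coef,
      show vec a 0 0 0 = a • vec (1 : F) 0 0 0 from ext4 (by simp) (by simp) (by simp) (by simp),
      act_smul, hg1, smul_smul, div_eq_mul_inv]
  have hdn : ∀ a, low (a ^ 2) ∈ X ↔ a ∈ coef P v := fun a => by
    show g * plane (low (a ^ 2)) * g⁻¹ ∈ P ↔ _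
    rw [plane_low, tv_conj hg, mem_coef,
      show vec 0 0 a 0 = a • vec (0 : F) 0 1 0 from ext4 (by simp) (by simp) (by simp) (by simp),
      act_smul, hg3]
  have hA : 3 ≤ {a : F | upp a ∈ X}.ncard := by
    refine hu3.trans (Set.ncard_le_ncard_of_injOn (fun l => (l * f) ^ 2) (fun l hl => ?_) ?_)
    · rw [Set.mem_setOf_eq, hup, mul_div_cancel_right₀ l h]; exact hl
    · intro a _ b _ e
      exact mul_right_cancel₀ h (sq_inj e)
  have hlow : low (1 : F) ∈ X := by
    have := (hdn 1).2 hv.one_mem_coef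
    rwa [one_pow] at this
  obtain ⟨F₀, R⟩ := exists_rootPair X hA hlow
  have hvF : ∀ a, a ∈ coef P v ↔ a ∈ F₀ := fun a => by rw [← hdn, R.dn, sq_mem_iff]
  have huF : ∀ a, a / f ∈ coef P u ↔ a ∈ F₀ := fun a => by rw [← hup, R.up, sq_mem_iff]
  have hfF : f ∈ F₀ := (huF f).1 (by rw [div_self h]; exact hu1.one_mem_coef)
  refine ⟨F₀, R.four, hfF, Set.ext fun a => ?_, Set.ext hvF⟩
  rw [show a = a * f / f by rw [mul_div_cancel_right₀ a h], huF, SetLike.mem_coe,
    mul_div_cancel_right₀ a h]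
  refine ⟨fun h' => ?_, fun h' => F₀.mul_mem h' hfF⟩
  have := F₀.mul_mem h' (F₀.inv_mem hfF)
  rwa [mul_inv_cancel_right₀ h] at this

/-- All root groups are the same subfield, containing all values of the form on centres. -/
theorem exists_field (K : SimpleSp P) (hfix : ∀ x, (∀ g ∈ P, act g x = x) → x = 0) {u : V₄}
    (hu : IsCtr P u) (hu3 : 3 ≤ (coef P u).ncard) :
    ∃ F₀ : Subfield F, 3 ≤ Nat.card F₀ ∧ (∀ v, IsCtr P v → coef P v = (F₀ : Set F)) ∧
      ∀ v w, IsCtr P v → IsCtr P w → sf v w ∈ F₀ := by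
  have hc : ∀ v, IsCtr P v → coef P v = coef P u := fun v hv => by
    obtain ⟨g, hg, rfl⟩ := K.ctr_conj hfix hu hv
    exact coef_map K.le u hg
  obtain ⟨v, hv, hne⟩ : ∃ v, IsCtr P v ∧ sf u v ≠ 0 := by
    by_contra hcon
    push Not at hcon
    exact hu.ne (K.eq_zero_of_perp hfix hu hcon)
  obtain ⟨F₀, h4, -, hE, -⟩ := root_pair_coef hv hne hu3 hu
  refine ⟨F₀, h4, fun w hw => (hc w hw).trans hE, fun a b ha hb => ?_⟩
  by_cases hab : sf a b = 0
  · rw [hab]; exact F₀.zero_mem
  obtain ⟨F₁, -, hm, hE', -⟩ := root_pair_coef hb hab (by rw [hc a ha]; exact hu3) ha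
  have : (F₁ : Set F) = (F₀ : Set F) := by rw [← hE', hc a ha, hE]
  rwa [← SetLike.mem_coe, ← this]

/-- The subgroup is realised over the subfield. -/
theorem exists_realisation (K : SimpleSp P) (hfix : ∀ x, (∀ g ∈ P, act g x = x) → x = 0) {u : V₄}
    (hu : IsCtr P u) {F₀ : Subfield F} (hcoef : ∀ v, IsCtr P v → coef P v = (F₀ : Set F))
    (hsf : ∀ v w, IsCtr P v → IsCtr P w → sf v w ∈ F₀) :
    ∃ B ∈ spGL 2 F, ∀ g ∈ P, ∀ i j, ((B⁻¹ * g * B : G₄) : M₄) i j ∈ F₀ := by
  set V₀ := AddSubgroup.closure {v : V₄ | IsCtr P v} with hV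
  have hgen : ∀ {v}, IsCtr P v → v ∈ V₀ := fun h => AddSubgroup.subset_closure h
  have hsmul : ∀ a ∈ F₀, ∀ x ∈ V₀, a • x ∈ V₀ := fun a ha x hx => by
    induction hx using AddSubgroup.closure_induction with
    | mem v hv =>
      rcases eq_or_ne a 0 with rfl | ha0
      · rw [zero_smul]; exact V₀.zero_mem
      · exact hgen ⟨smul_ne_zero ha0 hv.ne, mem_coef.1 (by rw [hcoef v hv]; exact ha)⟩
    | zero => rw [smul_zero]; exact V₀.zero_mem
    | add x y _ _ hx hy => rw [smul_add]; exact V₀.add_mem hx hy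
    | neg x _ hx => rw [smul_neg]; exact V₀.neg_mem hx
  have hform : ∀ x ∈ V₀, ∀ y ∈ V₀, sf x y ∈ F₀ := by
    have h1 : ∀ v, IsCtr P v → ∀ y ∈ V₀, sf v y ∈ F₀ := fun v hv y hy => by
      induction hy using AddSubgroup.closure_induction with
      | mem w hw => exact hsf v w hv hw
      | zero => rw [sf_zero_right]; exact F₀.zero_mem
      | add x y _ _ hx hy => rw [sf_add_right]; exact F₀.add_mem hx hy
      | neg x _ hx => rw [← neg_one_smul F x, sf_smul_right]; exact F₀.mul_mem (F₀.neg_mem F₀.one_mem) hx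
    intro x hx y hy
    induction hx using AddSubgroup.closure_induction with
    | mem v hv => exact h1 v hv y hy
    | zero => rw [sf_zero_left]; exact F₀.zero_mem
    | add a b _ _ ha hb => rw [sf_add_left]; exact F₀.add_mem ha hb
    | neg a _ ha => rw [← neg_one_smul F a, sf_smul_left]; exact F₀.mul_mem (F₀.neg_mem F₀.one_mem) ha
  have hinv : ∀ g ∈ P, ∀ x ∈ V₀, act g x ∈ V₀ := fun g hg x hx => by
    induction hx using AddSubgroup.closure_induction with
    | mem v hv => exact hgen (hv.map K.le hg)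
    | zero => rw [act_zero]; exact V₀.zero_mem
    | add a b _ _ ha hb => rw [act_add]; exact V₀.add_mem ha hb
    | neg a _ ha => rw [← neg_one_smul F a, act_smul, neg_one_smul]; exact V₀.neg_mem ha
  obtain ⟨t, ht, hne⟩ : ∃ t, IsCtr P t ∧ sf u t ≠ 0 := by
    by_contra hcon
    push Not at hcon
    exact hu.ne (K.eq_zero_of_perp hfix hu hcon)
  set v₁ := (sf u t)⁻¹ • t with hv₁
  have hv₁V : v₁ ∈ V₀ := hsmul _ (F₀.inv_mem (hsf u t hu ht)) t (hgen ht)
  have a : sf u v₁ = 1 := by rw [hv₁, sf_smul_right, inv_mul_cancel₀ hne]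
  clear_value v₁
  obtain ⟨π, hπ⟩ : ∃ π : V₄ → V₄, ∀ x, π x = x + sf x v₁ • u + sf x u • v₁ := ⟨_, fun _ => rfl⟩
  have p1 : ∀ x, sf u (π x) = 0 := fun x => by
    simp only [hπ, sf_add_right, sf_smul_right, sf_self, a, sf_comm u x]
    linear_combination sf x u * CharTwo.two_eq_zero (R := F)
  have p2 : ∀ x, sf (π x) v₁ = 0 := fun x => by
    simp only [hπ, sf_add_left, sf_smul_left, sf_self, a]
    linear_combination sf x v₁ * CharTwo.two_eq_zero (R := F)
  have pV : ∀ {x}, x ∈ V₀ → π x ∈ V₀ := fun {x} hx => hπ x ▸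
    V₀.add_mem (V₀.add_mem hx (hsmul _ (hform x hx v₁ hv₁V) u (hgen hu)))
      (hsmul _ (hform x hx u (hgen hu)) v₁ hv₁V)
  obtain ⟨x, hx, hpx⟩ : ∃ x, IsCtr P x ∧ π x ≠ 0 := by
    by_contra hcon
    push Not at hcon
    obtain ⟨g, hg, hg1, hg3⟩ := exists_frame_pair a
    refine act_ne_zero g (show vec (0 : F) 1 0 0 ≠ 0 from fun e => by simpa using congrFun e (.inl 1))
      (K.eq_zero_of_perp hfix hu (x := act g (vec 0 1 0 0)) fun o ho => ?_)
    have e0 := hcon o ho
    simp only [hπ] at e0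
    rw [add_assoc, CharTwo.add_eq_zero] at e0
    have k1 : sf (act g (vec 0 1 0 0)) u = 0 := by rw [← hg1, sf_act hg, sf_eq]; simp
    have k2 : sf (act g (vec 0 1 0 0)) v₁ = 0 := by rw [← hg3, sf_act hg, sf_eq]; simp
    rw [e0, sf_add_right, sf_smul_right, sf_smul_right, k1, k2]
    ring
  obtain ⟨y, hy, hpy⟩ : ∃ y, IsCtr P y ∧ sf (π x) (π y) ≠ 0 := by
    by_contra hcon
    push Not at hcon
    refine hpx (K.eq_zero_of_perp hfix hu fun o ho => ?_)
    have e0 := hcon o ho
    rw [hπ o] at e0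
    rw [show sf (π x) o = sf (π x) (o + sf o v₁ • u + sf o u • v₁) by
      rw [sf_add_right, sf_add_right, sf_smul_right, sf_smul_right, sf_comm (π x) u, p1, p2]; ring]
    exact e0
  set v₂ := (sf (π x) (π y))⁻¹ • π y with hv₂
  have hv₂V : v₂ ∈ V₀ := hsmul _ (F₀.inv_mem (hform _ (pV (hgen hx)) _ (pV (hgen hy)))) _ (pV (hgen hy))
  have b : sf (π x) v₂ = 1 := by rw [hv₂, sf_smul_right, inv_mul_cancel₀ hpy]
  have d : sf u v₂ = 0 := by rw [hv₂, sf_smul_right, p1, mul_zero]
  have f : sf v₁ v₂ = 0 := by rw [hv₂, sf_smul_right, sf_comm v₁, p2, mul_zero]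
  obtain ⟨B, hB, hM⟩ := exists_of_basis a b (p1 x) d (p2 x) f
  obtain ⟨h1, h2, h3, h4⟩ := act_of_basis hM
  refine ⟨B, hB, fun g hg i j => ?_⟩
  have hcol : act B (Pi.single j 1) ∈ V₀ := by
    rcases eq_single (F := F) j with e | e | e | e <;> rw [e]
    · rw [h1]; exact hgen hu
    · rw [h2]; exact pV (hgen hx)
    · rw [h3]; exact hv₁V
    · rw [h4]; exact hv₂V
  rw [coe_apply_act, act_mul, act_mul]
  have hz := hinv g hg _ hcol
  generalize act g (act B (Pi.single j 1)) = z at hz
  set y' := act B⁻¹ z with hy'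
  have hzy : z = act B y' := (act_act_inv B z).symm
  rcases i with i | i <;> fin_cases i
  · show y' (.inl 0) ∈ F₀
    rw [show y' (.inl 0) = sf z v₁ by rw [hzy, ← h3, sf_act hB, sf_eq]; simp]
    exact hform z hz v₁ hv₁V
  · show y' (.inl 1) ∈ F₀
    rw [show y' (.inl 1) = sf z v₂ by rw [hzy, ← h4, sf_act hB, sf_eq]; simp]
    exact hform z hz v₂ hv₂V
  · show y' (.inr 0) ∈ F₀
    rw [show y' (.inr 0) = sf z u by rw [hzy, ← h1, sf_act hB, sf_eq]; simp]
    exact hform z hz u (hgen hu)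
  · show y' (.inr 1) ∈ F₀
    rw [show y' (.inr 1) = sf z (π x) by rw [hzy, ← h2, sf_act hB, sf_eq]; simp]
    exact hform z hz _ (pV (hgen hx))

section Full

theorem pt_of_coef {v : V₄} (h : coef P v = Set.univ) : MaxTv.Pt P v := fun c => by
  obtain ⟨a, ha⟩ := exists_sq c
  refine ⟨tv (a • v), mem_coef.1 (h ▸ Set.mem_univ a), fun x => ?_⟩
  show act (tv (a • v)) x = _
  rw [act_tv, MaxTv.fn_dot MaxTv.sesq_sympForm, sf_smul_right, sympForm_smul_right, smul_smul, ← ha]
  congr 2
  show a * sympForm 2 F x v * a = a ^ 2 * sympForm 2 F x v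
  ring

/-- Full root groups give the whole symplectic group. -/
theorem spGL_le_of_full (K : SimpleSp P) (hfix : ∀ x, (∀ g ∈ P, act g x = x) → x = 0) {u : V₄}
    (hu : IsCtr P u) (hF : 3 ≤ Nat.card F) (hcoef : ∀ v, IsCtr P v → coef P v = Set.univ) : spGL 2 F ≤ P := by
  classical
  have hC : ∀ {v}, IsCtr P v → MaxTv.Pt P v := fun hv => pt_of_coef (hcoef _ hv)
  obtain ⟨t, ht, hne⟩ : ∃ t, IsCtr P t ∧ sf u t ≠ 0 := by
    by_contra hcon
    push Not at hcon
    exact hu.ne (K.eq_zero_of_perp hfix hu hcon)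
  set v₁ := (sf u t)⁻¹ • t with hv₁
  have a : sf u v₁ = 1 := by rw [hv₁, sf_smul_right, inv_mul_cancel₀ hne]
  have hptv : MaxTv.Pt P v₁ := (hC ht).smul _
  clear_value v₁
  obtain ⟨dd, hdf⟩ : ∃ dd : F → F → V₄, ∀ x y, dd x y = x • u + y • v₁ := ⟨_, fun _ _ => rfl⟩
  have hdd : ∀ x y x' y', sf (dd x y) (dd x' y') = x * y' + y * x' := fun x y x' y' => by
    simp only [hdf, sf_add_left, sf_add_right, sf_smul_left, sf_smul_right, sf_self, a, sf_comm v₁ u]
    ring
  have plane_pt : ∀ x y, MaxTv.Pt P (dd x y) := fun x y => by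
    rcases eq_or_ne x 0 with rfl | hx
    · simpa [hdf] using hptv.smul y
    rcases eq_or_ne y 0 with rfl | hy
    · simpa [hdf] using (hC hu).smul x
    rw [hdf]
    refine ((hC hu).smul x).add (hptv.smul y) ?_
    show sf (x • u) (y • v₁) ≠ 0
    rw [sf_smul_left, sf_smul_right, a]
    simp [hx, hy]
  -- projection to the orthogonal complement
  obtain ⟨π, hπ⟩ : ∃ π : V₄ → V₄, ∀ x, π x = x + dd (sf x v₁) (sf x u) := ⟨_, fun _ => rfl⟩
  have dec : ∀ x, x = dd (sf x v₁) (sf x u) + π x := fun x => by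
    rw [hπ]
    rw [add_left_comm, ← add_assoc, add_comm, ← add_assoc]
    funext i
    simp only [Pi.add_apply]
    linear_combination -(dd (sf x v₁) (sf x u) i) * CharTwo.two_eq_zero (R := F)
  have q1 : ∀ x, sf u (π x) = 0 := fun x => by
    simp only [hπ, hdf, sf_add_right, sf_smul_right, sf_self, a, sf_comm u x]
    linear_combination sf x u * CharTwo.two_eq_zero (R := F)
  have q2 : ∀ x, sf v₁ (π x) = 0 := fun x => by
    simp only [hπ, hdf, sf_add_right, sf_smul_right, sf_self, sf_comm v₁ u, a, sf_comm v₁ x]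
    linear_combination sf x v₁ * CharTwo.two_eq_zero (R := F)
  have perp : ∀ {w}, sf u w = 0 → sf v₁ w = 0 → ∀ x y, sf (dd x y) w = 0 := fun {w} h h' x y => by
    simp only [hdf, sf_add_left, sf_smul_left, h, h']; ring
  let Mx : V₄ → Prop := fun w => sf u w = 0 ∧ sf v₁ w = 0 ∧ ∀ x y, (x ≠ 0 ∨ y ≠ 0) → MaxTv.Pt P (dd x y + w)
  have step : ∀ {w}, sf u w = 0 → sf v₁ w = 0 → ∀ {x y x' y'}, MaxTv.Pt P (dd x y + w) → x * y' + y * x' ≠ 0 →
      MaxTv.Pt P (dd x' y' + w) := fun {w} h h' {x y x' y'} hp hne => by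
    have h2 := hp.add (plane_pt (x' + x) (y' + y)) (by
      show sf (dd x y + w) (dd (x' + x) (y' + y)) ≠ 0
      rw [sf_add_left, hdd, sf_comm w, perp h h', add_zero]
      intro e; apply hne
      linear_combination e - x * y * CharTwo.two_eq_zero (R := F))
    have e : dd x y + w + dd (x' + x) (y' + y) = dd x' y' + w := by
      funext i
      simp only [hdf, Pi.add_apply, Pi.smul_apply, smul_eq_mul]
      linear_combination (x * u i + y * v₁ i) * CharTwo.two_eq_zero (R := F)
    rwa [e] at h2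
  have spread : ∀ {w}, sf u w = 0 → sf v₁ w = 0 → ∀ {x y}, (x ≠ 0 ∨ y ≠ 0) → MaxTv.Pt P (dd x y + w) → Mx w := by
    intro w h h' x y hxy hp
    refine ⟨h, h', fun x' y' hxy' => ?_⟩
    by_cases hne : x * y' + y * x' = 0
    · by_cases hy : y = 0
      · subst hy
        have hx : x ≠ 0 := hxy.resolve_right (by simp)
        have hy' : y' = 0 := by simpa [hx] using hne
        subst hy'
        have hx' : x' ≠ 0 := hxy'.resolve_right (by simp)
        exact step h h' (step h h' (x' := 0) (y' := 1) hp (by simpa using hx)) (by simpa using hx')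
      · have hy' : y' ≠ 0 := by
          rintro rfl
          have : x' = 0 := by simpa [hy] using hne
          simp [this] at hxy'
        exact step h h' (step h h' (x' := 1) (y' := 0) hp (by simpa using hy)) (by simpa using hy')
    · exact step h h' hp hne
  -- a mixed centre
  obtain ⟨w, hw0, hw⟩ : ∃ w, w ≠ 0 ∧ Mx w := by
    by_contra hcon
    push Not at hcon
    have hz : ∀ z, IsCtr P z → π z = 0 ∨ (sf z v₁ = 0 ∧ sf z u = 0) := fun z hz => by
      by_cases h0 : π z = 0
      · exact Or.inl h0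
      right
      by_contra hne
      rw [not_and_or] at hne
      exact hcon _ h0 (spread (q1 z) (q2 z) hne (by rw [← dec]; exact hC hz))
    set O : Set V₄ := {z | IsCtr P z ∧ π z = 0} with hO
    have gen : ∀ z, IsCtr P z → ∀ x, π x = 0 → π (act (tv z) x) = 0 := fun z hz' x hx => by
      rcases hz z hz' with h0 | ⟨h1, h2⟩
      · rw [act_tv]
        have : π (x + sf x z • z) = π x + sf x z • π z := by
          simp only [hπ, hdf, sf_add_left, sf_smul_left]
          module
        rw [this, hx, h0, smul_zero, add_zero]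
      · have hxd : x = dd (sf x v₁) (sf x u) := by
          conv_lhs => rw [dec x, hx, add_zero]
        have : sf x z = 0 := by
          rw [hxd]; simp only [hdf, sf_add_left, sf_smul_left, sf_comm v₁ z, sf_comm u z, h1, h2]; ring
        rw [tv_fix this, hx]
    have hinv : ∀ g ∈ P, ∀ x, π x = 0 ↔ π (act g x) = 0 := fun g hg => by
      rw [← K.closure_ctr {z | IsCtr P z} (fun _ h => h) (fun _ hg _ h => IsCtr.map K.le h hg) hu] at hg
      induction hg using Subgroup.closure_induction with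
      | mem g hg =>
        obtain ⟨z, hz', rfl⟩ := hg
        refine fun x => ⟨gen z hz' x, fun h => ?_⟩
        have := gen z hz' _ h
        rwa [← act_mul, tv_sq, act_one] at this
      | one => intro x; rw [act_one]
      | mul a b _ _ ha hb => intro x; rw [act_mul, hb x, ha]
      | inv a _ ha => intro x; rw [ha (act a⁻¹ x), act_act_inv]
    obtain ⟨g, hg, hg1, hg3⟩ := exists_frame_pair a
    refine act_ne_zero g (show vec (0 : F) 1 0 0 ≠ 0 from fun e => by simpa using congrFun e (.inl 1))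
      (hfix _ (K.fixed_of_perp O (fun z hz' => hz'.1) (fun k hk z hz' => ⟨hz'.1.map K.le hk, (hinv k hk z).1 hz'.2⟩)
        (v := u) ⟨hu, ?_⟩ fun o ho => ?_))
    · simp only [hπ, hdf, sf_self, a, one_smul, zero_smul, add_zero]
      exact funext fun i => CharTwo.add_self_eq_zero _
    · have hxd : o = dd (sf o v₁) (sf o u) := by
        conv_lhs => rw [dec o, ho.2, add_zero]
      have k1 : sf (act g (vec 0 1 0 0)) u = 0 := by rw [← hg1, sf_act hg, sf_eq]; simp
      have k2 : sf (act g (vec 0 1 0 0)) v₁ = 0 := by rw [← hg3, sf_act hg, sf_eq]; simp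
      rw [hxd, hdf, sf_add_right, sf_smul_right, sf_smul_right, k1, k2]
      ring
  -- a second one
  obtain ⟨w', hg0, hw'⟩ : ∃ w', sf w w' ≠ 0 ∧ Mx w' := by
    obtain ⟨x, hx, hwx⟩ : ∃ x, IsCtr P x ∧ sf w x ≠ 0 := by
      by_contra hcon
      push Not at hcon
      exact hw0 (K.eq_zero_of_perp hfix hu hcon)
    have hwp : sf w (π x) = sf w x := by
      conv_rhs => rw [dec x, sf_add_right, sf_comm w, perp hw.1 hw.2.1, zero_add]
    by_cases hd : sf x v₁ ≠ 0 ∨ sf x u ≠ 0
    · exact ⟨π x, by rwa [hwp], spread (q1 x) (q2 x) hd (by rw [← dec]; exact hC hx)⟩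
    · rw [not_or, not_not, not_not] at hd
      have hxp : π x = x := by simp [hπ, hdf, hd.1, hd.2]
      have h2 := (hw.2.2 1 0 (Or.inl one_ne_zero)).add (hC hx) (by
        show sf (dd 1 0 + w) x ≠ 0
        rw [sf_add_left, ← hxp, perp (q1 x) (q2 x), zero_add, hxp]
        exact hwx)
      refine ⟨w + x, by rwa [sf_add_right, sf_self, zero_add],
        spread ?_ ?_ (Or.inl one_ne_zero : (1 : F) ≠ 0 ∨ (0 : F) ≠ 0) (by rw [← add_assoc]; exact h2)⟩
      · rw [sf_add_right, hw.1, ← hxp, q1, add_zero]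
      · rw [sf_add_right, hw.2.1, ← hxp, q2, add_zero]
  -- the orthogonal plane
  set g := sf w w' with hgdef
  have comb : ∀ p q : F, p ≠ 0 → q ≠ 0 → MaxTv.Pt P (p • w + q • w') := fun p q hp hq => by
    have h2 := ((hw.2.2 1 0 (Or.inl one_ne_zero)).smul p).add
      ((hw'.2.2 (p / q) 0 (Or.inl (div_ne_zero hp hq))).smul q) (by
        show sf (p • (dd 1 0 + w)) (q • (dd (p / q) 0 + w')) ≠ 0
        rw [sf_smul_left, sf_smul_right, sf_add_left, sf_add_right, sf_add_right, hdd, sf_comm w,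
          perp hw.1 hw.2.1, perp hw'.1 hw'.2.1, ← hgdef]
        simp [hp, hq, hg0])
    have e : p • (dd 1 0 + w) + q • (dd (p / q) 0 + w') = p • w + q • w' := by
      funext i
      simp only [hdf, Pi.add_apply, Pi.smul_apply, smul_eq_mul]
      field_simp
      linear_combination p * u i * CharTwo.two_eq_zero (R := F)
    rwa [e] at h2
  obtain ⟨c, hc0, hc1⟩ : ∃ c : F, c ≠ 0 ∧ c ≠ 1 := by
    by_contra hcon
    push Not at hcon
    have : (Finset.univ : Finset F) ⊆ {0, 1} := fun x _ => by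
      rcases eq_or_ne x 0 with rfl | h
      · simp
      · simp [hcon x h]
    have := Finset.card_le_card this
    rw [Finset.card_univ, ← Nat.card_eq_fintype_card] at this
    have h2 := Finset.card_le_two (a := (0 : F)) (b := 1)
    omega
  have hperpPlane : ∀ p q : F, MaxTv.Pt P (p • w + q • w') := by
    have hc2 : c + 1 ≠ 0 := fun e => hc1 (CharTwo.add_eq_zero.1 e)
    have two := CharTwo.two_eq_zero (R := F)
    have main : ∀ p : F, p ≠ 0 → MaxTv.Pt P (p • w) ∧ MaxTv.Pt P (p • w') := fun p hp => by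
      constructor
      · have h2 := (comb (p * c) 1 (mul_ne_zero hp hc0) one_ne_zero).add
          (comb (p * (c + 1)) 1 (mul_ne_zero hp hc2) one_ne_zero) (by
            show sf ((p * c) • w + (1 : F) • w') ((p * (c + 1)) • w + (1 : F) • w') ≠ 0
            simp only [sf_add_left, sf_add_right, sf_smul_left, sf_smul_right, sf_self, ← hgdef, sf_comm w' w]
            intro e
            exact mul_ne_zero hp hg0 (by linear_combination e - p * c * g * two))
        have e : (p * c) • w + (1 : F) • w' + ((p * (c + 1)) • w + (1 : F) • w') = p • w := by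
          funext i
          simp only [Pi.add_apply, Pi.smul_apply, smul_eq_mul]
          linear_combination (p * c * w i + w' i) * two
        rwa [e] at h2
      · have h2 := (comb 1 (p * c) one_ne_zero (mul_ne_zero hp hc0)).add
          (comb 1 (p * (c + 1)) one_ne_zero (mul_ne_zero hp hc2)) (by
            show sf ((1 : F) • w + (p * c) • w') ((1 : F) • w + (p * (c + 1)) • w') ≠ 0
            simp only [sf_add_left, sf_add_right, sf_smul_left, sf_smul_right, sf_self, ← hgdef, sf_comm w' w]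
            intro e
            exact mul_ne_zero hp hg0 (by linear_combination e - p * c * g * two))
        have e : (1 : F) • w + (p * c) • w' + ((1 : F) • w + (p * (c + 1)) • w') = p • w' := by
          funext i
          simp only [Pi.add_apply, Pi.smul_apply, smul_eq_mul]
          linear_combination (p * c * w' i + w i) * two
        rwa [e] at h2
    intro p q
    rcases eq_or_ne p 0 with rfl | hp
    · rcases eq_or_ne q 0 with rfl | hq
      · simpa using MaxTv.Pt.zero
      · simpa using (main q hq).2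
    rcases eq_or_ne q 0 with rfl | hq
    · simpa using (main p hp).1
    exact comb p q hp hq
  refine MaxTv.spGL_le fun x => ?_
  have hb : sf w (g⁻¹ • w') = 1 := by rw [sf_smul_right, ← hgdef, inv_mul_cancel₀ hg0]
  have hd' : sf u (g⁻¹ • w') = 0 := by rw [sf_smul_right, hw'.1, mul_zero]
  have hf' : sf v₁ (g⁻¹ • w') = 0 := by rw [sf_smul_right, hw'.2.1, mul_zero]
  have hx := expand a hb hw.1 hd' (by rw [sf_comm]; exact hw.2.1) hf' x
  set p := sf x (g⁻¹ • w') with hp
  set q := sf x w * g⁻¹ with hq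
  have hx' : x = dd (sf x v₁) (sf x u) + (p • w + q • w') := by
    conv_lhs => rw [← hx]
    rw [hq, ← smul_smul]
    simp only [hdf]
    abel
  rcases eq_or_ne (p • w + q • w') 0 with h0 | h0
  · rw [hx', h0, add_zero]; exact plane_pt _ _
  by_cases hD : sf x v₁ = 0 ∧ sf x u = 0
  · rw [hx', hD.1, hD.2]
    simpa [hdf] using hperpPlane p q
  rw [not_and_or] at hD
  set y := p • w + q • w' with hy
  have hy1 : sf u y = 0 := by rw [hy, sf_add_right, sf_smul_right, sf_smul_right, hw.1, hw'.1]; ring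
  have hy2 : sf v₁ y = 0 := by rw [hy, sf_add_right, sf_smul_right, sf_smul_right, hw.2.1, hw'.2.1]; ring
  obtain ⟨z, hz, hzy⟩ : ∃ z, Mx z ∧ sf z y ≠ 0 := by
    by_cases hq0 : q = 0
    · have hp0 : p ≠ 0 := fun e => h0 (by rw [hy, hq0, e, zero_smul, zero_smul, add_zero])
      refine ⟨w', hw', ?_⟩
      rw [hy, hq0, sf_add_right, sf_smul_right, sf_smul_right, sf_comm w' w, ← hgdef]
      simp [hp0, hg0]
    · refine ⟨w, hw, ?_⟩
      rw [hy, sf_add_right, sf_smul_right, sf_smul_right, ← hgdef, sf_self]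
      simp [hq0, hg0]
  have hzy' : MaxTv.Pt P (z + y) := by
    have hzm : ∃ p' q' : F, z + y = p' • w + q' • w' := by
      refine ⟨sf (z + y) (g⁻¹ • w'), sf (z + y) w * g⁻¹, ?_⟩
      have := expand a hb hw.1 hd' (by rw [sf_comm]; exact hw.2.1) hf' (z + y)
      rw [show sf (z + y) v₁ = 0 by rw [sf_comm, sf_add_right, hz.2.1, hy2, add_zero],
        show sf (z + y) u = 0 by rw [sf_comm, sf_add_right, hz.1, hy1, add_zero]] at this
      conv_lhs => rw [← this]
      rw [← smul_smul]; simp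
    obtain ⟨p', q', e⟩ := hzm
    rw [e]; exact hperpPlane p' q'
  have h2 := (hz.2.2 _ _ hD).add hzy' (by
    show sf (dd (sf x v₁) (sf x u) + z) (z + y) ≠ 0
    rw [sf_add_left, sf_add_right z, sf_self, zero_add,
      perp (by rw [sf_add_right, hz.1, hy1, add_zero]) (by rw [sf_add_right, hz.2.1, hy2, add_zero]), zero_add]
    exact hzy)
  have e : dd (sf x v₁) (sf x u) + z + (z + y) = x := by
    conv_rhs => rw [hx']
    funext i
    simp only [Pi.add_apply]
    linear_combination z i * CharTwo.two_eq_zero (R := F)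
  rwa [e] at h2

end Full

/-- Simple subgroups with a root group of order at least four. -/
theorem big_root (K : SimpleSp P) (hfix : ∀ x, (∀ g ∈ P, act g x = x) → x = 0) {u : V₄}
    (hu : IsCtr P u) (hu3 : 3 ≤ (coef P u).ncard) :
    ∃ F₀ : Subfield F, (∃ B ∈ spGL 2 F, ∀ g ∈ P, ∀ i j, ((B⁻¹ * g * B : G₄) : M₄) i j ∈ F₀) ∧
      (F₀ = ⊤ → spGL 2 F ≤ P) := by
  obtain ⟨F₀, h4, hcoef, hsf⟩ := exists_field K hfix hu hu3
  refine ⟨F₀, exists_realisation K hfix hu hcoef hsf, fun h => spGL_le_of_full K hfix hu ?_ fun v hv => ?_⟩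
  · refine le_trans h4 ?_
    exact Nat.card_le_card_of_injective _ Subtype.val_injective
  · rw [hcoef v hv, h]; rfl

end Cfsg.Agent.Classical.SpFourRes
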