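import Cfsg.Agent.Lib.Classical.SpFourRes.PlaneLin
import Cfsg.Agent.Lib.Classical.SpFourRes.RootBig
import Cfsg.Agent.S0219

/-!
A linear group on a totally isotropic line permuting the centres on that line: impossibility.
-/

set_option autoImplicit false
set_option linter.unusedSectionVars false

namespace Cfsg.Agent.Classical.SpFourRes

open Matrix
open Cfsg.Agent.Classical.Residual (upp low upp_coe low_coe)

variable {F : Type*} [Field F] [CharP F 2]

local notation "V₂" => (Fin 2 → F)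
local notation "M₂" => Matrix (Fin 2) (Fin 2) F
local notation "G₂" => GL (Fin 2) F
local notation "SL₂" => Matrix.SpecialLinearGroup (Fin 2) F

/-- The data on a line: a group, the centres, and the functionals cut out by centres off the line. -/
structure Config (X : Subgroup (GL (Fin 2) F)) (S : Set (Fin 2 → F)) (Ψ : Set (Fin 2 → F)) : Prop where
  ne_zero : ∀ σ ∈ S, σ ≠ 0
  inv : ∀ g ∈ X, ∀ σ ∈ S, ap g σ ∈ S
  trans : ∀ σ ∈ S, ∀ τ ∈ S, ∃ g ∈ X, ap g σ = τ
  two : ∃ σ ∈ S, ∃ τ ∈ S, det2 σ τ ≠ 0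
  small : ∀ σ ∈ S, ∀ l : F, l • σ ∈ S → l = 1
  noform : ∀ a b c c₀ : F, c₀ ≠ 0 → ¬ ∀ σ ∈ S, quad2 a b c σ = c₀
  span : ∀ s : Fin 2 → F, s ≠ 0 → ∃ p ∈ Ψ, dot2 p s ≠ 0
  dich : ∀ p ∈ Ψ, (∃ σ ∈ S, ∃ τ ∈ S, dot2 p σ ≠ 0 ∧ dot2 p τ ≠ 0 ∧ dot2 p σ ≠ dot2 p τ) →
    (∃ x ∈ X, x ≠ 1 ∧ x * x = 1 ∧ ∀ r, dot2 p r = 0 → ap x r = r) ∨
      (∃ σ₀ ∈ S, dot2 p σ₀ = 0 ∧ ∃ h ∈ X, ap h σ₀ = σ₀ ∧ (h : Matrix (Fin 2) (Fin 2) F).det ≠ 1)
  comb : ∀ p ∈ Ψ, ∀ p' ∈ Ψ, ∃ g : F, p' + g • p ∈ Ψ ∧ ∀ σ ∈ S, p' + (g + dot2 p σ * dot2 p' σ) • p ∈ Ψ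

namespace Config

variable {X : Subgroup (GL (Fin 2) F)} {S Ψ : Set (Fin 2 → F)} (C : Config X S Ψ)

include C

theorem ne_of_det {σ τ : V₂} (h : det2 σ τ ≠ 0) : σ ≠ τ := by
  rintro rfl
  exact h (by rw [det2, mul_comm (σ 1)]; exact CharTwo.add_self_eq_zero _)

theorem det2_ne {σ τ : V₂} (hσ : σ ∈ S) (hτ : τ ∈ S) (h : σ ≠ τ) : det2 σ τ ≠ 0 := fun e => by
  obtain ⟨c, rfl⟩ := proportional (C.ne_zero σ hσ) e
  exact h (by rw [C.small σ hσ c hτ, one_smul])

theorem scalar_eq_one {g : G₂} (hg : g ∈ X) {c : F} (h : ∀ s, ap g s = c • s) : g = 1 := by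
  obtain ⟨σ, hσ, -⟩ := C.two
  have hc : c = 1 := C.small σ hσ c (h σ ▸ C.inv g hg σ hσ)
  exact Units.ext (Matrix.ext_iff_mulVec.2 fun s => by
    show ap g s = ap 1 s
    rw [h, hc, one_smul, ap_one])

/-- An element fixing a centre and commuting with everything is trivial. -/
theorem eq_one_of_fix {h : G₂} {σ₀ : V₂} (hσ₀ : σ₀ ∈ S) (hfix : ap h σ₀ = σ₀)
    (hc : ∀ g ∈ X, g * h = h * g) : h = 1 := by
  obtain ⟨σ, hσ, τ, hτ, hne⟩ := C.two
  have hall : ∀ ρ ∈ S, ap h ρ = ρ := fun ρ hρ => by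
    obtain ⟨g, hg, rfl⟩ := C.trans σ₀ hσ₀ ρ hρ
    rw [← ap_mul, ← hc g hg, ap_mul, hfix]
  exact ap_eq_self_of_two hne (hall σ hσ) (hall τ hτ)

/-- At least four centres. -/
theorem four : ∀ σ ∈ S, ∀ τ ∈ S, ∀ ρ ∈ S, ∃ π ∈ S, π ≠ σ ∧ π ≠ τ ∧ π ≠ ρ := by
  intro σ hσ τ hτ ρ hρ
  by_contra hcon
  push Not at hcon
  have two := CharTwo.two_eq_zero (R := F)
  -- two centres
  have htwo : ∀ σ ∈ S, ∀ τ ∈ S, σ ≠ τ → ¬ ∀ π ∈ S, π = σ ∨ π = τ := fun σ hσ τ hτ hne hall => by
    set d := det2 σ τ with hd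
    have hd0 := C.det2_ne hσ hτ hne
    refine C.noform ((σ 1 + τ 1) ^ 2) 0 ((σ 0 + τ 0) ^ 2) (d ^ 2) (pow_ne_zero _ hd0) fun π hπ => ?_
    rcases hall π hπ with rfl | rfl <;> simp only [quad2, hd, det2]
    · linear_combination (π 0 ^ 2 * π 1 ^ 2 + π 0 ^ 2 * π 1 * τ 1 + π 1 ^ 2 * π 0 * τ 0 - π 0 * π 1 * τ 0 * τ 1) * two
    · linear_combination (π 0 ^ 2 * π 1 ^ 2 + π 0 ^ 2 * π 1 * σ 1 + π 1 ^ 2 * π 0 * σ 0 - π 0 * π 1 * σ 0 * σ 1) * two
  -- three centres
  have hthree : ∀ σ ∈ S, ∀ τ ∈ S, ∀ ρ ∈ S, σ ≠ τ → σ ≠ ρ → τ ≠ ρ →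
      ¬ ∀ π ∈ S, π = σ ∨ π = τ ∨ π = ρ := fun σ hσ τ hτ ρ hρ h1 h2 h3 hall => by
    set d := det2 σ τ with hd
    have hd0 := C.det2_ne hσ hτ h1
    set x := det2 ρ τ / d with hx
    set y := det2 σ ρ / d with hy
    have hx0 : x ≠ 0 := div_ne_zero (C.det2_ne hρ hτ h3.symm) hd0
    have hy0 : y ≠ 0 := div_ne_zero (C.det2_ne hσ hρ h2) hd0
    set B := (1 + x ^ 2 + y ^ 2) / (x * y) with hB
    set a := τ 1 ^ 2 + B * (τ 1 * σ 1) + σ 1 ^ 2 with ha
    set b := B * (τ 0 * σ 1 + τ 1 * σ 0) with hb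
    set c := τ 0 ^ 2 + B * (τ 0 * σ 0) + σ 0 ^ 2 with hc
    have hq : ∀ s, quad2 a b c s = det2 s τ ^ 2 + B * (det2 s τ * det2 σ s) + det2 σ s ^ 2 := fun s => by
      simp only [quad2, ha, hb, hc, det2]
      linear_combination (-(s 0 * s 1 * τ 0 * τ 1) - s 0 * s 1 * σ 0 * σ 1) * two
    refine C.noform a b c (d ^ 2) (pow_ne_zero _ hd0) fun π hπ => ?_
    have hss : ∀ s : V₂, det2 s s = 0 := fun s => by
      rw [det2, mul_comm (s 1)]; exact CharTwo.add_self_eq_zero _
    rw [hq]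
    rcases hall π hπ with rfl | rfl | rfl
    · rw [hss, ← hd]; ring
    · rw [hss, ← hd]; ring
    · have e1 : det2 π τ = x * d := by rw [hx, div_mul_cancel₀ _ hd0]
      have e2 : det2 σ π = y * d := by rw [hy, div_mul_cancel₀ _ hd0]
      clear_value x y
      rw [e1, e2, hB]
      field_simp
      linear_combination (d ^ 2 * (x ^ 2 + y ^ 2)) * two
  obtain ⟨σ', hσ', τ', hτ', hne⟩ := C.two
  have hne' := C.ne_of_det hne
  by_cases h1 : σ = τ
  · by_cases h2 : σ = ρ
    · have hall : ∀ π ∈ S, π = σ := fun π hπ => by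
        by_contra e
        exact e ((hcon π hπ e (fun e' => e (e'.trans h1.symm))).trans h2.symm)
      exact hne' ((hall σ' hσ').trans (hall τ' hτ').symm)
    · exact htwo σ hσ ρ hρ h2 fun π hπ => by have := hcon π hπ; subst h1; tauto
  · by_cases h2 : σ = ρ
    · exact htwo σ hσ τ hτ h1 fun π hπ => by have := hcon π hπ; subst h2; tauto
    · by_cases h3 : τ = ρ
      · exact htwo σ hσ τ hτ h1 fun π hπ => by have := hcon π hπ; subst h3; tauto
      · exact hthree σ hσ τ hτ ρ hρ h1 h2 h3 fun π hπ => by have := hcon π hπ; tauto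

/-- Some functional takes two nonzero values. -/
theorem exists_two_values : ∃ p ∈ Ψ, ∃ σ ∈ S, ∃ τ ∈ S,
    dot2 p σ ≠ 0 ∧ dot2 p τ ≠ 0 ∧ dot2 p σ ≠ dot2 p τ := by
  by_contra hcon
  push Not at hcon
  obtain ⟨σ, hσ, -⟩ := C.two
  obtain ⟨p, hp, hpσ⟩ := C.span σ (C.ne_zero σ hσ)
  have hp0 : p ≠ 0 := by rintro rfl; simp [dot2] at hpσ
  obtain ⟨p', hp', hdet⟩ : ∃ p' ∈ Ψ, det2 p p' ≠ 0 := by
    obtain ⟨p', hp', h⟩ := C.span (fun i => if i = 0 then p 1 else p 0) (fun e => hp0 (by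
      have e0 := congrFun e 0
      have e1 := congrFun e 1
      exact ext2 (by simpa using e1) (by simpa using e0)))
    refine ⟨p', hp', fun e => h ?_⟩
    simp only [det2] at e
    simp only [dot2]
    simp
    linear_combination e
  -- the pair of values determines the centre
  have inj : ∀ s t : V₂, dot2 p s = dot2 p t → dot2 p' s = dot2 p' t → s = t := fun s t e e' => by
    simp only [dot2, det2] at e e' hdet
    refine ext2 ?_ ?_ <;> refine mul_left_cancel₀ hdet ?_
    · linear_combination p' 1 * e - p 1 * e' + (p 1 * p' 0 * s 0 - p 1 * p' 0 * t 0) * CharTwo.two_eq_zero (R := F)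
    · linear_combination p 0 * e' - p' 0 * e + (p 1 * p' 0 * s 1 - p 1 * p' 0 * t 1) * CharTwo.two_eq_zero (R := F)
  classical
  have val : ∀ q ∈ Ψ, ∃ c : F, ∀ s ∈ S, dot2 q s = 0 ∨ dot2 q s = c := fun q hq => by
    by_cases h : ∃ s ∈ S, dot2 q s ≠ 0
    · obtain ⟨s₀, hs₀, h0⟩ := h
      refine ⟨dot2 q s₀, fun s hs => ?_⟩
      by_cases hs0 : dot2 q s = 0
      · exact Or.inl hs0
      · exact Or.inr (hcon q hq s hs s₀ hs₀ hs0 h0)
    · push Not at h
      exact ⟨0, fun s hs => Or.inl (h s hs)⟩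
  obtain ⟨c, hc⟩ := val p hp
  obtain ⟨c', hc'⟩ := val p' hp'
  -- a centre for each of the three nonzero pairs, if there is one
  let pick : F → F → V₂ := fun u v => if h : ∃ s ∈ S, dot2 p s = u ∧ dot2 p' s = v then h.choose else σ
  have hpick : ∀ u v, pick u v ∈ S := fun u v => by
    show (if h : ∃ s ∈ S, dot2 p s = u ∧ dot2 p' s = v then h.choose else σ) ∈ S
    split
    · next h => exact h.choose_spec.1
    · exact hσ
  have heq : ∀ s ∈ S, s = pick (dot2 p s) (dot2 p' s) := fun s hs => by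
    have h : ∃ t ∈ S, dot2 p t = dot2 p s ∧ dot2 p' t = dot2 p' s := ⟨s, hs, rfl, rfl⟩
    show s = if h : ∃ t ∈ S, dot2 p t = dot2 p s ∧ dot2 p' t = dot2 p' s then h.choose else σ
    rw [dif_pos h]
    exact inj _ _ h.choose_spec.2.1.symm h.choose_spec.2.2.symm
  obtain ⟨π, hπ, n1, n2, n3⟩ := C.four _ (hpick c 0) _ (hpick 0 c') _ (hpick c c')
  have e := heq π hπ
  rcases hc π hπ with e1 | e1 <;> rcases hc' π hπ with e2 | e2 <;> rw [e1, e2] at e
  · exact C.ne_zero π hπ (inj π 0 (by simp [dot2] at e1 ⊢; exact e1) (by simp [dot2] at e2 ⊢; exact e2))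
  · exact n2 e
  · exact n1 e
  · exact n3 e

/-- The Sylow two-subgroups of the group on the line have order at least four. -/
theorem false_small [Fintype F] (h4 : ¬ 4 ∣ Nat.card X) : False := by
  obtain ⟨p, hp, hpv⟩ := C.exists_two_values
  rcases Nat.even_or_odd (Nat.card X) with heven | hodd
  · haveI : Fact (Nat.Prime 2) := ⟨Nat.prime_two⟩
    obtain ⟨T⟩ : Nonempty (Sylow 2 X) := inferInstance
    have hT : Nat.card T = 2 := by
      rw [T.card_eq_multiplicity]
      have h1 : 1 ≤ (Nat.card X).factorization 2 :=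
        Nat.Prime.dvd_iff_one_le_factorization Nat.prime_two Nat.card_pos.ne' |>.1 heven.two_dvd
      have h2 : ¬ 2 ≤ (Nat.card X).factorization 2 := fun h =>
        h4 ((Nat.Prime.pow_dvd_iff_le_factorization Nat.prime_two Nat.card_pos.ne').2 h)
      rw [show (Nat.card X).factorization 2 = 1 by omega, pow_one]
    haveI : IsCyclic (T : Subgroup X) := isCyclic_of_prime_card hT
    obtain ⟨O, hO⟩ := S0219.result heven T inferInstance
    haveI : O.Normal := Subgroup.normal_of_index_eq_two hO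
    have hOodd : Odd (Nat.card O) := by
      rw [← Nat.not_even_iff_odd]
      rintro ⟨k, hk⟩
      exact h4 ⟨k, by rw [← O.card_mul_index, hO, hk]; ring⟩
    set O' : Subgroup G₂ := O.map X.subtype with hO'
    have hcomm := odd_comm O' (by
      rwa [hO', Nat.card_congr (O.equivMapOfInjective _ X.subtype_injective).toEquiv.symm])
    have hcomm' : ∀ a ∈ O, ∀ b ∈ O, a * b = b * a := fun a ha b hb =>
      Subtype.ext (hcomm _ (Subgroup.mem_map_of_mem _ ha) _ (Subgroup.mem_map_of_mem _ hb))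
    obtain ⟨u, hu⟩ := exists_prime_orderOf_dvd_card' 2 heven.two_dvd
    have huu : u * u = 1 := by
      have h := pow_orderOf_eq_one u
      rwa [hu, pow_two] at h
    have huO : u ∉ O := fun h => by
      have h2 : orderOf (⟨u, h⟩ : O) = 2 := by rw [← Subgroup.orderOf_coe]; exact hu
      have hd := orderOf_dvd_natCard (⟨u, h⟩ : O)
      rw [h2] at hd
      exact Nat.not_even_iff_odd.2 hOodd (even_iff_two_dvd.2 hd)
    have hdec : ∀ g : X, g ∈ O ∨ u * g ∈ O := fun g => by
      by_cases hg : g ∈ O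
      · exact Or.inl hg
      · exact Or.inr ((Subgroup.mul_mem_iff_of_index_two hO).2 (iff_of_false huO hg))
    have oddpow : ∀ g ∈ O, g * g = 1 → g = 1 := fun g hg hgg => by
      have hd := orderOf_dvd_natCard (⟨g, hg⟩ : O)
      rw [← Subgroup.orderOf_coe] at hd
      exact orderOf_eq_one_iff.1 (Nat.eq_one_of_dvd_coprimes
        (Nat.Coprime.symm (Nat.coprime_two_left.2 (hOodd.of_dvd_nat hd))) dvd_rfl
        (orderOf_dvd_of_pow_eq_one (by rw [pow_two, hgg])))
    have hu_det : ((u : G₂) : M₂).det = 1 := by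
      have := congrArg (fun z : X => ((z : G₂) : M₂).det) huu
      simp at this
      exact sq_inj (by rw [one_pow, pow_two, this])
    by_cases hfixc : ∃ g ∈ O, g ≠ 1 ∧ u * g * u = g
    · obtain ⟨g, hgO, hg1, hgu⟩ := hfixc
      have hcomm_u : g * u = u * g := by
        conv_lhs => rw [← hgu]
        rw [mul_assoc, huu, mul_one]
      set U := ((u : G₂) : M₂) with hU
      set W := ((g : G₂) : M₂) with hW
      have hUU : U * U = 1 := congrArg (fun z : X => ((z : G₂) : M₂)) huu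
      have hUW : W * U = U * W := congrArg (fun z : X => ((z : G₂) : M₂)) hcomm_u
      refine hg1 (oddpow g hgO (Subtype.ext (C.scalar_eq_one (g * g : X).2 (c := W.det) fun s => ?_)))
      have e00 := congrFun (congrFun hUU 0) 0
      have e01 := congrFun (congrFun hUU 0) 1
      have e10 := congrFun (congrFun hUU 1) 0
      have f00 := congrFun (congrFun hUW 0) 0
      have f01 := congrFun (congrFun hUW 0) 1
      have f10 := congrFun (congrFun hUW 1) 0
      rw [det_two] at hu_det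
      simp only [Matrix.mul_apply, Fin.sum_univ_two, Matrix.one_apply, Fin.isValue, if_true,
        show ((0 : Fin 2) = 1) = False from eq_false (by decide),
        show ((1 : Fin 2) = 0) = False from eq_false (by decide), if_false] at e00 e01 e10 f00 f01 f10
      have htU : U 0 0 = U 1 1 := by
        by_contra hne
        have hne' : U 0 0 + U 1 1 ≠ 0 := fun e => hne (CharTwo.add_eq_zero.1 e)
        have h01 : U 0 1 = 0 := (mul_eq_zero.1 (show U 0 1 * (U 0 0 + U 1 1) = 0 by linear_combination e01)).resolve_right hne'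
        have h00 : U 0 0 = 1 := sq_inj (by rw [one_pow]; rw [h01] at e00; linear_combination e00)
        rw [h01, h00] at hu_det
        exact hne (by rw [h00]; linear_combination -hu_det)
      have hWtr : W 0 0 = W 1 1 := by
        by_cases h01 : U 0 1 = 0
        · by_cases h10 : U 1 0 = 0
          · exfalso
            have h00 : U 0 0 = 1 := sq_inj (by rw [one_pow]; rw [h01] at e00; linear_combination e00)
            have : u = 1 := Subtype.ext (gl_ext (by simp [← hU, h00]) (by simp [← hU, h01]) (by simp [← hU, h10])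
              (by simp [← hU, ← htU, h00]))
            rw [this, orderOf_one] at hu
            omega
          · exact mul_right_cancel₀ h10 (by linear_combination -f10 + W 1 0 * htU)
        · exact mul_right_cancel₀ h01 (by linear_combination f01 + W 0 1 * htU)
      have hrow : ∀ i, ((g * g : X) : G₂).val i = (W * W) i := fun i => rfl
      refine ext2 ?_ ?_ <;>
        simp only [ap_apply, hrow, Pi.smul_apply, smul_eq_mul, det_two, Matrix.mul_apply, Fin.sum_univ_two]
      · linear_combination (W 0 0 * s 0 + W 0 1 * s 1) * hWtr + W 0 1 * W 1 1 * s 1 * CharTwo.two_eq_zero (R := F)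
      · linear_combination (W 1 0 * s 0 - W 1 1 * s 1) * hWtr + W 1 0 * W 1 1 * s 0 * CharTwo.two_eq_zero (R := F)
    push Not at hfixc
    have hinv : ∀ g ∈ O, u * g * u = g⁻¹ := fun g hg => by
      have hgu : u * g * u ∈ O := by
        have := (inferInstance : O.Normal).conj_mem g hg u
        rwa [inv_eq_of_mul_eq_one_right huu] at this
      refine eq_inv_of_mul_eq_one_left ?_
      by_contra hne
      refine hfixc _ (mul_mem hgu hg) hne ?_
      rw [show u * (u * g * u * g) * u = u * u * g * (u * g * u) by simp only [mul_assoc], huu, one_mul,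
        hcomm' g hg _ hgu]
    have hdetO : ∀ g ∈ O, ((g : G₂) : M₂).det = 1 := fun g hg => by
      have e := congrArg (fun z : X => ((z : G₂) : M₂).det) (hinv g hg)
      have hne : ((g : G₂) : M₂).det ≠ 0 := (Matrix.GeneralLinearGroup.det (g : G₂)).ne_zero
      simp [hu_det] at e
      refine sq_inj ?_
      rw [one_pow, pow_two]
      nth_rw 1 [e]
      exact inv_mul_cancel₀ hne
    have hdetX : ∀ g : X, ((g : G₂) : M₂).det = 1 := fun g => by
      rcases hdec g with hg | hg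
      · exact hdetO g hg
      · have e := hdetO _ hg
        simpa [hu_det] using e
    obtain ⟨σ, hσ, -⟩ := C.two
    by_cases hO1 : ∀ g ∈ O, g = 1
    · obtain ⟨π, hπ, n1, n2, -⟩ := C.four σ hσ (ap (u : G₂) σ) (C.inv _ u.2 σ hσ) σ hσ
      obtain ⟨g, hg, rfl⟩ := C.trans σ hσ π hπ
      rcases hdec ⟨g, hg⟩ with h | h
      · exact n1 (by rw [show g = 1 from congrArg Subtype.val (hO1 _ h), ap_one])
      · refine n2 ?_
        have : (⟨g, hg⟩ : X) = u := by
          have e := congrArg (u * ·) (hO1 _ h)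
          simp only [← mul_assoc, huu, one_mul, mul_one] at e
          exact e
        rw [← this]
    push Not at hO1
    obtain ⟨h, hh, hh1⟩ := hO1
    set H := ((h : G₂) : M₂) with hH
    have hHd : H.det = 1 := hdetO h hh
    set q : V₂ → F := fun v => det2 v (ap (h : G₂) v) with hq
    have hqu : ∀ g : X, ∀ v, q (ap (g : G₂) v) = q v := by
      have hqO : ∀ g ∈ O, ∀ v, q (ap (g : G₂) v) = q v := fun g hg v => by
        simp only [hq]
        rw [← ap_mul, show ((h : G₂) * (g : G₂)) = ((g : G₂) * (h : G₂)) from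
          congrArg Subtype.val (hcomm' h hh g hg), ap_mul, det2_ap, hdetO g hg, one_mul]
      have hquu : ∀ v, q (ap (u : G₂) v) = q v := fun v => by
        simp only [hq]
        have hcu : (h : G₂) * (u : G₂) = (u : G₂) * ((h⁻¹ : X) : G₂) := by
          have : h * u = u * h⁻¹ := by rw [← hinv h hh, ← mul_assoc, ← mul_assoc, huu, one_mul]
          exact congrArg Subtype.val this
        rw [← ap_mul, hcu, ap_mul, det2_ap, hu_det, one_mul]
        -- the inverse is the adjugate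
        have hadj : ∀ v : V₂, ap ((h⁻¹ : X) : G₂) v = fun i => if i = 0 then H 1 1 * v 0 + H 0 1 * v 1
            else H 1 0 * v 0 + H 0 0 * v 1 := fun v => by
          have e : ap (h : G₂) (fun i => if i = 0 then H 1 1 * v 0 + H 0 1 * v 1
              else H 1 0 * v 0 + H 0 0 * v 1) = v := by
            rw [det_two] at hHd
            refine ext2 ?_ ?_ <;> simp [ap_apply, ← hH]
            · linear_combination v 0 * hHd + (H 0 0 * H 0 1 * v 1) * CharTwo.two_eq_zero (R := F)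
            · linear_combination v 1 * hHd + (H 1 0 * H 1 1 * v 0) * CharTwo.two_eq_zero (R := F)
          conv_lhs => rw [← e]
          rw [show ((h⁻¹ : X) : G₂) = (h : G₂)⁻¹ from rfl, ap_inv_ap]
        rw [hadj]
        simp [det2, ap_apply, ← hH]
        ring
      intro g v
      rcases hdec g with hg | hg
      · exact hqO g hg v
      · have e := hqO _ hg v
        rw [Subgroup.coe_mul, ap_mul, hquu] at e
        exact e
    refine C.noform (H 1 0) (H 0 0 + H 1 1) (H 0 1) (q σ) (fun e => ?_) fun π hπ => ?_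
    · obtain ⟨c, hc⟩ := proportional (C.ne_zero σ hσ) e
      have hfix : ap (h : G₂) σ = σ := by
        rw [hc, C.small σ hσ c (hc ▸ C.inv _ h.2 σ hσ), one_smul]
      refine hh1 (oddpow h hh (Subtype.ext (gl_ext ?_ ?_ ?_ ?_))) <;>
        simp [Matrix.mul_apply, Fin.sum_univ_two, ← hH]
      all_goals
        have ht : H 0 0 + H 1 1 = 0 := by
          rw [det_two] at hHd
          have f0 := congrFun hfix 0
          have f1 := congrFun hfix 1
          simp only [ap_apply, ← hH] at f0 f1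
          by_cases hs : σ 0 = 0
          · have hs1 : σ 1 ≠ 0 := fun e => C.ne_zero σ hσ (ext2 (by simpa using hs) (by simpa using e))
            have h01 : H 0 1 = 0 := by simpa [hs, hs1] using f0
            have h11 : H 1 1 = 1 := by simpa [hs, hs1] using f1
            rw [h01, h11] at hHd
            rw [h11, show H 0 0 = 1 by linear_combination hHd]
            exact CharTwo.add_self_eq_zero _
          · refine (mul_eq_zero.1 (show σ 0 * (H 0 0 + H 1 1) = 0 by
              linear_combination (H 1 1 + 1) * f0 + H 0 1 * f1 - σ 0 * hHd +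
                (σ 0 * H 1 1 - H 1 1 * H 0 1 * σ 1) * CharTwo.two_eq_zero (R := F))).resolve_left hs
        have ht' := CharTwo.add_eq_zero.1 ht
        rw [det_two] at hHd
        first
          | linear_combination hHd + H 0 0 * ht'
          | linear_combination H 0 1 * ht' + H 0 1 * H 1 1 * CharTwo.two_eq_zero (R := F)
          | linear_combination H 1 0 * ht' + H 1 0 * H 1 1 * CharTwo.two_eq_zero (R := F)
          | linear_combination hHd - H 1 1 * ht'
    · obtain ⟨g, hg, rfl⟩ := C.trans σ hσ π hπ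
      rw [← hqu ⟨g, hg⟩ σ]
      simp [hq, quad2, det2, ap_apply, ← hH]
      ring
  · obtain ⟨x, hx, hx1, hxx, -⟩ | ⟨σ₀, hσ₀, -, h, hh, hfix, hdet⟩ := C.dich p hp hpv
    · have hd := Subgroup.orderOf_dvd_natCard X hx
      rw [orderOf_eq_prime (by rw [pow_two, hxx]) hx1] at hd
      exact Nat.not_even_iff_odd.2 hodd (even_iff_two_dvd.2 hd)
    · refine hdet ?_
      rw [C.eq_one_of_fix hσ₀ hfix fun g hg => odd_comm X hodd g hg h hh]
      simp

/-- All involutions fix the first basis vector. -/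
theorem false_upper [Finite F] (hup : ∀ g ∈ X, (g : M₂) 1 0 = 0) {a₁ a₂ : F} (h1 : a₁ ≠ 0) (h2 : a₂ ≠ 0)
    (h12 : a₁ ≠ a₂) {u₁ u₂ : G₂} (hu₁ : u₁ ∈ X) (hu₂ : u₂ ∈ X) (hM₁ : (u₁ : M₂) = !![1, a₁; 0, 1])
    (hM₂ : (u₂ : M₂) = !![1, a₂; 0, 1]) : False := by
  have two := CharTwo.two_eq_zero (R := F)
  obtain ⟨p, hp, hp0'⟩ := C.span ![1, 0] (fun e => by simpa using congrFun e 0)
  have hp0 : p 0 ≠ 0 := by simpa [dot2] using hp0'
  obtain ⟨σ, hσ, hσ1⟩ : ∃ σ ∈ S, σ 1 ≠ 0 := by
    obtain ⟨σ, hσ, τ, hτ, hne⟩ := C.two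
    by_cases h : σ 1 = 0
    · exact ⟨τ, hτ, fun e => hne (by simp [det2, h, e])⟩
    · exact ⟨σ, hσ, h⟩
  have hval : ∀ {u : G₂} {a : F}, (u : M₂) = !![1, a; 0, 1] → dot2 p (ap u σ) = dot2 p σ + p 0 * a * σ 1 :=
    fun {u a} hu => by simp [dot2, ap_apply, hu]; ring
  have hv : ∃ σ ∈ S, ∃ τ ∈ S, dot2 p σ ≠ 0 ∧ dot2 p τ ≠ 0 ∧ dot2 p σ ≠ dot2 p τ := by
    set d := dot2 p σ with hd
    set e₁ := p 0 * a₁ * σ 1 with he₁
    set e₂ := p 0 * a₂ * σ 1 with he₂
    have n1 : e₁ ≠ 0 := mul_ne_zero (mul_ne_zero hp0 h1) hσ1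
    have n2 : e₂ ≠ 0 := mul_ne_zero (mul_ne_zero hp0 h2) hσ1
    have n12 : d + e₁ ≠ d + e₂ := fun e => h12 (mul_left_cancel₀ hp0 (mul_right_cancel₀ hσ1 (add_left_cancel e)))
    by_cases hd0 : d = 0
    · exact ⟨_, C.inv _ hu₁ σ hσ, _, C.inv _ hu₂ σ hσ, by rw [hval hM₁, ← he₁, hd0, zero_add]; exact n1,
        by rw [hval hM₂, ← he₂, hd0, zero_add]; exact n2, by rw [hval hM₁, hval hM₂]; exact n12⟩
    · by_cases h' : d + e₁ = 0
      · exact ⟨σ, hσ, _, C.inv _ hu₂ σ hσ, hd0, by rw [hval hM₂, ← h']; exact n12.symm,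
          by rw [hval hM₂, ← he₂]; exact fun e => n2 (by linear_combination -e)⟩
      · exact ⟨σ, hσ, _, C.inv _ hu₁ σ hσ, hd0, by rw [hval hM₁]; exact h',
          by rw [hval hM₁, ← he₁]; exact fun e => n1 (by linear_combination -e)⟩
  obtain ⟨x, hx, hx1, hxx, hxr⟩ | ⟨σ₀, hσ₀, hpσ₀, h, hh, hfix, hdet⟩ := C.dich p hp hv
  · have e10 := hup x hx
    have f := congrFun (congrArg (fun z : G₂ => (z : M₂)) hxx) 0
    have g := congrFun (congrArg (fun z : G₂ => (z : M₂)) hxx) 1
    have f0 := congrFun f 0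
    have g1 := congrFun g 1
    simp [Matrix.mul_apply, Fin.sum_univ_two, e10] at f0 g1
    have x00 : (x : M₂) 0 0 = 1 := sq_inj (by rw [one_pow, pow_two, f0])
    have x11 : (x : M₂) 1 1 = 1 := sq_inj (by rw [one_pow, pow_two, g1])
    have r := congrFun (hxr ![p 1, p 0] (by simp [dot2]; linear_combination p 0 * p 1 * two)) 0
    simp [ap_apply, x00] at r
    exact hx1 (gl_ext (by simp [x00]) (by simpa using r.resolve_right hp0) (by simp [e10]) (by simp [x11]))
  have hs1 : σ₀ 1 ≠ 0 := fun e => by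
    refine C.ne_zero σ₀ hσ₀ (ext2 ?_ (by simpa using e))
    simpa [dot2, e, hp0] using hpσ₀
  have h11 : (h : M₂) 1 1 = 1 := by
    have := congrFun hfix 1
    simp [ap_apply, hup h hh] at this
    exact (mul_eq_right₀ hs1).1 this
  set l := (h : M₂) 0 0 with hl
  have hl1 : l ≠ 1 := fun e => hdet (by rw [det_two, hup h hh, ← hl, e, h11]; ring)
  have hl0 : l + 1 ≠ 0 := fun e => hl1 (CharTwo.add_eq_zero.1 e)
  set A : Set F := {a | ∃ u ∈ X, (u : M₂) = !![1, a; 0, 1]} with hA
  have hAadd : ∀ a ∈ A, ∀ b ∈ A, a + b ∈ A := fun a ⟨u, hu, hM⟩ b ⟨v, hv', hN⟩ =>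
    ⟨u * v, mul_mem hu hv', by
      rw [Units.val_mul, hM, hN]
      ext i j
      fin_cases i <;> fin_cases j <;> simp [Matrix.mul_apply, Fin.sum_univ_two, add_comm]⟩
  have hAl : ∀ a ∈ A, l * a ∈ A := fun a ⟨u, hu, hM⟩ => by
    refine ⟨h * u * h⁻¹, mul_mem (mul_mem hh hu) (inv_mem hh), ?_⟩
    have key : (!![1, l * a; 0, 1] : M₂) * (h : M₂) = (h : M₂) * (u : M₂) := by
      rw [hM]
      ext i j
      fin_cases i <;> fin_cases j <;> simp [Matrix.mul_apply, Fin.sum_univ_two, hup h hh, h11, ← hl] <;> ring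
    rw [Units.val_mul, Units.val_mul, ← key, mul_assoc, ← Units.val_mul, mul_inv_cancel, Units.val_one, mul_one]
  have hsurj : ∀ ν ∈ A, ∃ a ∈ A, (l + 1) * a = ν := by
    intro ν hν
    have hfin := A.toFinite
    let f : A → A := fun a => ⟨(l + 1) * a.1, by rw [add_mul, one_mul]; exact hAadd _ (hAl _ a.2) _ a.2⟩
    have hinj : Function.Injective f := fun a b e =>
      Subtype.ext (mul_left_cancel₀ hl0 (congrArg Subtype.val e))
    obtain ⟨a, ha⟩ := (Finite.injective_iff_surjective.1 hinj) ⟨ν, hν⟩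
    exact ⟨a.1, a.2, congrArg Subtype.val ha⟩
  have hg11 : ∀ g ∈ X, (g : M₂) 1 1 = 1 := fun g hg => by
    set c := g * h * g⁻¹ * h⁻¹ with hc
    have hcX : c ∈ X := mul_mem (mul_mem (mul_mem hg hh) (inv_mem hg)) (inv_mem hh)
    set ν := (c : M₂) 0 1 with hν
    have hc10 := hup c hcX
    have hce : c * (h * g) = g * h := by rw [hc]; group
    have hd : (c : M₂).det * ((h : M₂).det * (g : M₂).det) = (g : M₂).det * (h : M₂).det := by
      have := congrArg (fun z : G₂ => (z : M₂).det) hce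
      simpa using this
    have e11 := congrFun (congrFun (congrArg (fun z : G₂ => (z : M₂)) hce) 1) 1
    simp [Matrix.mul_apply, Fin.sum_univ_two, hc10, h11, hup h hh, hup g hg] at e11
    have hg0 : (g : M₂) 1 1 ≠ 0 := fun e => by
      have hne : (g : M₂).det ≠ 0 := (Matrix.GeneralLinearGroup.det g).ne_zero
      exact hne (by rw [det_two, hup g hg, e]; ring)
    have c11 : (c : M₂) 1 1 = 1 := (mul_eq_right₀ hg0).1 e11
    have c00 : (c : M₂) 0 0 = 1 := by
      have hne : (g : M₂).det * (h : M₂).det ≠ 0 :=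
        mul_ne_zero (Matrix.GeneralLinearGroup.det g).ne_zero (Matrix.GeneralLinearGroup.det h).ne_zero
      rw [mul_comm (h : M₂).det] at hd
      have := (mul_eq_right₀ hne).1 hd
      rw [det_two, hc10, c11] at this
      linear_combination this
    have hνA : ν ∈ A := ⟨c, hcX, by
      ext i j
      fin_cases i <;> fin_cases j <;> simp [c00, c11, hc10, hν]⟩
    obtain ⟨a, ha, hal⟩ := hsurj ν hνA
    obtain ⟨u, hu, hM⟩ := ha
    set g' := u * g with hg'
    have hcomm : g' * h = h * g' := by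
      refine Units.ext ?_
      rw [hg', mul_assoc, ← hce]
      simp only [Units.val_mul]
      rw [hM]
      ext i j
      fin_cases i <;> fin_cases j <;>
        simp [Matrix.mul_apply, Matrix.vecMul, dotProduct, Fin.sum_univ_two, c00, c11, hc10, h11, hup h hh, hup g hg, ← hl, ← hν, ← hal]
      linear_combination ((g : M₂) 1 1 * a) * two
    have hfix' : ap h (ap g' σ₀) = ap g' σ₀ := by rw [← ap_mul, ← hcomm, ap_mul, hfix]
    have hg'S := C.inv g' (mul_mem hu hg) σ₀ hσ₀
    have he : ap g' σ₀ = σ₀ := by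
      by_contra hne
      have := ap_eq_self_of_two (C.det2_ne hg'S hσ₀ hne) hfix' hfix
      rw [this] at hdet
      simp at hdet
    have := congrFun he 1
    simp [ap_apply, hg', Matrix.mul_apply, Fin.sum_univ_two, hM, hup g hg] at this
    exact (mul_eq_right₀ hs1).1 this
  refine C.noform 0 0 1 (σ₀ 1 ^ 2) (pow_ne_zero _ hs1) fun π hπ => ?_
  obtain ⟨g, hg, rfl⟩ := C.trans σ₀ hσ₀ π hπ
  simp [quad2, ap_apply, hup g hg, hg11 g hg]

end Config

end Cfsg.Agent.Classical.SpFourRes
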