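import Cfsg.Agent.Lib.Classical.SpFourRes.Abstract

/-!
The group on the line with two unipotent fixed points: impossibility.
-/

set_option autoImplicit false
set_option linter.unusedSectionVars false

namespace Cfsg.Agent.Classical.SpFourRes

open Matrix
open Cfsg.Agent.Classical.Residual (upp low upp_coe low_coe)

variable {F : Type*} [Field F] [CharP F 2] [Fintype F]

local notation "V₂" => (Fin 2 → F)
local notation "M₂" => Matrix (Fin 2) (Fin 2) F
local notation "G₂" => GL (Fin 2) F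
local notation "SL₂" => Matrix.SpecialLinearGroup (Fin 2) F

theorem dot2_ap_symm (p : V₂) : dot2 p ![p 1, p 0] = 0 := by
  simp [dot2]
  linear_combination p 0 * p 1 * CharTwo.two_eq_zero (R := F)

namespace Config

variable {X : Subgroup (GL (Fin 2) F)} {S Ψ : Set (Fin 2 → F)} (C : Config X S Ψ)

include C

/-- Two root groups, one of order at least four. -/
theorem false_pair {a₁ a₂ : F} (h1 : a₁ ≠ 0) (h2 : a₂ ≠ 0) (h12 : a₁ ≠ a₂) {u₁ u₂ v : G₂} (hu₁ : u₁ ∈ X)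
    (hu₂ : u₂ ∈ X) (hv : v ∈ X) (hM₁ : (u₁ : M₂) = !![1, a₁; 0, 1]) (hM₂ : (u₂ : M₂) = !![1, a₂; 0, 1])
    (hMv : (v : M₂) = !![1, 0; 1, 1]) : False := by
  classical
  have two := CharTwo.two_eq_zero (R := F)
  set Xs : Subgroup SL₂ := X.comap Matrix.SpecialLinearGroup.toGL with hXs
  have hto : ∀ {g : G₂} {M : SL₂}, (g : M₂) = (M : M₂) → Matrix.SpecialLinearGroup.toGL M = g :=
    fun h => Units.ext h.symm
  have hA : 3 ≤ {a : F | upp a ∈ Xs}.ncard := by
    have hsub : ({0, a₁, a₂} : Finset F) ⊆ ({a : F | upp a ∈ Xs}.toFinite.toFinset) := fun x hx => by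
      rw [Set.Finite.mem_toFinset, Set.mem_setOf_eq, hXs, Subgroup.mem_comap]
      simp only [Finset.mem_insert, Finset.mem_singleton] at hx
      rcases hx with rfl | rfl | rfl
      · rw [hto (g := 1) (by rw [Units.val_one, upp_coe]; ext i j; fin_cases i <;> fin_cases j <;> simp)]
        exact one_mem X
      · rw [hto (g := u₁) (by rw [hM₁, upp_coe])]; exact hu₁
      · rw [hto (g := u₂) (by rw [hM₂, upp_coe])]; exact hu₂
    rw [Set.ncard_eq_toFinset_card _ (Set.toFinite _)]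
    refine le_trans ?_ (Finset.card_le_card hsub)
    rw [Finset.card_insert_of_notMem (by simp [h1.symm, h2.symm]), Finset.card_pair h12]
  obtain ⟨F₀, R⟩ := exists_rootPair Xs hA
    (by rw [hXs, Subgroup.mem_comap, hto (g := v) (by rw [hMv, low_coe])]; exact hv)
  -- elements with entries in the subfield
  have hmem : ∀ {a b c d : F}, a ∈ F₀ → b ∈ F₀ → c ∈ F₀ → d ∈ F₀ → a * d + b * c = 1 →
      ∃ g ∈ X, (g : M₂) = !![a, b; c, d] := fun {a b c d} ha hb hc hd he => by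
    obtain ⟨g, hg, hgM⟩ := R.mem_of_entries ha hb hc hd he
    exact ⟨_, hg, hgM⟩
  -- involutions have entries in the subfield
  have hinvol : ∀ x ∈ X, (x : M₂).det = 1 → (x : M₂) 0 0 = (x : M₂) 1 1 →
      (x : M₂) 0 0 + 1 ∈ F₀ ∧ (x : M₂) 0 1 ∈ F₀ ∧ (x : M₂) 1 0 ∈ F₀ := by
    intro x hx hdet hdiag
    let x' : SL₂ := ⟨(x : M₂), hdet⟩
    have hx' : x' ∈ Xs := by rw [hXs, Subgroup.mem_comap, hto (g := x) (M := x') rfl]; exact hx
    have e1 := R.tr _ (mul_mem hx' ((R.up 1).2 F₀.one_mem))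
    have e2 := R.tr _ (mul_mem hx' ((R.dn 1).2 F₀.one_mem))
    rw [Matrix.SpecialLinearGroup.coe_mul, upp_coe, trace_fin_two] at e1
    rw [Matrix.SpecialLinearGroup.coe_mul, low_coe, trace_fin_two] at e2
    simp [Matrix.mul_apply, Fin.sum_univ_two, x'] at e1 e2
    have hc : (x : M₂) 1 0 ∈ F₀ := by
      rwa [hdiag, show (x : M₂) 1 1 + ((x : M₂) 1 0 + (x : M₂) 1 1) = (x : M₂) 1 0 by
        linear_combination (x : M₂) 1 1 * two] at e1
    have hb : (x : M₂) 0 1 ∈ F₀ := by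
      rwa [hdiag, show (x : M₂) 1 1 + (x : M₂) 0 1 + (x : M₂) 1 1 = (x : M₂) 0 1 by
        linear_combination (x : M₂) 1 1 * two] at e2
    refine ⟨?_, hb, hc⟩
    rw [← sq_mem_iff]
    rw [det_two, ← hdiag] at hdet
    rw [show ((x : M₂) 0 0 + 1) ^ 2 = (x : M₂) 0 1 * (x : M₂) 1 0 by
      linear_combination hdet + ((x : M₂) 0 0 - (x : M₂) 0 1 * (x : M₂) 1 0 + 1) * two]
    exact F₀.mul_mem hb hc
  obtain ⟨l, hlF, hl0, hl1⟩ : ∃ l ∈ F₀, l ≠ 0 ∧ l ≠ 1 := by
    by_contra hcon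
    push Not at hcon
    have hsub : (F₀ : Set F) ⊆ {0, 1} := fun x hx => by
      by_cases h : x = 0
      · exact Or.inl h
      · exact Or.inr (hcon x hx h)
    have := Set.ncard_le_ncard hsub
    rw [← Nat.card_coe_set_eq] at this
    have h3 : 3 ≤ Nat.card (F₀ : Set F) := R.four
    have : ({0, 1} : Set F).ncard ≤ 2 := (Set.ncard_insert_le _ _).trans (by simp)
    omega
  have hli : l + l⁻¹ ∈ F₀ := F₀.add_mem hlF (F₀.inv_mem hlF)
  -- no rational centre
  have hirr : ∀ σ ∈ S, σ 0 ≠ 0 ∧ σ 1 ≠ 0 ∧ σ 0 / σ 1 ∉ F₀ := by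
    have hne : l⁻¹ ≠ 1 := fun e => hl1 (by rwa [inv_eq_one] at e)
    have h1' : ∀ σ ∈ S, σ 1 ≠ 0 := fun σ hσ e => by
      obtain ⟨g, hg, hgM⟩ := hmem hlF F₀.zero_mem F₀.zero_mem (F₀.inv_mem hlF) (by field_simp; ring)
      exact hl1 (C.small σ hσ l (by
        rw [show l • σ = ap g σ from ext2 (by simp [ap_apply, hgM]) (by simp [ap_apply, hgM, e])]
        exact C.inv g hg σ hσ))
    have h2' : ∀ σ ∈ S, σ 0 / σ 1 ∉ F₀ := fun σ hσ hr => by
      set r := σ 0 / σ 1 with hrdef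
      obtain ⟨g, hg, hgM⟩ := hmem hlF (F₀.mul_mem hr hli) F₀.zero_mem (F₀.inv_mem hlF) (by field_simp; ring)
      have hs0 : σ 0 = r * σ 1 := by rw [hrdef, div_mul_cancel₀ _ (h1' σ hσ)]
      refine hne (C.small σ hσ l⁻¹ ?_)
      rw [show l⁻¹ • σ = ap g σ from ext2 (by simp [ap_apply, hgM, hs0]; linear_combination -(r * σ 1 * l) * two)
        (by simp [ap_apply, hgM])]
      exact C.inv g hg σ hσ
    exact fun σ hσ => ⟨fun e => h2' σ hσ (by rw [e, zero_div]; exact F₀.zero_mem), h1' σ hσ, h2' σ hσ⟩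
  -- every functional is a multiple of a rational one
  have hrat : ∀ p ∈ Ψ, p ≠ 0 → ∃ μ : F, ∃ a : V₂, μ ≠ 0 ∧ a 0 ∈ F₀ ∧ a 1 ∈ F₀ ∧ p = μ • a := by
    intro p hp hp0
    obtain ⟨σ, hσ, -⟩ := C.two
    obtain ⟨hσ0, hσ1, -⟩ := hirr σ hσ
    have hv2 : ∃ σ ∈ S, ∃ τ ∈ S, dot2 p σ ≠ 0 ∧ dot2 p τ ≠ 0 ∧ dot2 p σ ≠ dot2 p τ := by
      obtain ⟨k, hk0, hk⟩ : ∃ k : F, k ≠ 0 ∧ ∀ a ∈ F₀, ∃ g ∈ X, dot2 p (ap g σ) = dot2 p σ + a * k := by
        by_cases hp00 : p 0 = 0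
        · have hp1 : p 1 ≠ 0 := fun e => hp0 (ext2 (by simpa using hp00) (by simpa using e))
          refine ⟨p 1 * σ 0, mul_ne_zero hp1 hσ0, fun a ha => ?_⟩
          obtain ⟨g, hg, hgM⟩ := hmem F₀.one_mem F₀.zero_mem ha F₀.one_mem (by ring)
          exact ⟨g, hg, by simp [dot2, ap_apply, hgM, hp00]; ring⟩
        · refine ⟨p 0 * σ 1, mul_ne_zero hp00 hσ1, fun a ha => ?_⟩
          obtain ⟨g, hg, hgM⟩ := hmem F₀.one_mem ha F₀.zero_mem F₀.one_mem (by ring)
          exact ⟨g, hg, by simp [dot2, ap_apply, hgM]; ring⟩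
      obtain ⟨g, hg, hgd⟩ := hk 1 F₀.one_mem
      obtain ⟨g', hg', hgd'⟩ := hk l hlF
      rw [one_mul] at hgd
      have n1 : dot2 p (ap g σ) ≠ dot2 p σ := by rw [hgd]; simpa using hk0
      have n2 : dot2 p (ap g' σ) ≠ dot2 p σ := by rw [hgd']; simpa using ⟨hl0, hk0⟩
      have n3 : dot2 p (ap g σ) ≠ dot2 p (ap g' σ) := by
        rw [hgd, hgd']
        intro e
        exact hl1 (mul_right_cancel₀ hk0 (by linear_combination -e))
      by_cases e0 : dot2 p σ = 0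
      · rw [e0] at n1 n2
        exact ⟨_, C.inv g hg σ hσ, _, C.inv g' hg' σ hσ, n1, n2, n3⟩
      · by_cases e1 : dot2 p (ap g σ) = 0
        · exact ⟨σ, hσ, _, C.inv g' hg' σ hσ, e0, fun e => n3 (e1.trans e.symm), n2.symm⟩
        · exact ⟨σ, hσ, _, C.inv g hg σ hσ, e0, e1, n1.symm⟩
    obtain ⟨x, hx, hx1, hxx, hxr⟩ | ⟨σ₀, hσ₀, -, h, hh, hfix, hdet⟩ := C.dich p hp hv2
    · have hd : (x : M₂).det = 1 := by
        have := congrArg (fun z : G₂ => (z : M₂).det) hxx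
        simp at this
        exact sq_inj (by rw [one_pow, pow_two, this])
      have hdiag : (x : M₂) 0 0 = (x : M₂) 1 1 := by
        have f00 := congrFun (congrFun (congrArg (fun z : G₂ => (z : M₂)) hxx) 0) 0
        simp [Matrix.mul_apply, Fin.sum_univ_two] at f00
        rw [det_two] at hd
        have hne : (x : M₂) 0 0 * ((x : M₂) 0 0 + (x : M₂) 1 1) = 0 := by
          linear_combination f00 + hd + (1 - (x : M₂) 0 1 * (x : M₂) 1 0) * two
        rcases mul_eq_zero.1 hne with h0 | h0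
        · rw [h0]
          have f01 := congrFun (congrFun (congrArg (fun z : G₂ => (z : M₂)) hxx) 0) 1
          simp [Matrix.mul_apply, Fin.sum_univ_two, h0] at f01
          rcases f01 with e | e
          · rw [h0, e] at hd; simp at hd
          · exact e.symm
        · exact CharTwo.add_eq_zero.1 h0
      obtain ⟨hk, hb, hc⟩ := hinvol x hx hd hdiag
      set k := (x : M₂) 0 0 + 1 with hkdef
      set b := (x : M₂) 0 1 with hbdef
      set c := (x : M₂) 1 0 with hcdef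
      have hr := hxr _ (dot2_ap_symm p)
      have r0 := congrFun hr 0
      have r1 := congrFun hr 1
      simp [ap_apply, ← hbdef, ← hcdef, ← hdiag] at r0 r1
      by_cases hb0 : b = 0
      · have hk0 : k = 0 := by
          refine sq_inj ?_
          rw [det_two, ← hdiag, ← hbdef, hb0] at hd
          rw [hkdef]
          linear_combination hd + ((x : M₂) 0 0 + 1) * two
        have hc0 : c ≠ 0 := fun e => hx1 (gl_ext
          (by rw [CharTwo.add_eq_zero.1 (show (x : M₂) 0 0 + 1 = 0 from hk0)]; simp) (by simp [← hbdef, hb0]) (by simp [← hcdef, e])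
          (by rw [← hdiag, CharTwo.add_eq_zero.1 (show (x : M₂) 0 0 + 1 = 0 from hk0)]; simp))
        have hp1 : p 1 = 0 := by
          have : c * p 1 = 0 := by linear_combination r1 - p 0 * (CharTwo.add_eq_zero.1 (show (x : M₂) 0 0 + 1 = 0 from hk0))
          exact (mul_eq_zero.1 this).resolve_left hc0
        exact ⟨p 0, ![1, 0], fun e => hp0 (ext2 (by simpa using e) (by simpa using hp1)), by simp [F₀.one_mem],
          by simp [F₀.zero_mem], ext2 (by simp) (by simp [hp1])⟩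
      · have hp0' : p 0 = k * p 1 / b := by
          rw [eq_div_iff hb0, hkdef]
          linear_combination r0 + p 1 * (1 - (1 : F)) + (-(p 1) * (x : M₂) 0 0) * two
        refine ⟨p 1, ![k / b, 1], fun e => hp0 (ext2 (by simp [hp0', e]) (by simpa using e)),
          by simp; exact F₀.div_mem hk hb, by simp [F₀.one_mem], ext2 (by simp [hp0']; ring) (by simp)⟩
    · exfalso
      refine hdet ?_
      set d := (h : M₂).det with hddef
      have hd0 : d ≠ 0 := (Matrix.GeneralLinearGroup.det h).ne_zero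
      obtain ⟨s, hs⟩ := exists_sq d
      have hs0 : s ≠ 0 := by rintro rfl; exact hd0 (by rw [← hs]; simp)
      -- conjugates of root elements are rational
      have conjx : ∀ {u : G₂}, u ∈ X → (u : M₂).det = 1 → (u : M₂) 0 0 = 1 → (u : M₂) 1 1 = 1 →
          ((h * u * h⁻¹ : G₂) : M₂) 0 1 ∈ F₀ ∧ ((h * u * h⁻¹ : G₂) : M₂) 1 0 ∈ F₀ := by
        intro u hu hdu h00 h11
        have hdet' : ((h * u * h⁻¹ : G₂) : M₂).det = 1 := by
          rw [Units.val_mul, Units.val_mul, Matrix.det_units_conj]; exact hdu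
        have htr := Matrix.trace_units_conj h (u : M₂)
        rw [← Units.val_mul, ← Units.val_mul, trace_fin_two, trace_fin_two, h00, h11,
          CharTwo.add_self_eq_zero, CharTwo.add_eq_zero] at htr
        exact ⟨(hinvol _ (mul_mem (mul_mem hh hu) (inv_mem hh)) hdet' htr).2.1,
          (hinvol _ (mul_mem (mul_mem hh hu) (inv_mem hh)) hdet' htr).2.2⟩
      have entry : ∀ {u : G₂} {i j : Fin 2} (N : M₂), (h : M₂) * (u : M₂) = N * (h : M₂) →
          ((h * u * h⁻¹ : G₂) : M₂) i j = N i j := fun {u i j} N e => by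
        rw [Units.val_mul, Units.val_mul, e, mul_assoc, ← Units.val_mul, mul_inv_cancel, Units.val_one, mul_one]
      obtain ⟨gU, hgU, hUM⟩ := hmem F₀.one_mem F₀.one_mem F₀.zero_mem F₀.one_mem (by ring)
      obtain ⟨gL, hgL, hLM⟩ := hmem F₀.one_mem F₀.zero_mem F₀.one_mem F₀.one_mem (by ring)
      obtain ⟨cU1, cU2⟩ := conjx hgU (by rw [hUM, det_two]; simp) (by simp [hUM]) (by simp [hUM])
      obtain ⟨cL1, cL2⟩ := conjx hgL (by rw [hLM, det_two]; simp) (by simp [hLM]) (by simp [hLM])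
      have eU : (h : M₂) * (gU : M₂) = !![1 + (h : M₂) 0 0 * (h : M₂) 1 0 / d, (h : M₂) 0 0 ^ 2 / d;
          (h : M₂) 1 0 ^ 2 / d, 1 + (h : M₂) 0 0 * (h : M₂) 1 0 / d] * (h : M₂) := by
        have hdd : d = (h : M₂) 0 0 * (h : M₂) 1 1 + (h : M₂) 0 1 * (h : M₂) 1 0 := det_two _
        rw [hUM]
        ext i j
        fin_cases i <;> fin_cases j <;> simp [Matrix.mul_apply, Matrix.vecMul, dotProduct, Fin.sum_univ_two] <;>
          field_simp
        · linear_combination -((h : M₂) 0 0 ^ 2 * (h : M₂) 1 0) * two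
        · linear_combination (h : M₂) 0 0 * hdd
        · linear_combination -((h : M₂) 0 0 * (h : M₂) 1 0 ^ 2) * two
        · linear_combination (h : M₂) 1 0 * hdd
      have eL : (h : M₂) * (gL : M₂) = !![1 + (h : M₂) 0 1 * (h : M₂) 1 1 / d, (h : M₂) 0 1 ^ 2 / d;
          (h : M₂) 1 1 ^ 2 / d, 1 + (h : M₂) 0 1 * (h : M₂) 1 1 / d] * (h : M₂) := by
        have hdd : d = (h : M₂) 0 0 * (h : M₂) 1 1 + (h : M₂) 0 1 * (h : M₂) 1 0 := det_two _
        rw [hLM]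
        ext i j
        fin_cases i <;> fin_cases j <;> simp [Matrix.mul_apply, Matrix.vecMul, dotProduct, Fin.sum_univ_two] <;>
          field_simp
        · linear_combination (h : M₂) 0 1 * hdd
        · linear_combination -((h : M₂) 0 1 ^ 2 * (h : M₂) 1 1) * two
        · linear_combination (h : M₂) 1 1 * hdd
        · linear_combination -((h : M₂) 0 1 * (h : M₂) 1 1 ^ 2) * two
      rw [entry _ eU] at cU1 cU2
      rw [entry _ eL] at cL1 cL2
      simp only [Matrix.of_apply, Matrix.cons_val', Matrix.cons_val_zero, Matrix.cons_val_one, Matrix.empty_val',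
        Matrix.cons_val_fin_one] at cU1 cU2 cL1 cL2
      rw [← hs, ← div_pow, sq_mem_iff] at cU1 cU2 cL1 cL2
      obtain ⟨g₀, hg₀, hgM⟩ := hmem cU1 cL1 cU2 cL2 (by
        rw [hddef, det_two] at hs
        field_simp
        linear_combination -hs)
      have hsc : h * g₀⁻¹ = 1 := C.scalar_eq_one (mul_mem hh (inv_mem hg₀)) (c := s) fun w => by
        have key : ∀ w : V₂, ap h w = s • ap g₀ w := fun w => by
          refine ext2 ?_ ?_ <;> simp [ap_apply, hgM] <;> field_simp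
        rw [ap_mul, key, ← ap_mul, mul_inv_cancel, ap_one]
      have heq : h = g₀ := mul_inv_eq_one.1 hsc
      have h1 : d = (g₀ : M₂).det := congrArg (fun z : G₂ => (z : M₂).det) heq
      rw [h1, hgM, det_fin_two_of, CharTwo.sub_eq_add]
      rw [hddef, det_two] at hs
      field_simp
      linear_combination -hs
  -- two independent functionals
  obtain ⟨σ, hσ, -⟩ := C.two
  obtain ⟨p₁, hp₁, hpσ⟩ := C.span σ (C.ne_zero σ hσ)
  have hp₁0 : p₁ ≠ 0 := by rintro rfl; simp [dot2] at hpσ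
  obtain ⟨p₂, hp₂, hpd⟩ := C.span ![p₁ 1, p₁ 0] (fun e => hp₁0 (ext2 (by simpa using congrFun e 1)
    (by simpa using congrFun e 0)))
  have hp₂0 : p₂ ≠ 0 := by rintro rfl; simp [dot2] at hpd
  obtain ⟨μ₁, a, hμ₁, ha0, ha1, rfl⟩ := hrat p₁ hp₁ hp₁0
  obtain ⟨μ₂, b, hμ₂, hb0, hb1, rfl⟩ := hrat p₂ hp₂ hp₂0
  set D := det2 a b with hD
  have hD0 : D ≠ 0 := fun e => hpd (by
    simp [dot2, hD, det2] at e ⊢
    linear_combination μ₁ * μ₂ * e)
  have hDF : D ∈ F₀ := F₀.add_mem (F₀.mul_mem ha0 hb1) (F₀.mul_mem ha1 hb0)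
  have hratio : ∀ t : F, μ₂ • b + t • μ₁ • a ∈ Ψ → t * μ₁ / μ₂ ∈ F₀ := fun t ht => by
    set p := μ₂ • b + t • μ₁ • a with hpdef
    have hpne : p ≠ 0 := fun e => by
      have e0 := congrFun e 0
      have e1 := congrFun e 1
      simp [hpdef] at e0 e1
      exact mul_ne_zero hμ₂ hD0 (by rw [hD, det2]; linear_combination a 0 * e1 + a 1 * e0 - (t * μ₁ * a 0 * a 1) * two)
    obtain ⟨μ, c, hμ, hc0, hc1, hpc⟩ := hrat p ht hpne
    have e0 := congrFun hpc 0
    have e1 := congrFun hpc 1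
    simp [hpdef] at e0 e1
    have k1 : μ₂ * D = μ * det2 a c := by
      rw [hD, det2, det2]; linear_combination a 0 * e1 + a 1 * e0 - (t * μ₁ * a 0 * a 1) * two
    have k2 : t * μ₁ * D = μ * det2 c b := by
      rw [hD, det2, det2]; linear_combination b 1 * e0 + b 0 * e1 - (μ₂ * b 0 * b 1) * two
    have hac : det2 a c ≠ 0 := fun e => mul_ne_zero hμ₂ hD0 (by rw [k1, e, mul_zero])
    rw [show t * μ₁ / μ₂ = det2 c b / det2 a c by
      rw [div_eq_div_iff hμ₂ hac]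
      refine mul_right_cancel₀ hD0 ?_
      linear_combination det2 a c * k2 - det2 c b * k1]
    exact F₀.div_mem (F₀.add_mem (F₀.mul_mem hc0 hb1) (F₀.mul_mem hc1 hb0))
      (F₀.add_mem (F₀.mul_mem ha0 hc1) (F₀.mul_mem ha1 hc0))
  obtain ⟨g, hg, hgσ⟩ := C.comb _ hp₁ _ hp₂
  have hprod : ∀ σ ∈ S, μ₁ ^ 2 * (dot2 a σ * dot2 b σ) ∈ F₀ := fun σ hσ => by
    have e := F₀.add_mem (hratio g hg) (hratio _ (hgσ σ hσ))
    simp only [dot2, Pi.smul_apply, smul_eq_mul] at e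
    rw [show μ₁ ^ 2 * (dot2 a σ * dot2 b σ) = g * μ₁ / μ₂ +
        (g + (μ₁ * a 0 * σ 0 + μ₁ * a 1 * σ 1) * (μ₂ * b 0 * σ 0 + μ₂ * b 1 * σ 1)) * μ₁ / μ₂ by
      simp only [dot2]
      field_simp
      linear_combination -g * two]
    exact e
  have shear : ∀ a b : V₂, a 0 ∈ F₀ → a 1 ∈ F₀ → b 0 ∈ F₀ → b 1 ∈ F₀ → det2 a b ≠ 0 →
      (∀ σ ∈ S, μ₁ ^ 2 * (dot2 a σ * dot2 b σ) ∈ F₀) → ∀ σ ∈ S, μ₁ ^ 2 * dot2 a σ ^ 2 ∈ F₀ := by
    intro a b ha0 ha1 hb0 hb1 hab hall σ hσ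
    set E := det2 a b with hE
    have hEF : E⁻¹ ∈ F₀ := F₀.inv_mem (F₀.add_mem (F₀.mul_mem ha0 hb1) (F₀.mul_mem ha1 hb0))
    obtain ⟨M, hM, hMM⟩ := hmem (a := 1 + a 1 * a 0 * E⁻¹) (b := a 1 ^ 2 * E⁻¹) (c := a 0 ^ 2 * E⁻¹)
      (d := 1 + a 0 * a 1 * E⁻¹) (F₀.add_mem F₀.one_mem (F₀.mul_mem (F₀.mul_mem ha1 ha0) hEF))
      (F₀.mul_mem (F₀.pow_mem ha1 2) hEF) (F₀.mul_mem (F₀.pow_mem ha0 2) hEF)
      (F₀.add_mem F₀.one_mem (F₀.mul_mem (F₀.mul_mem ha0 ha1) hEF))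
      (by linear_combination (a 0 ^ 2 * a 1 ^ 2 * E⁻¹ ^ 2 + a 0 * a 1 * E⁻¹) * two)
    have e := F₀.add_mem (hall σ hσ) (hall _ (C.inv M hM σ hσ))
    have ea : dot2 a (ap M σ) = dot2 a σ := by
      simp [dot2, ap_apply, hMM]
      linear_combination (a 0 ^ 2 * a 1 * E⁻¹ * σ 0 + a 0 * a 1 ^ 2 * E⁻¹ * σ 1) * two
    have eb : dot2 b (ap M σ) = dot2 b σ + dot2 a σ := by
      have hEE : E⁻¹ * (a 0 * b 1 + a 1 * b 0) = 1 := inv_mul_cancel₀ hab
      simp [dot2, ap_apply, hMM]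
      linear_combination (a 0 * σ 0 + a 1 * σ 1) * hEE
    rw [ea, eb] at e
    rw [show μ₁ ^ 2 * dot2 a σ ^ 2 = μ₁ ^ 2 * (dot2 a σ * dot2 b σ) +
      μ₁ ^ 2 * (dot2 a σ * (dot2 b σ + dot2 a σ)) by linear_combination -(μ₁ ^ 2 * dot2 a σ * dot2 b σ) * two]
    exact e
  have e1 := shear a b ha0 ha1 hb0 hb1 hD0 hprod σ hσ
  have e3 := hprod σ hσ
  obtain ⟨-, hs1, hs⟩ := hirr σ hσ
  have nz : ∀ c : V₂, c 0 ∈ F₀ → c 1 ∈ F₀ → c ≠ 0 → dot2 c σ ≠ 0 := fun c hc0 hc1 hc e => by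
    simp only [dot2] at e
    by_cases h0 : c 0 = 0
    · rw [h0] at e
      exact hc (ext2 (by simpa using h0) (by simpa using (mul_eq_zero.1 (by linear_combination e : c 1 * σ 1 = 0)).resolve_right hs1))
    · refine hs ?_
      rw [show σ 0 / σ 1 = c 1 / c 0 by
        rw [div_eq_div_iff hs1 h0]; linear_combination e - c 1 * σ 1 * two]
      exact F₀.div_mem hc1 hc0
  have hα : dot2 a σ ≠ 0 := nz a ha0 ha1 (by rintro rfl; simp [hD, det2] at hD0)
  set ρ := μ₁ ^ 2 * (dot2 a σ * dot2 b σ) / (μ₁ ^ 2 * dot2 a σ ^ 2) with hρ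
  have hρF : ρ ∈ F₀ := F₀.div_mem e3 e1
  have hρe : dot2 b σ = ρ * dot2 a σ := by rw [hρ]; field_simp
  refine nz ![b 0 + ρ * a 0, b 1 + ρ * a 1] (by simp; exact F₀.add_mem hb0 (F₀.mul_mem hρF ha0))
    (by simp; exact F₀.add_mem hb1 (F₀.mul_mem hρF ha1)) (fun e => hD0 ?_) ?_
  · have g0 := congrFun e 0
    have g1 := congrFun e 1
    simp at g0 g1
    rw [hD, det2]
    linear_combination a 0 * g1 + a 1 * g0 - ρ * a 0 * a 1 * two
  · simp only [dot2, Matrix.cons_val_zero, Matrix.cons_val_one, Matrix.head_cons] at hρe ⊢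
    linear_combination hρe + (ρ * a 0 * σ 0 + ρ * a 1 * σ 1) * two

end Config

end Cfsg.Agent.Classical.SpFourRes
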