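import Mathlib
import Cfsg.Agent.Lib.Classical.Residual.Intertwine

/-!
An absolutely irreducible matrix group over a finite field whose traces lie in a subfield is realised over it.
-/

set_option autoImplicit false
set_option linter.unusedSectionVars false

namespace Cfsg.Agent.Classical.SpFourRes

open Matrix Module

variable {F : Type*} [Field F] {ι : Type} [Fintype ι] [DecidableEq ι]

local notation "Mn" => Matrix ι ι F
local notation "Vn" => (ι → F)

/-- A monoid acting irreducibly whose centraliser is the scalars spans all endomorphisms. -/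
theorem span_top_of_schur {K : Type*} [Field K] {U : Type*} [AddCommGroup U] [Module K U]
    [FiniteDimensional K U] [Nontrivial U] {M : Type*} [Monoid M] (ρ : M →* Module.End K U)
    (hirr : ∀ S : Submodule K U, (∀ g, ∀ v ∈ S, ρ g v ∈ S) → S = ⊥ ∨ S = ⊤)
    (hschur : ∀ f : Module.End K U, (∀ g, ∀ v, f (ρ g v) = ρ g (f v)) → ∃ c : K, ∀ v, f v = c • v) :
    Submodule.span K (Set.range ρ) = ⊤ := by
  classical
  set A := Algebra.adjoin K (Set.range ρ) with hA
  have hspan : Subalgebra.toSubmodule A = Submodule.span K (Set.range ρ) := by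
    rw [hA, Algebra.adjoin_eq_span, show (Set.range ρ) = ((MonoidHom.mrange ρ : Submonoid _) : Set _) from rfl,
      Submonoid.closure_eq]
  have hρA : ∀ g, ρ g ∈ A := fun g => Algebra.subset_adjoin ⟨g, rfl⟩
  haveI : IsSimpleModule ↥A U := by
    haveI : Nontrivial (Submodule ↥A U) := Submodule.nontrivial_iff ↥A |>.mpr inferInstance
    refine { toIsSimpleOrder := { eq_bot_or_eq_top := fun S => ?_ } }
    exact (hirr (S.restrictScalars K) fun g v hv => S.smul_mem ⟨ρ g, hρA g⟩ hv).imp
      (Submodule.restrictScalars_eq_bot_iff K ↥A U).mp (Submodule.restrictScalars_eq_top_iff K ↥A U).mp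
  have hscalar : ∀ f : Module.End ↥A U, ∃ c : K, ∀ v, f v = c • v := fun f =>
    hschur (LinearMap.restrictScalars K f) fun g v => f.map_smul (⟨ρ g, hρA g⟩ : ↥A) v
  rw [← hspan]
  refine top_le_iff.mp fun T _ => ?_
  let b := Module.finBasis K U
  let T' : Module.End (Module.End ↥A U) U :=
    { toFun := T
      map_add' := map_add T
      map_smul' := fun f v => by
        obtain ⟨c, hc⟩ := hscalar f
        show T (f v) = f (T v)
        rw [hc, hc, map_smul] }
  obtain ⟨r, hr⟩ := jacobson_density T' (Finset.univ.image b)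
  have : (r : Module.End K U) = T := b.ext fun i => (hr (b i) (Finset.mem_image_of_mem _ (Finset.mem_univ i))).symm
  rw [← this]
  exact r.2

/-- The matrices of an absolutely irreducible group span all matrices. -/
theorem span_top_of_absolute [Nonempty ι] (P : Subgroup (GL ι F))
    (hirr : ∀ W : Submodule F Vn, (∀ g ∈ P, ∀ v ∈ W, (g : Mn) *ᵥ v ∈ W) → W = ⊥ ∨ W = ⊤)
    (habs : ∀ M : Mn, (∀ g ∈ P, M * (g : Mn) = (g : Mn) * M) → ∃ c : F, M = c • (1 : Mn)) :
    Submodule.span F ((fun g : GL ι F => (g : Mn)) '' P) = ⊤ := by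
  classical
  let ρ : P →* Module.End F Vn :=
    { toFun := fun g => Matrix.toLin' ((g : GL ι F) : Mn)
      map_one' := by simp [Module.End.one_eq_id]
      map_mul' := fun g h => by
        rw [Subgroup.coe_mul, Units.val_mul, Matrix.toLin'_mul]; rfl }
  have htop : Submodule.span F (Set.range ρ) = ⊤ := by
    refine span_top_of_schur ρ (fun S hS => hirr S fun g hg v hv => hS ⟨g, hg⟩ v hv) fun f hf => ?_
    obtain ⟨c, hc⟩ := habs (LinearMap.toMatrix' f) fun x hx => by
      refine Matrix.ext_iff_mulVec.2 fun v => ?_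
      rw [← Matrix.mulVec_mulVec, ← Matrix.mulVec_mulVec, LinearMap.toMatrix'_mulVec, LinearMap.toMatrix'_mulVec]
      exact hf ⟨x, hx⟩ v
    refine ⟨c, fun v => ?_⟩
    have h := LinearMap.toMatrix'_mulVec f v
    rw [hc, Matrix.smul_mulVec, Matrix.one_mulVec] at h
    exact h.symm
  have hmap := congrArg (Submodule.map (LinearMap.toMatrix' (R := F) (m := ι) (n := ι)).toLinearMap) htop
  rw [Submodule.map_span, Submodule.map_top, LinearEquiv.range, ← Set.range_comp] at hmap
  rw [← hmap]
  congr 1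
  ext M
  constructor
  · rintro ⟨g, hg, rfl⟩
    exact ⟨⟨g, hg⟩, by simp [ρ]⟩
  · rintro ⟨g, rfl⟩
    exact ⟨(g : GL ι F), g.2, by simp [ρ]⟩

/-- A finite set of endomorphisms, closed under the ring operations, whose nonzero members are bijective, is
commutative. -/
theorem comm_of_bijective {K : Type*} [Field K] {W : Type*} [AddCommGroup W] [Module K W] [Finite W]
    (D : AddSubgroup (Module.End K W)) (hmul : ∀ f ∈ D, ∀ g ∈ D, f * g ∈ D)
    (hbij : ∀ f ∈ D, f ≠ 0 → Function.Bijective f) : ∀ f ∈ D, ∀ g ∈ D, f * g = g * f := by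
  haveI : Finite (Module.End K W) := Finite.of_injective (fun f => (f : W → W)) DFunLike.coe_injective
  intro f hf g hg
  rcases eq_or_ne f 0 with rfl | hf0
  · rw [zero_mul, mul_zero]
  obtain ⟨u, hu⟩ : IsUnit f := (Module.End.isUnit_iff _).2 (hbij f hf hf0)
  haveI : Finite (Module.End K W)ˣ := Finite.of_injective Units.val Units.val_injective
  have hpow : ∀ n : ℕ, ((u ^ (n + 1) : (Module.End K W)ˣ) : Module.End K W) ∈ D := fun n => by
    induction n with
    | zero => rw [zero_add, pow_one, hu]; exact hf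
    | succ n ih => rw [pow_succ, Units.val_mul, hu]; exact hmul _ ih _ hf
  have hone : (1 : Module.End K W) ∈ D := by
    have := hpow (orderOf u - 1)
    rwa [Nat.sub_add_cancel (orderOf_pos u), pow_orderOf_eq_one, Units.val_one] at this
  let R : Subring (Module.End K W) :=
    { D with
      mul_mem' := fun {f g} hf hg => hmul f hf g hg
      one_mem' := hone }
  haveI : Finite R := Finite.of_injective Subtype.val Subtype.val_injective
  haveI : Nontrivial R := ⟨⟨⟨f, hf⟩, 0, fun e => hf0 (congrArg Subtype.val e)⟩⟩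
  haveI : NoZeroDivisors R := ⟨fun {a b} e => by
    by_cases ha : a = 0
    · exact Or.inl ha
    refine Or.inr (Subtype.ext (LinearMap.ext fun w =>
      (hbij (a : Module.End K W) a.2 (fun e' => ha (Subtype.ext e'))).1 ?_))
    rw [ZeroMemClass.coe_zero, LinearMap.zero_apply, map_zero]
    have h := congrArg (fun r : R => (r : Module.End K W) w) e
    simpa using h⟩
  haveI : IsDomain R := NoZeroDivisors.to_isDomain R
  exact congrArg Subtype.val ((Finite.isDomain_to_isField R).mul_comm (⟨f, hf⟩ : R) ⟨g, hg⟩)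

/-- A set spanning all matrices, closed under products, contains an element of rank one. -/
theorem exists_rank_one [Finite F] [Nonempty ι] (A : AddSubgroup Mn) (h1 : (1 : Mn) ∈ A)
    (hmul : ∀ a ∈ A, ∀ b ∈ A, a * b ∈ A) (hspan : Submodule.span F (A : Set Mn) = ⊤) :
    ∃ x ∈ A, ∃ v φ : Vn, v ≠ 0 ∧ φ ≠ 0 ∧ x = vecMulVec v φ := by
  classical
  obtain ⟨x, ⟨hxA, hx0⟩, hmin⟩ := Set.exists_min_image {a : Mn | a ∈ A ∧ a ≠ 0}
    (fun a => finrank F (LinearMap.range (Matrix.toLin' a))) (Set.toFinite _) ⟨1, h1, one_ne_zero⟩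
  have hout : ∀ {a}, a ∈ A → x * a * x ≠ 0 →
      LinearMap.range (Matrix.toLin' (x * a * x)) = LinearMap.range (Matrix.toLin' x) := fun {a} ha hne => by
    refine Submodule.eq_of_le_of_finrank_le ?_ (hmin _ ⟨hmul _ (hmul _ hxA _ ha) _ hxA, hne⟩)
    rw [mul_assoc, Matrix.toLin'_mul]
    exact LinearMap.range_comp_le_range _ _
  set U := LinearMap.range (Matrix.toLin' x) with hU
  have hUx : ∀ (a : Mn) (u : Vn), (x * a) *ᵥ u ∈ U := fun a u => ⟨a *ᵥ u, by
    rw [Matrix.toLin'_apply, Matrix.mulVec_mulVec]⟩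
  let res : Mn → Module.End F U := fun a =>
    ((Matrix.toLin' (x * a)).comp U.subtype).codRestrict U fun u => by
      simpa using hUx a (u : Vn)
  have hres : ∀ a (u : U), (res a u : Vn) = (x * a) *ᵥ (u : Vn) := fun a u => by simp [res]
  -- nonzero elements are bijective
  have hbij : ∀ {a}, a ∈ A → res a ≠ 0 → Function.Bijective (res a) := fun {a} ha hne => by
    have hne' : x * a * x ≠ 0 := fun e => hne (LinearMap.ext fun u => Subtype.ext (by
      obtain ⟨z, hz⟩ := u.2
      rw [hres, LinearMap.zero_apply, ZeroMemClass.coe_zero, ← hz, Matrix.toLin'_apply, Matrix.mulVec_mulVec, e,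
        Matrix.zero_mulVec]))
    have hsurj : Function.Surjective (res a) := fun ⟨u, hu⟩ => by
      have hu' : u ∈ LinearMap.range (Matrix.toLin' (x * a * x)) := by rw [hout ha hne']; exact hu
      obtain ⟨z, hz⟩ := hu'
      refine ⟨⟨x *ᵥ z, z, Matrix.toLin'_apply _ _⟩, Subtype.ext ?_⟩
      rw [hres, Matrix.mulVec_mulVec]
      rwa [Matrix.toLin'_apply] at hz
    exact ⟨LinearMap.injective_iff_surjective.2 hsurj, hsurj⟩
  let D : Set (Module.End F U) := res '' (A : Set Mn)
  have hDmul : ∀ f ∈ D, ∀ g ∈ D, f * g ∈ D := by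
    rintro _ ⟨a, ha, rfl⟩ _ ⟨b, hb, rfl⟩
    refine ⟨a * x * b, hmul _ (hmul _ ha _ hxA) _ hb, LinearMap.ext fun u => Subtype.ext ?_⟩
    rw [Module.End.mul_apply, hres, hres, hres, Matrix.mulVec_mulVec]
    simp only [mul_assoc]
  have hD0 : (0 : Module.End F U) ∈ D := ⟨0, A.zero_mem, LinearMap.ext fun u => Subtype.ext (by rw [hres]; simp)⟩
  have hDadd : ∀ f ∈ D, ∀ g ∈ D, f + g ∈ D := by
    rintro _ ⟨a, ha, rfl⟩ _ ⟨b, hb, rfl⟩
    exact ⟨a + b, A.add_mem ha hb, LinearMap.ext fun u => Subtype.ext (by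
      rw [LinearMap.add_apply, Submodule.coe_add, hres, hres, hres, mul_add, Matrix.add_mulVec])⟩
  have hDneg : ∀ f ∈ D, -f ∈ D := by
    rintro _ ⟨a, ha, rfl⟩
    exact ⟨-a, A.neg_mem ha, LinearMap.ext fun u => Subtype.ext (by
      rw [LinearMap.neg_apply, Submodule.coe_neg, hres, hres, mul_neg, Matrix.neg_mulVec])⟩
  haveI : Finite U := Subtype.finite
  have hcommR := comm_of_bijective
    ({ carrier := D
       add_mem' := fun {f g} hf hg => hDadd f hf g hg
       zero_mem' := hD0
       neg_mem' := fun {f} hf => hDneg f hf } : AddSubgroup (Module.End F U))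
    hDmul (by rintro _ ⟨a, ha, rfl⟩ hne; exact hbij ha hne)
  have key : ∀ a b : Mn, x * a * x * b * x = x * b * x * a * x := by
    have base : ∀ a ∈ A, ∀ b ∈ A, x * a * x * b * x = x * b * x * a * x := fun a ha b hb => by
      refine Matrix.ext_iff_mulVec.2 fun z => ?_
      have h := congrArg (fun r : Module.End F U => (r ⟨x *ᵥ z, z, Matrix.toLin'_apply _ _⟩ : Vn))
        (hcommR (res a) ⟨a, ha, rfl⟩ (res b) ⟨b, hb, rfl⟩)
      simp only [Module.End.mul_apply, hres, Matrix.mulVec_mulVec] at h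
      simpa only [mul_assoc] using h
    have step : ∀ a ∈ A, ∀ b : Mn, x * a * x * b * x = x * b * x * a * x := fun a ha b => by
      have hb : b ∈ Submodule.span F (A : Set Mn) := hspan ▸ Submodule.mem_top
      induction hb using Submodule.span_induction with
      | mem b hb => exact base a ha b hb
      | zero => simp
      | add b c _ _ hb hc => simp only [mul_add, add_mul, hb, hc]
      | smul c b _ hb => simp only [mul_smul_comm, smul_mul_assoc, hb]
    intro a b
    have ha : a ∈ Submodule.span F (A : Set Mn) := hspan ▸ Submodule.mem_top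
    induction ha using Submodule.span_induction with
    | mem a ha => exact step a ha b
    | zero => simp
    | add a c _ _ ha hc => simp only [mul_add, add_mul, ha, hc]
    | smul c a _ ha => simp only [mul_smul_comm, smul_mul_assoc, ha]
  -- the rank is one
  obtain ⟨z₁, hz₁⟩ : ∃ z, x *ᵥ z ≠ 0 := by
    by_contra hcon
    push Not at hcon
    exact hx0 (Matrix.ext_iff_mulVec.2 fun z => by rw [hcon z, Matrix.zero_mulVec])
  have hone : ∀ z, ∃ c : F, x *ᵥ z = c • (x *ᵥ z₁) := by
    intro z₂
    by_contra hcon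
    push Not at hcon
    have hli : LinearIndependent F ![x *ᵥ z₂, x *ᵥ z₁] :=
      linearIndependent_fin2.2 ⟨hz₁, fun c e => hcon c (by simpa using e.symm)⟩
    set e2 := Fintype.linearCombination F ![x *ᵥ z₂, x *ᵥ z₁] with he2
    obtain ⟨π, hπ⟩ := e2.exists_leftInverse_of_injective
      (LinearMap.ker_eq_bot.2 (linearIndependent_iff_injective_fintypeLinearCombination.1 hli))
    have hπi : ∀ i, π (![x *ᵥ z₂, x *ᵥ z₁] i) = Pi.single i 1 := fun i => by
      have h := congrArg (fun f => f (Pi.single i 1)) hπ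
      simpa [he2, Fintype.linearCombination_apply_single] using h
    have mk : ∀ (i : Fin 2) (t : Vn), ∃ M : Mn, M *ᵥ ![x *ᵥ z₂, x *ᵥ z₁] i = t ∧
        ∀ j, j ≠ i → M *ᵥ ![x *ᵥ z₂, x *ᵥ z₁] j = 0 := fun i t => by
      refine ⟨LinearMap.toMatrix' (((LinearMap.proj i).comp π).smulRight t), ?_, fun j hj => ?_⟩
      · rw [LinearMap.toMatrix'_mulVec, LinearMap.smulRight_apply, LinearMap.comp_apply, hπi]
        simp
      · rw [LinearMap.toMatrix'_mulVec, LinearMap.smulRight_apply, LinearMap.comp_apply, hπi]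
        simp [hj.symm]
    obtain ⟨a, ha1, ha0⟩ := mk 1 z₂
    obtain ⟨b', hb1, hb0⟩ := mk 0 z₁
    have e := congrArg (fun M : Mn => M *ᵥ z₂) (key a b')
    simp only [← Matrix.mulVec_mulVec] at e
    have a0 := ha0 0 (by decide)
    simp only [Matrix.cons_val_zero, Matrix.cons_val_one] at ha1 hb1 a0
    rw [a0, hb1, ha1] at e
    simp only [Matrix.mulVec_zero] at e
    exact hli.ne_zero 0 (by simpa using e)
  choose φ hφ using hone
  refine ⟨x, hxA, x *ᵥ z₁, fun j => φ (Pi.single j 1), hz₁, fun e => hx0 ?_, Matrix.ext fun i j => ?_⟩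
  · refine Matrix.ext fun i j => ?_
    have h := congrFun (hφ (Pi.single j 1)) i
    rw [Matrix.mulVec_single_one] at h
    rw [show x i j = x.col j i from rfl, h, show φ (Pi.single j 1) = 0 from congrFun e j]
    simp
  · have h := congrFun (hφ (Pi.single j 1)) i
    rw [Matrix.mulVec_single_one] at h
    rw [show x i j = x.col j i from rfl, h]
    simp [vecMulVec, mul_comm]

/-- Traces in a subfield give a rational form. -/
theorem realisable_of_trace [Finite F] [Nonempty ι] (P : Subgroup (GL ι F))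
    (hirr : ∀ W : Submodule F Vn, (∀ g ∈ P, ∀ v ∈ W, (g : Mn) *ᵥ v ∈ W) → W = ⊥ ∨ W = ⊤)
    (habs : ∀ M : Mn, (∀ g ∈ P, M * (g : Mn) = (g : Mn) * M) → ∃ c : F, M = c • (1 : Mn))
    (F₀ : Subfield F) (htr : ∀ g ∈ P, trace (g : Mn) ∈ F₀) :
    ∃ B : GL ι F, ∀ g ∈ P, ∀ i j, ((B⁻¹ * g * B : GL ι F) : Mn) i j ∈ F₀ := by
  classical
  set gen : Set Mn := {M | ∃ a ∈ F₀, ∃ g ∈ P, M = a • (g : Mn)} with hgen
  set A := AddSubgroup.closure gen with hA
  have hmul : ∀ a ∈ A, ∀ b ∈ A, a * b ∈ A := by
    intro a ha b hb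
    induction ha using AddSubgroup.closure_induction with
    | mem a ha =>
      obtain ⟨c, hc, g, hg, rfl⟩ := ha
      induction hb using AddSubgroup.closure_induction with
      | mem b hb =>
        obtain ⟨d, hd, h, hh, rfl⟩ := hb
        exact AddSubgroup.subset_closure ⟨c * d, F₀.mul_mem hc hd, g * h, mul_mem hg hh, by
          rw [Units.val_mul, smul_mul_smul_comm]⟩
      | zero => rw [mul_zero]; exact A.zero_mem
      | add b c _ _ hb hc => rw [mul_add]; exact A.add_mem hb hc
      | neg b _ hb => rw [mul_neg]; exact A.neg_mem hb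
    | zero => rw [zero_mul]; exact A.zero_mem
    | add a c _ _ ha hc => rw [add_mul]; exact A.add_mem ha hc
    | neg a _ ha => rw [neg_mul]; exact A.neg_mem ha
  have hgA : ∀ g ∈ P, (g : Mn) ∈ A := fun g hg =>
    AddSubgroup.subset_closure ⟨1, F₀.one_mem, g, hg, (one_smul F _).symm⟩
  have h1 : (1 : Mn) ∈ A := by simpa using hgA 1 (one_mem P)
  have htrA : ∀ a ∈ A, trace a ∈ F₀ := fun a ha => by
    induction ha using AddSubgroup.closure_induction with
    | mem a ha =>
      obtain ⟨c, hc, g, hg, rfl⟩ := ha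
      rw [trace_smul, smul_eq_mul]; exact F₀.mul_mem hc (htr g hg)
    | zero => rw [trace_zero]; exact F₀.zero_mem
    | add a b _ _ ha hb => rw [trace_add]; exact F₀.add_mem ha hb
    | neg a _ ha => rw [trace_neg]; exact F₀.neg_mem ha
  have hspan : Submodule.span F (A : Set Mn) = ⊤ := top_le_iff.1 (by
    rw [← span_top_of_absolute P hirr habs]
    exact Submodule.span_mono (by rintro _ ⟨g, hg, rfl⟩; exact hgA g hg))
  obtain ⟨x, hx, v, φ, hv, hφ, hxe⟩ := exists_rank_one A h1 hmul hspan
  let S : Submonoid Mn := { carrier := A, one_mem' := h1, mul_mem' := fun {a b} ha hb => hmul a ha b hb }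
  obtain ⟨B, hB⟩ := Residual.exists_rational (ρ := S.subtype) (g₀ := ⟨x, hx⟩) (c := 0)
    (fun W hW => hirr W fun g hg v hv => hW ⟨(g : Mn), hgA g hg⟩ v hv) F₀ (fun g => htrA _ g.2) F₀.zero_mem hv hφ
    (by rw [zero_smul, add_zero]; exact hxe)
  refine ⟨B⁻¹, fun g hg i j => ?_⟩
  rw [inv_inv, Units.val_mul, Units.val_mul]
  exact hB ⟨(g : Mn), hgA g hg⟩ i j

end Cfsg.Agent.Classical.SpFourRes
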