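import Cfsg.Agent.Lib.Classical.SpFourRes.Primes
import Cfsg.Agent.Lib.Classical.SpFourRes.Realise
import Cfsg.Agent.S0254

/-!
`A₆` in a residual subgroup: all traces lie in the prime field.
-/

set_option autoImplicit false
set_option linter.unusedSectionVars false

namespace Cfsg.Agent.Classical.SpFourRes

open Matrix Polynomial

variable {F : Type*} [Field F] [CharP F 2]

local notation "V₄" => (Fin 2 ⊕ Fin 2 → F)
local notation "M₄" => Matrix (Fin 2 ⊕ Fin 2) (Fin 2 ⊕ Fin 2) F
local notation "G₄" => GL (Fin 2 ⊕ Fin 2) F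

theorem trace_sq_eq (M : Matrix (Fin 2 ⊕ Fin 2) (Fin 2 ⊕ Fin 2) F) : trace (M * M) = trace M ^ 2 := by
  simp only [Matrix.trace, Matrix.diag, Matrix.mul_apply, Fintype.sum_sum_type, Fin.sum_univ_two]
  have two := CharTwo.two_eq_zero (R := F)
  grind

theorem trace_inv {g : G₄} (hg : g ∈ spGL 2 F) : trace ((g⁻¹ : G₄) : M₄) = trace (g : M₄) := by
  rw [trace_eq_neg_charpoly_coeff, trace_eq_neg_charpoly_coeff, charpoly_inv hg]

theorem trace_conj (g h : G₄) : trace ((h * g * h⁻¹ : G₄) : M₄) = trace (g : M₄) := by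
  rw [Units.val_mul, Units.val_mul, Matrix.trace_mul_comm, ← mul_assoc, Units.inv_mul, one_mul]

/-- A trace outside the prime field in order five forces a fixed vector. -/
theorem five_fix {g : G₄} (hg : g ∈ spGL 2 F) (h5 : g ^ 5 = 1) (h0 : trace (g : M₄) ≠ 0)
    (h1 : trace (g : M₄) ≠ 1) : ∃ v : V₄, v ≠ 0 ∧ act g v = v := by
  have two := CharTwo.two_eq_zero (R := F)
  set M : M₄ := (g : M₄) with hM
  set N : M₄ := ((g⁻¹ : G₄) : M₄) with hN
  set t := trace M with ht
  have hMN : M * N = 1 := Units.mul_inv g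
  have hpow : ∀ k, ((g ^ k : G₄) : M₄) = M ^ k := fun k => Units.val_pow_eq_pow_val g k
  have h4 : N = M ^ 4 := by
    rw [hN, ← hpow, inv_eq_of_mul_eq_one_left (show g ^ 4 * g = 1 by rw [← pow_succ]; exact h5)]
  have t4 : t ^ 4 = t := by
    conv_rhs => rw [ht, ← trace_inv hg, ← hN, h4]
    rw [show M ^ 4 = (M * M) * (M * M) by simp only [pow_succ, pow_zero, one_mul, mul_assoc], trace_sq_eq,
      trace_sq_eq, ← ht]
    ring
  have t3 : trace (M ^ 3) = t ^ 2 := by
    rw [← hpow, show g ^ 3 = (g ^ 2)⁻¹ from eq_inv_of_mul_eq_one_left (by rw [← pow_add]; exact h5),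
      trace_inv (pow_mem hg 2), hpow, pow_two, trace_sq_eq]
  have tq : t ^ 2 + t + 1 = 0 := by
    have : t * (t + 1) * (t ^ 2 + t + 1) = 0 := by linear_combination t4 + (t ^ 3 + t ^ 2 + t) * two
    rcases mul_eq_zero.1 this with h | h
    · rcases mul_eq_zero.1 h with h | h
      · exact absurd h h0
      · exact absurd (CharTwo.add_eq_zero.1 h) h1
    · exact h
  -- the characteristic polynomial
  set χ := M.charpoly with hχ
  have hdeg : χ.natDegree = 4 := by rw [hχ, Matrix.charpoly_natDegree_eq_dim]; rfl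
  have c4 : χ.coeff 4 = 1 := by rw [← hdeg]; exact (Matrix.charpoly_monic M).coeff_natDegree
  have c3 : χ.coeff 3 = t := by
    rw [ht, trace_eq_neg_charpoly_coeff, CharTwo.neg_eq]; rfl
  have c0 : χ.coeff 0 = 1 := by
    have a : M.det = χ.coeff 0 := by rw [det_eq_sign_charpoly_coeff, CharTwo.neg_eq, one_pow, one_mul]
    have b : N.det = χ.coeff 0 := by
      rw [det_eq_sign_charpoly_coeff, CharTwo.neg_eq, one_pow, one_mul, hN, charpoly_inv hg]
    have e := congrArg Matrix.det hMN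
    rw [Matrix.det_mul, a, b, Matrix.det_one] at e
    exact CharTwo.add_eq_zero.1 (pow_eq_zero_iff two_ne_zero |>.1 (show (χ.coeff 0 + 1) ^ 2 = 0 by
      linear_combination e + (χ.coeff 0 + 1) * two))
  have CH : ∀ X : M₄, X.charpoly = χ →
      (1 : F) • (1 : M₄) + χ.coeff 1 • X + χ.coeff 2 • X ^ 2 + t • X ^ 3 + X ^ 4 = 0 := fun X hX => by
    have e := Matrix.aeval_self_charpoly X
    rw [hX, aeval_eq_sum_range, hdeg] at e
    simpa [Finset.sum_range_succ, c0, c3, c4, add_assoc] using e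
  have e1 := CH M rfl
  have e2 := CH N (charpoly_inv hg)
  have hNk : ∀ k, k ≤ 4 → N ^ k * M ^ 4 = M ^ (4 - k) := fun k hk => by
    have hc : Commute N M := show N * M = M * N by rw [hMN]; exact Units.inv_mul g
    conv_lhs => rw [show 4 = k + (4 - k) by omega, pow_add, ← mul_assoc, ← hc.mul_pow, hc.eq, hMN, one_pow,
      one_mul]
  have e3 := congrArg (· * M ^ 4) e2
  simp only [add_mul, smul_mul_assoc, one_mul, zero_mul, hNk _ le_rfl, hNk 3 (by omega), hNk 2 (by omega)] at e3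
  have eN : N * M ^ 4 = M ^ 3 := by
    have := hNk 1 (by omega)
    rwa [pow_one] at this
  rw [eN] at e3
  simp only [show (4 - 4) = 0 from rfl, show (4 - 3) = 1 from rfl, show (4 - 2) = 2 from rfl, pow_zero, pow_one,
    one_smul] at e3 e1
  have c1 : χ.coeff 1 = t := by
    by_contra hne
    have hd : (χ.coeff 1 + t) • (M ^ 3 + M) = 0 := by
      have e := congrArg₂ (· + ·) e1 e3
      simp only [add_zero] at e
      rw [← e]
      have hs : ∀ X : M₄, X + X = 0 := fun X => Matrix.ext fun i j => CharTwo.add_self_eq_zero _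
      calc (χ.coeff 1 + t) • (M ^ 3 + M)
          = χ.coeff 1 • M + t • M + χ.coeff 1 • M ^ 3 + t • M ^ 3 +
              ((M ^ 4 + M ^ 4) + (1 + 1) + (χ.coeff 2 • M ^ 2 + χ.coeff 2 • M ^ 2)) := by
            rw [hs (M ^ 4), hs (1 : M₄), hs (χ.coeff 2 • M ^ 2), smul_add, add_smul, add_smul]; abel
        _ = _ := by abel
    have h : M ^ 3 + M = 0 := by
      rcases smul_eq_zero.1 hd with h | h
      · exact absurd (CharTwo.add_eq_zero.1 h) hne
      · exact h
    have h2 : (M ^ 3 + M) * N = 0 := by rw [h, zero_mul]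
    rw [add_mul, hMN, pow_succ, mul_assoc, hMN, mul_one] at h2
    have hg2 : g ^ 2 = 1 := Units.ext (Matrix.ext fun i j => by
      rw [hpow, Units.val_one]; exact CharTwo.add_eq_zero.1 (congrFun (congrFun h2 i) j))
    have hg1 : g = 1 := by
      rw [← h5, show 5 = 2 * 2 + 1 from rfl, pow_succ, pow_mul, hg2, one_pow, one_mul]
    apply h0
    rw [ht, hM, hg1, Units.val_one, Matrix.trace_one]
    show ((4 : ℕ) : F) = 0
    rw [show (4 : ℕ) = 2 * 2 from rfl, Nat.cast_mul, Nat.cast_two, two, zero_mul]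
  -- the middle coefficient vanishes
  have c2 : χ.coeff 2 = 0 := by
    have e := congrArg (fun X => trace (X * N)) e1
    simp only [add_mul, smul_mul_assoc, one_mul, zero_mul, Matrix.trace_add, Matrix.trace_smul,
      Matrix.trace_zero, smul_eq_mul, hMN, pow_succ, pow_zero, mul_assoc, mul_one] at e
    have q3 : trace (M * (M * M)) = t ^ 2 := by rw [← t3, pow_succ, pow_two, mul_assoc]
    have h1' : trace (1 : M₄) = 0 := by
      rw [Matrix.trace_one]
      show ((4 : ℕ) : F) = 0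
      rw [show (4 : ℕ) = 2 * 2 from rfl, Nat.cast_mul, Nat.cast_two, two, zero_mul]
    rw [q3, trace_sq_eq, h1', hN, trace_inv hg, ← ht] at e
    exact (mul_eq_zero.1 (show t * χ.coeff 2 = 0 by
      linear_combination e + (-χ.coeff 2 * t - t * tq + χ.coeff 2 * t) * 1 - (0 : F) * two)).resolve_left h0
  have hev : (scalar (Fin 2 ⊕ Fin 2) (1 : F) - M).det = 0 := by
    rw [← eval_charpoly, eval_eq_sum_range, ← hχ, hdeg]
    simp [Finset.sum_range_succ, c0, c1, c2, c3, c4]
    linear_combination (1 + t) * two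
  obtain ⟨v, hv, hv'⟩ := Matrix.exists_mulVec_eq_zero_iff.2 hev
  rw [Matrix.sub_mulVec, map_one, Matrix.one_mulVec, sub_eq_zero] at hv'
  exact ⟨v, hv, hv'.symm⟩

/-- A product of an involution and a fixed-point-free element of order three fixes nothing. -/
theorem prod_no_fix {a b : G₄} (ha : a * a = 1) (hb : ∀ x : V₄, act b (act b x) = x + act b x)
    (h5 : (a * b) ^ 5 = 1) {v : V₄} (hv : act (a * b) v = v) : v = 0 := by
  rw [act_mul] at hv
  set w := act b v with hw
  have haw : act a w = v := hv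
  have hav : act a v = w := by rw [← haw, ← act_mul, ha, act_one]
  have hgw : act (a * b) w = v + w := by rw [act_mul, hw, hb, ← hw, act_add, hav, haw, add_comm]
  have hgv : act (a * b) v = v := by rw [act_mul]; exact hv
  have hself : ∀ x : V₄, x + x = 0 := fun x => funext fun i => CharTwo.add_self_eq_zero _
  have h2 : act ((a * b) ^ 2) w = w := by
    rw [pow_two, act_mul, hgw, act_add, hgv, hgw, ← add_assoc, hself, zero_add]
  have : act ((a * b) ^ 5) w = v + w := by
    rw [show 5 = 1 + 2 + 2 from rfl, pow_add, pow_add, pow_one, act_mul, act_mul, h2, h2, hgw]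
  rw [h5, act_one] at this
  simpa using this.symm

/-- The projection onto the fixed space of an element of order three. -/
def fixProj (c : Matrix (Fin 2 ⊕ Fin 2) (Fin 2 ⊕ Fin 2) F) : Matrix (Fin 2 ⊕ Fin 2) (Fin 2 ⊕ Fin 2) F :=
  1 + c + c ^ 2

/-- The rank. -/
noncomputable def rk (E : Matrix (Fin 2 ⊕ Fin 2) (Fin 2 ⊕ Fin 2) F) : ℕ :=
  Module.finrank F (LinearMap.range (Matrix.toLin' E))

theorem rk_ne_one {E : M₄} (he : E * E = E) (hadj : ∀ x y, sf (E *ᵥ x) y = sf x (E *ᵥ y)) : rk E ≠ 1 := fun h => by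
  obtain ⟨⟨v, z, hz⟩, hv0, hall⟩ := finrank_eq_one_iff'.1 h
  rw [Matrix.toLin'_apply] at hz
  have hEv : E *ᵥ v = v := by rw [← hz, Matrix.mulVec_mulVec, he]
  refine hv0 (Subtype.ext (eq_of_sf_eq fun y => ?_))
  obtain ⟨l, hl⟩ := hall ⟨E *ᵥ y, y, Matrix.toLin'_apply _ _⟩
  have hl' : l • v = E *ᵥ y := congrArg Subtype.val hl
  show sf v y = sf 0 y
  rw [← hEv, hadj, ← hl', sf_smul_right, sf_self, mul_zero, sf_eq]
  simp

theorem rk_eq_zero {E : M₄} (h : rk E = 0) : E = 0 := by
  have h' := Submodule.finrank_eq_zero.1 h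
  rw [LinearMap.range_eq_bot] at h'
  exact Matrix.toLin'.injective (h'.trans (map_zero _).symm)

theorem rk_eq_two {E : M₄} (he : E * E = E) (hadj : ∀ x y, sf (E *ᵥ x) y = sf x (E *ᵥ y)) (h0 : E ≠ 0) (h1 : E ≠ 1) :
    rk E = 2 := by
  have two := CharTwo.two_eq_zero (R := F)
  have he' : (1 - E) * (1 - E) = 1 - E := by rw [sub_mul, one_mul, mul_sub, mul_one, he, sub_self, sub_zero]
  have hadj' : ∀ x y, sf ((1 - E) *ᵥ x) y = sf x ((1 - E) *ᵥ y) := fun x y => by
    have h := hadj x y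
    rw [sf_eq, sf_eq] at h ⊢
    simp only [Matrix.sub_mulVec, Matrix.one_mulVec, Pi.sub_apply]
    linear_combination -h
  have hker : LinearMap.ker (Matrix.toLin' E) = LinearMap.range (Matrix.toLin' (1 - E)) := by
    ext x
    rw [LinearMap.mem_ker, Matrix.toLin'_apply]
    constructor
    · exact fun h => ⟨x, by rw [Matrix.toLin'_apply, Matrix.sub_mulVec, Matrix.one_mulVec, h, sub_zero]⟩
    · rintro ⟨y, rfl⟩
      rw [Matrix.toLin'_apply, Matrix.mulVec_mulVec, mul_sub, mul_one, he, sub_self, Matrix.zero_mulVec]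
  have hsum := LinearMap.finrank_range_add_finrank_ker (Matrix.toLin' E)
  rw [hker, Module.finrank_pi] at hsum
  change rk E + rk (1 - E) = 4 at hsum
  have := rk_ne_one he hadj
  have := rk_ne_one he' hadj'
  have : rk E ≠ 0 := fun h => h0 (rk_eq_zero h)
  have : rk (1 - E) ≠ 0 := fun h => h1 (sub_eq_zero.1 (rk_eq_zero h)).symm
  omega

theorem idem_eq {E G : M₄} (hE : E * E = E) (hG : G * G = G) (hc : E * G = G * E) (hEG : E * G = E) (hr : rk E = rk G) : E = G := by
  have hle : LinearMap.range (Matrix.toLin' E) ≤ LinearMap.range (Matrix.toLin' G) := by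
    rintro _ ⟨x, rfl⟩
    refine ⟨E *ᵥ x, ?_⟩
    rw [Matrix.toLin'_apply, Matrix.toLin'_apply, Matrix.mulVec_mulVec, ← hc, hEG]
  have heq := Submodule.eq_of_le_of_finrank_eq hle hr
  rw [← hEG]
  refine Matrix.ext_iff_mulVec.2 fun x => ?_
  have hm : Matrix.toLin' G x ∈ LinearMap.range (Matrix.toLin' E) := heq ▸ ⟨x, rfl⟩
  obtain ⟨y, hy⟩ := hm
  rw [Matrix.toLin'_apply, Matrix.toLin'_apply] at hy
  rw [← Matrix.mulVec_mulVec, ← hy, Matrix.mulVec_mulVec, hE]

/-- The identities between the four projections. -/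
theorem proj_ident {R : Type*} [CommRing R] (h2 : (2 : R) = 0) {a b : R} (ha : a ^ 3 = 1) (hb : b ^ 3 = 1) :
    let e : R → R := fun c => 1 + c + c ^ 2
    e a * e (a * b) = e a * e b ∧ e a * e (a * b ^ 2) = e a * e b ∧ e b * e (a * b) = e a * e b ∧
      e a + e b + e (a * b) + e (a * b ^ 2) = e a * e b + 1 := by
  refine ⟨?_, ?_, ?_, ?_⟩ <;> grind

/-- Two commuting elements of order three cannot have all four cyclic subgroups with fixed vectors. -/
theorem no_four_fix {A B : M₄} (hA : A ^ 3 = 1) (hB : B ^ 3 = 1) (hc : A * B = B * A)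
    (hadj : ∀ X : M₄, X ∈ ({A, B, A * B, A * B ^ 2} : Set M₄) → ∀ x y, sf (fixProj X *ᵥ x) y = sf x (fixProj X *ᵥ y))
    (hne : ∀ X : M₄, X ∈ ({A, B, A * B, A * B ^ 2} : Set M₄) → fixProj X ≠ 0 ∧ fixProj X ≠ 1) : False := by
  have two := CharTwo.two_eq_zero (R := F)
  set S := Algebra.adjoin F ({A, B} : Set M₄)
  letI : CommRing S := Algebra.adjoinCommRingOfComm F (by
    rintro x (rfl | rfl) y (rfl | rfl) <;> first | rfl | exact hc | exact hc.symm)
  let a : S := ⟨A, Algebra.subset_adjoin (by simp)⟩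
  let b : S := ⟨B, Algebra.subset_adjoin (by simp)⟩
  have hS2 : (2 : S) = 0 := Subtype.ext (Matrix.ext fun i j => by
    show (2 : M₄) i j = 0
    rw [show (2 : M₄) = 1 + 1 from (one_add_one_eq_two).symm, Matrix.add_apply]
    exact CharTwo.add_self_eq_zero _)
  obtain ⟨k1, k2, k3, k4⟩ := proj_ident hS2 (a := a) (b := b) (Subtype.ext hA) (Subtype.ext hB)
  have k1' : fixProj A * fixProj (A * B) = fixProj A * fixProj B := congrArg Subtype.val k1
  have k2' : fixProj A * fixProj (A * B ^ 2) = fixProj A * fixProj B := congrArg Subtype.val k2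
  have k3' : fixProj B * fixProj (A * B) = fixProj A * fixProj B := congrArg Subtype.val k3
  have k4' : fixProj A + fixProj B + fixProj (A * B) + fixProj (A * B ^ 2) = fixProj A * fixProj B + 1 :=
    congrArg Subtype.val k4
  have memS : ∀ X : M₄, X ∈ ({A, B, A * B, A * B ^ 2} : Set M₄) → fixProj X ∈ S ∧ X ^ 3 = 1 := fun X hX => by
    have hAS : A ∈ S := Algebra.subset_adjoin (by simp)
    have hBS : B ∈ S := Algebra.subset_adjoin (by simp)
    have hX' : X ∈ S ∧ X ^ 3 = 1 := by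
      rcases hX with rfl | rfl | rfl | rfl
      · exact ⟨hAS, hA⟩
      · exact ⟨hBS, hB⟩
      · exact ⟨mul_mem hAS hBS, by rw [(show Commute A B from hc).mul_pow, hA, hB, one_mul]⟩
      · refine ⟨mul_mem hAS (pow_mem hBS 2), ?_⟩
        rw [((show Commute A B from hc).pow_right 2).mul_pow, hA, ← pow_mul, pow_mul', hB, one_pow, one_mul]
    exact ⟨add_mem (add_mem (one_mem S) hX'.1) (pow_mem hX'.1 2), hX'.2⟩
  have comm : ∀ X Y : M₄, X ∈ S → Y ∈ S → X * Y = Y * X := fun X Y hX hY =>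
    congrArg Subtype.val (mul_comm (⟨X, hX⟩ : S) ⟨Y, hY⟩)
  have idem : ∀ X : M₄, X ∈ ({A, B, A * B, A * B ^ 2} : Set M₄) → fixProj X * fixProj X = fixProj X := fun X hX => by
    have h3 := (memS X hX).2
    have hs : ∀ Y : M₄, Y + Y = 0 := fun Y => Matrix.ext fun i j => CharTwo.add_self_eq_zero _
    have h : X * fixProj X = fixProj X := by
      rw [fixProj, mul_add, mul_add, mul_one, ← pow_succ', h3, pow_two]; abel
    calc fixProj X * fixProj X = fixProj X + X * fixProj X + X * (X * fixProj X) := by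
          conv_lhs => arg 1; rw [fixProj, pow_two]
          rw [add_mul, add_mul, one_mul, mul_assoc]
      _ = fixProj X := by rw [h, h, hs, zero_add]
  have rank2 : ∀ X : M₄, X ∈ ({A, B, A * B, A * B ^ 2} : Set M₄) → rk (fixProj X) = 2 := fun X hX =>
    rk_eq_two (idem X hX) (hadj X hX) (hne X hX).1 (hne X hX).2
  have mA : A ∈ ({A, B, A * B, A * B ^ 2} : Set M₄) := by simp
  have mB : B ∈ ({A, B, A * B, A * B ^ 2} : Set M₄) := by simp
  have mAB : A * B ∈ ({A, B, A * B, A * B ^ 2} : Set M₄) := by simp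
  have mAB2 : A * B ^ 2 ∈ ({A, B, A * B, A * B ^ 2} : Set M₄) := by simp
  set EA := fixProj A
  set EB := fixProj B
  set T := EA * EB with hT
  have cAB := comm EA EB (memS A mA).1 (memS B mB).1
  have hTT : T * T = T := by
    rw [hT, mul_assoc, ← mul_assoc EB, ← cAB, mul_assoc EA EB, idem B mB, ← mul_assoc, idem A mA]
  have hTadj : ∀ x y, sf (T *ᵥ x) y = sf x (T *ᵥ y) := fun x y => by
    conv_lhs => rw [hT, ← Matrix.mulVec_mulVec, hadj A mA, hadj B mB]
    rw [Matrix.mulVec_mulVec, ← cAB]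
  by_cases h0 : T = 0
  · have key : ∀ X, X ∈ ({A, B, A * B, A * B ^ 2} : Set M₄) → EA * fixProj X = 0 → fixProj X = 1 - EA := by
      intro X hX h
      have cX := comm EA (fixProj X) (memS A mA).1 (memS X hX).1
      have hG : (1 - EA) * (1 - EA) = 1 - EA := by
        rw [sub_mul, one_mul, mul_sub, mul_one, idem A mA, sub_self, sub_zero]
      refine idem_eq (idem X hX) hG (by rw [mul_sub, mul_one, sub_mul, one_mul, cX])
        (by rw [mul_sub, mul_one, ← cX, h, sub_zero]) ?_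
      rw [rank2 X hX]
      refine (rk_eq_two hG (fun x y => ?_) ?_ ?_).symm
      · have h := hadj A mA x y
        rw [sf_eq, sf_eq] at h ⊢
        simp only [Matrix.sub_mulVec, Matrix.one_mulVec, Pi.sub_apply]
        linear_combination -h
      · exact fun e => (hne A mA).2 (sub_eq_zero.1 e).symm
      · exact fun e => (hne A mA).1 (by simpa using e)
    have e1 := key B mB h0
    have e2 := key (A * B) mAB (k1'.trans h0)
    have e3 := k3'
    rw [e2, ← e1, idem B mB] at e3
    exact (hne B mB).1 (e3.trans h0)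
  · have hT1 : T ≠ 1 := fun h => (hne A mA).2 (by
      calc EA = EA * T := by rw [h, mul_one]
        _ = T := by rw [hT, ← mul_assoc, idem A mA]
        _ = 1 := h)
    have hr : rk T = 2 := rk_eq_two hTT hTadj h0 hT1
    have key : ∀ X, X ∈ ({A, B, A * B, A * B ^ 2} : Set M₄) → T * fixProj X = T → fixProj X = T := fun X hX h =>
      (idem_eq hTT (idem X hX) (comm T (fixProj X) (mul_mem (memS A mA).1 (memS B mB).1) (memS X hX).1) h
        (by rw [hr, rank2 X hX])).symm
    have a1 : EA = T := key A mA (by rw [hT, mul_assoc, ← cAB, ← mul_assoc, idem A mA])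
    have a2 : EB = T := key B mB (by rw [hT, mul_assoc, idem B mB])
    have a3 : fixProj (A * B) = T := key _ mAB (by rw [← a1, k1', a1])
    have a4 : fixProj (A * B ^ 2) = T := key _ mAB2 (by rw [← a1, k2', a1])
    rw [a3, a4, a1, a2] at k4'
    have hs : ∀ Y : M₄, Y + Y = 0 := fun Y => Matrix.ext fun i j => CharTwo.add_self_eq_zero _
    rw [hs, zero_add, hs] at k4'
    exact hT1 (by
      have := congrArg (T + ·) k4'
      simp only [add_zero, ← add_assoc, hs, zero_add] at this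
      exact this)

theorem perm_six_orders :
    ∀ σ : Equiv.Perm (Fin 6), Equiv.Perm.sign σ = 1 → σ ^ 3 = 1 ∨ σ ^ 4 = 1 ∨ σ ^ 5 = 1 := by
  decide +kernel

/-- The elements used in `A₆`. -/
theorem six_facts : ∃ a b i₁ i₂ : alternatingGroup (Fin 6), (a ^ 3 = 1 ∧ a ≠ 1 ∧ b ^ 3 = 1 ∧ b ≠ 1 ∧ a * b = b * a) ∧
      ((a * b) ^ 3 = 1 ∧ a * b ≠ 1 ∧ (a * b ^ 2) ^ 3 = 1 ∧ a * b ^ 2 ≠ 1) ∧
      (i₁ * i₁ = 1 ∧ i₂ * i₂ = 1) ∧ ((i₁ * a) ^ 5 = 1 ∧ i₁ * a ≠ 1 ∧ (i₁ * b) ^ 5 = 1 ∧ i₁ * b ≠ 1) ∧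
      ((i₂ * (a * b)) ^ 5 = 1 ∧ i₂ * (a * b) ≠ 1 ∧ (i₂ * (a * b ^ 2)) ^ 5 = 1 ∧ i₂ * (a * b ^ 2) ≠ 1) := by
  refine ⟨⟨Equiv.swap 0 1 * Equiv.swap 1 2, Equiv.Perm.mem_alternatingGroup.2 (by decide)⟩,
    ⟨Equiv.swap 3 4 * Equiv.swap 4 5, Equiv.Perm.mem_alternatingGroup.2 (by decide)⟩,
    ⟨Equiv.swap 1 3 * Equiv.swap 2 4, Equiv.Perm.mem_alternatingGroup.2 (by decide)⟩,
    ⟨Equiv.swap 2 3 * Equiv.swap 4 5, Equiv.Perm.mem_alternatingGroup.2 (by decide)⟩, ?_⟩
  refine ⟨?_, ?_, ?_, ?_, ?_⟩ <;> decide +kernel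

variable [Fintype F]

/-- `A₆` does not occur. -/
theorem Res.not_alt_six {P : Subgroup G₄} (R : Res P) (h4 : 4 ≤ Fintype.card F)
    (e : P ≃* alternatingGroup (Fin 6)) : False := by
  classical
  have two := CharTwo.two_eq_zero (R := F)
  set f : alternatingGroup (Fin 6) →* G₄ := P.subtype.comp e.symm.toMonoidHom with hf
  have hinj : Function.Injective f := P.subtype_injective.comp e.symm.injective
  have hmem : ∀ x, f x ∈ P := fun x => (e.symm x).2
  have hsp : ∀ x, f x ∈ spGL 2 F := fun x => R.simp'.le (hmem x)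
  have tr1 : trace (1 : M₄) = 0 := by
    rw [Matrix.trace_one]
    show ((4 : ℕ) : F) = 0
    rw [show (4 : ℕ) = 2 * 2 from rfl, Nat.cast_mul, Nat.cast_two, two, zero_mul]
  by_cases hall : ∀ x, trace (f x : M₄) = 0 ∨ trace (f x : M₄) = 1
  · obtain ⟨B, hB⟩ := realisable_of_trace P R.irr R.absolute (⊥ : Subfield F) fun g hg => by
      have hx : g = f (e ⟨g, hg⟩) := by simp [hf]
      rcases hall (e ⟨g, hg⟩) with h | h <;> rw [hx, h]
      · exact zero_mem _
      · exact one_mem _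
    refine R.noSub ⊥ (fun htop => ?_) B hB
    -- the prime field is too small
    have hS : ∀ x : F, x = 0 ∨ x = 1 := fun x => by
      let S : Subfield F :=
        { carrier := {0, 1}
          mul_mem' := by rintro x y (rfl | rfl) (rfl | rfl) <;> simp
          one_mem' := by simp
          add_mem' := by rintro x y (rfl | rfl) (rfl | rfl) <;> simp [CharTwo.add_self_eq_zero]
          zero_mem' := by simp
          neg_mem' := by rintro x (rfl | rfl) <;> simp [CharTwo.neg_eq]
          inv_mem' := by rintro x (rfl | rfl) <;> simp }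
      have hx : x ∈ S := (bot_le : ⊥ ≤ S) (htop ▸ Subfield.mem_top x)
      exact hx
    have : Fintype.card F ≤ ({0, 1} : Finset F).card := by
      rw [← Finset.card_univ]
      exact Finset.card_le_card fun x _ => by rcases hS x with h | h <;> simp [h]
    have := Finset.card_le_two (a := (0 : F)) (b := 1)
    omega
  push Not at hall
  obtain ⟨x, hx0, hx1⟩ := hall
  -- it has order five
  have hfp : ∀ y (n : ℕ), f (y ^ n) = f y ^ n := fun y n => map_pow f y n
  have h5 : x ^ 5 = 1 := by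
    have hor : x ^ 3 = 1 ∨ x ^ 4 = 1 ∨ x ^ 5 = 1 :=
      (perm_six_orders x.1 (Equiv.Perm.mem_alternatingGroup.1 x.2)).imp (fun h => Subtype.ext h)
        (Or.imp (fun h => Subtype.ext h) (fun h => Subtype.ext h))
    rcases hor with h | h | h
    · exfalso
      have e2 : f x ^ 2 = (f x)⁻¹ := eq_inv_of_mul_eq_one_left (by rw [← pow_succ, ← hfp, h, map_one])
      have ht : trace ((f x ^ 2 : G₄) : M₄) = trace (((f x)⁻¹ : G₄) : M₄) := by rw [e2]
      rw [Units.val_pow_eq_pow_val, pow_two, trace_sq_eq, trace_inv (hsp x)] at ht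
      exact (mul_eq_zero.1 (show trace (f x : M₄) * (trace (f x : M₄) + 1) = 0 by
        linear_combination ht + trace (f x : M₄) * two)).elim hx0 fun e => hx1 (CharTwo.add_eq_zero.1 e)
    · exfalso
      have e4 : (f x : M₄) * (f x : M₄) * ((f x : M₄) * (f x : M₄)) = 1 := by
        rw [← Units.val_mul, ← Units.val_mul, ← map_mul, ← map_mul, ← mul_assoc,
          show x * x * x * x = x ^ 4 by simp [pow_succ], h, map_one, Units.val_one]
      have ht := congrArg trace e4
      rw [trace_sq_eq, trace_sq_eq, tr1] at ht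
      exact hx0 (pow_eq_zero_iff two_ne_zero |>.1 (pow_eq_zero_iff two_ne_zero |>.1 ht))
    · exact h
  have hx : orderOf x = 5 := by
    haveI := Fact.mk (show Nat.Prime 5 by norm_num)
    exact orderOf_eq_prime h5 fun h => hx0 (by rw [h, map_one, Units.val_one, tr1])
  -- all elements of order five have fixed vectors
  have tpow : ∀ k : ℕ, ¬ 5 ∣ k → trace (f (x ^ k) : M₄) = trace (f x : M₄) ∨
      trace (f (x ^ k) : M₄) = trace (f x : M₄) ^ 2 := fun k hk => by
    rw [← pow_mod_orderOf, hx]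
    have hlt := Nat.mod_lt k (show 5 > 0 by norm_num)
    have hne : k % 5 ≠ 0 := fun h => hk (Nat.dvd_of_mod_eq_zero h)
    have h2 : trace (f (x ^ 2) : M₄) = trace (f x : M₄) ^ 2 := by
      rw [hfp, Units.val_pow_eq_pow_val, pow_two, trace_sq_eq]
    rcases (show k % 5 = 1 ∨ k % 5 = 2 ∨ k % 5 = 3 ∨ k % 5 = 4 by omega) with h | h | h | h <;> rw [h]
    · rw [pow_one]; exact Or.inl rfl
    · exact Or.inr h2
    · right
      rw [show x ^ 3 = (x ^ 2)⁻¹ from eq_inv_of_mul_eq_one_left (by rw [← pow_add]; exact h5), map_inv,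
        trace_inv (hsp _), h2]
    · left
      rw [show x ^ 4 = x⁻¹ from eq_inv_of_mul_eq_one_left (by rw [← pow_succ]; exact h5), map_inv, trace_inv (hsp _)]
  have hfix : ∀ y : alternatingGroup (Fin 6), y ^ 5 = 1 → y ≠ 1 → ∃ v : V₄, v ≠ 0 ∧ act (f y) v = v := by
    intro y hy5 hy1
    haveI := Fact.mk (show Nat.Prime 5 by norm_num)
    have hy : orderOf y = 5 := orderOf_eq_prime hy5 hy1
    have hcard : Nat.card (alternatingGroup (Fin 6)) = 360 := by
      rw [nat_card_alternatingGroup]; simp [Nat.factorial]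
    have syl : ∀ z : alternatingGroup (Fin 6), orderOf z = 5 → ∃ S : Sylow 5 (alternatingGroup (Fin 6)),
        (S : Subgroup _) = Subgroup.zpowers z := fun z hz => by
      obtain ⟨S, hS⟩ := (IsPGroup.of_card (p := 5) (n := 1)
        (show Nat.card (Subgroup.zpowers z) = 5 ^ 1 by rw [Nat.card_zpowers, hz, pow_one])).exists_le_sylow
      obtain ⟨n, hn⟩ := S.isPGroup'.exists_card_eq
      have hdvd := Subgroup.card_subgroup_dvd_card (S : Subgroup (alternatingGroup (Fin 6)))
      rw [hn, hcard] at hdvd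
      have hn1 : n ≤ 1 := by
        by_contra hc
        have := (Nat.pow_dvd_pow 5 (show 2 ≤ n by omega)).trans hdvd
        norm_num at this
      refine ⟨S, (Subgroup.eq_of_le_of_card_ge hS ?_).symm⟩
      rw [hn, Nat.card_zpowers, hz]
      calc 5 ^ n ≤ 5 ^ 1 := Nat.pow_le_pow_right (by norm_num) hn1
        _ = 5 := pow_one 5
    obtain ⟨S, hS⟩ := syl x hx
    obtain ⟨T, hT⟩ := syl y hy
    obtain ⟨c, hc⟩ := MulAction.exists_smul_eq (alternatingGroup (Fin 6)) S T
    have hyT : y ∈ (T : Subgroup (alternatingGroup (Fin 6))) := hT ▸ Subgroup.mem_zpowers y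
    rw [← hc, Sylow.coe_subgroup_smul, Subgroup.mem_pointwise_smul_iff_inv_smul_mem, hS] at hyT
    obtain ⟨k, hk⟩ := Subgroup.mem_zpowers_iff.1 hyT
    obtain ⟨m, hm⟩ : ∃ m : ℕ, x ^ m = x ^ k := ⟨(k % (5 : ℕ)).toNat, by
      rw [← zpow_natCast, Int.toNat_of_nonneg (Int.emod_nonneg _ (by norm_num)), ← hx, zpow_mod_orderOf]⟩
    have hyeq : y = c * x ^ m * c⁻¹ := by
      rw [hm, hk]; simp [MulAut.smul_def]; group
    have hm5 : ¬ 5 ∣ m := fun ⟨j, hj⟩ => hy1 (by rw [hyeq, hj, pow_mul, h5, one_pow, mul_one, mul_inv_cancel])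
    have ht : trace (f y : M₄) = trace (f (x ^ m) : M₄) := by
      rw [hyeq, map_mul, map_mul, map_inv, trace_conj]
    have h0' : trace (f y : M₄) ≠ 0 := by
      rw [ht]; rcases tpow m hm5 with h | h <;> rw [h]
      · exact hx0
      · exact pow_ne_zero 2 hx0
    have h1' : trace (f y : M₄) ≠ 1 := by
      rw [ht]; rcases tpow m hm5 with h | h <;> rw [h]
      · exact hx1
      · exact fun e => hx1 (sq_inj (e.trans (one_pow 2).symm))
    exact five_fix (hsp y) (by rw [← hfp, hy5, map_one]) h0' h1'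
  -- every element of order three has a fixed vector
  have hthree : ∀ c i : alternatingGroup (Fin 6), c ^ 3 = 1 → c ≠ 1 → i * i = 1 → (i * c) ^ 5 = 1 → i * c ≠ 1 →
      fixProj (f c : M₄) ≠ 0 ∧ fixProj (f c : M₄) ≠ 1 := by
    intro c i h3 hc1 hi hic hic1
    constructor
    · intro h0
      obtain ⟨v, hv, hfv⟩ := hfix _ hic hic1
      rw [map_mul] at hfv
      refine hv (prod_no_fix (by rw [← map_mul, hi, map_one]) (fun z => ?_)
        (by rw [← map_mul, ← hfp, hic, map_one]) hfv)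
      have e := congrArg (· *ᵥ z) h0
      simp only [fixProj, pow_two, Matrix.add_mulVec, Matrix.one_mulVec, ← Matrix.mulVec_mulVec,
        Matrix.zero_mulVec] at e
      funext i
      have ei := congrFun e i
      simp only [Pi.add_apply, Pi.zero_apply] at ei
      show ((f c : M₄) *ᵥ ((f c : M₄) *ᵥ z)) i = z i + ((f c : M₄) *ᵥ z) i
      exact CharTwo.add_eq_zero.1 (by linear_combination ei)
    · intro h1
      refine hc1 (hinj ?_)
      rw [map_one]
      have h : (f c : M₄) + (f c : M₄) ^ 2 = 0 := by simpa [fixProj, add_assoc] using h1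
      have hcc : f c * f c = f c := Units.ext (Matrix.ext fun i j => by
        rw [Units.val_mul, ← pow_two]
        exact (CharTwo.add_eq_zero.1 (congrFun (congrFun h i) j)).symm)
      exact mul_eq_left.1 hcc
  have hadj : ∀ c : alternatingGroup (Fin 6), c ^ 3 = 1 → ∀ u v,
      sf (fixProj (f c : M₄) *ᵥ u) v = sf u (fixProj (f c : M₄) *ᵥ v) := fun c h3 u v => by
    have hi : (f c)⁻¹ = f c * f c := inv_eq_of_mul_eq_one_right (by
      rw [← mul_assoc, ← map_mul, ← map_mul, show c * c * c = c ^ 3 by simp [pow_succ], h3, map_one])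
    have hl : ∀ u v, sf (act (f c) u) v = sf u (act (f c) (act (f c) v)) := fun u v => by
      rw [sf_act_left (hsp c), hi, act_mul]
    have hl2 : ∀ u v, sf (act (f c) (act (f c) u)) v = sf u (act (f c) v) := fun u v => by
      rw [hl, hl]
      congr 1
      rw [← act_mul, ← act_mul, ← act_mul, ← hi, inv_mul_cancel, one_mul]
    simp only [fixProj, pow_two, Matrix.add_mulVec, Matrix.one_mulVec, ← Matrix.mulVec_mulVec, sf_add_left,
      sf_add_right]
    rw [show sf ((f c : M₄) *ᵥ u) v = sf u ((f c : M₄) *ᵥ ((f c : M₄) *ᵥ v)) from hl u v,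
      show sf ((f c : M₄) *ᵥ ((f c : M₄) *ᵥ u)) v = sf u ((f c : M₄) *ᵥ v) from hl2 u v]
    ring
  obtain ⟨a, b, i₁, i₂, facts⟩ := six_facts
  obtain ⟨⟨a3, a1, b3, b1, hab⟩, ⟨c3, c1, d3, d1⟩, ⟨hi1, hi2⟩, ⟨ga, ga', gb, gb'⟩, ⟨gc, gc', gd, gd'⟩⟩ := facts
  have eAB : (f a : M₄) * (f b : M₄) = (f (a * b) : M₄) := by rw [map_mul, Units.val_mul]
  have eAB2 : (f a : M₄) * (f b : M₄) ^ 2 = (f (a * b ^ 2) : M₄) := by
    rw [map_mul, map_pow, Units.val_mul, Units.val_pow_eq_pow_val]
  refine no_four_fix (A := (f a : M₄)) (B := (f b : M₄)) ?_ ?_ ?_ ?_ ?_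
  · rw [← Units.val_pow_eq_pow_val, ← map_pow, a3, map_one, Units.val_one]
  · rw [← Units.val_pow_eq_pow_val, ← map_pow, b3, map_one, Units.val_one]
  · rw [← Units.val_mul, ← Units.val_mul, ← map_mul, ← map_mul, hab]
  · intro X hX
    rw [eAB, eAB2] at hX
    rcases hX with rfl | rfl | rfl | rfl
    exacts [hadj a a3, hadj b b3, hadj _ c3, hadj _ d3]
  · intro X hX
    rw [eAB, eAB2] at hX
    rcases hX with rfl | rfl | rfl | rfl
    exacts [hthree a i₁ a3 a1 hi1 ga ga', hthree b i₁ b3 b1 hi1 gb gb', hthree _ i₂ c3 c1 hi2 gc gc',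
      hthree _ i₂ d3 d1 hi2 gd gd']

/-- `PSL(2, 9)` does not occur. -/
theorem Res.not_psl_nine {P : Subgroup G₄} (R : Res P) (h4 : 4 ≤ Fintype.card F) {K : Type*} [Field K] [Fintype K]
    (hK : Fintype.card K = 9) (e : P ≃* Matrix.ProjectiveSpecialLinearGroup (Fin 2) K) : False := by
  obtain ⟨e6⟩ := S0254.result (F := K) hK
  exact R.not_alt_six h4 (e.trans e6)

end Cfsg.Agent.Classical.SpFourRes
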