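import Cfsg.Agent.Lib.Classical.MaxSympWreath

/-!
Coordinates, transvections and frames in a four-dimensional symplectic space of characteristic two.
-/

set_option autoImplicit false
set_option linter.unusedSectionVars false

namespace Cfsg.Agent.Classical.SpFourRes

open Matrix

variable {F : Type*} [Field F]

local notation "V₄" => (Fin 2 ⊕ Fin 2 → F)
local notation "M₄" => Matrix (Fin 2 ⊕ Fin 2) (Fin 2 ⊕ Fin 2) F
local notation "G₄" => GL (Fin 2 ⊕ Fin 2) F

/-- The symplectic form in dimension four. -/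
abbrev sf (u v : Fin 2 ⊕ Fin 2 → F) : F := sympForm 2 F u v

/-- A vector from its coordinates. -/
def vec (a b c d : F) : Fin 2 ⊕ Fin 2 → F := Sum.elim ![a, b] ![c, d]

@[simp] theorem vec_inl0 (a b c d : F) : vec a b c d (Sum.inl 0) = a := rfl
@[simp] theorem vec_inl1 (a b c d : F) : vec a b c d (Sum.inl 1) = b := rfl
@[simp] theorem vec_inr0 (a b c d : F) : vec a b c d (Sum.inr 0) = c := rfl
@[simp] theorem vec_inr1 (a b c d : F) : vec a b c d (Sum.inr 1) = d := rfl

theorem ext4 {u v : Fin 2 ⊕ Fin 2 → F} (h0 : u (.inl 0) = v (.inl 0)) (h1 : u (.inl 1) = v (.inl 1))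
    (h2 : u (.inr 0) = v (.inr 0)) (h3 : u (.inr 1) = v (.inr 1)) : u = v := by
  funext x
  rcases x with i | i <;> fin_cases i <;> assumption

theorem vec_eta (v : Fin 2 ⊕ Fin 2 → F) :
    vec (v (.inl 0)) (v (.inl 1)) (v (.inr 0)) (v (.inr 1)) = v := ext4 rfl rfl rfl rfl

theorem vec_zero : vec (0 : F) 0 0 0 = 0 := ext4 rfl rfl rfl rfl

theorem sf_add_left (u v w : V₄) : sf (u + v) w = sf u w + sf v w := sympForm_add_left u v w

theorem sf_add_right (u v w : V₄) : sf u (v + w) = sf u v + sf u w := sympForm_add_right u v w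

theorem sf_smul_left (c : F) (u v : V₄) : sf (c • u) v = c * sf u v := sympForm_smul_left c u v

theorem sf_smul_right (c : F) (u v : V₄) : sf u (c • v) = c * sf u v := sympForm_smul_right c u v

@[simp] theorem sf_zero_left (v : V₄) : sf (0 : V₄) v = 0 := sympForm_zero_left v

@[simp] theorem sf_zero_right (v : V₄) : sf v (0 : V₄) = 0 := sympForm_zero_right v

section Char

variable [CharP F 2]

theorem sf_eq (u v : Fin 2 ⊕ Fin 2 → F) :
    sf u v = u (.inl 0) * v (.inr 0) + u (.inr 0) * v (.inl 0) + u (.inl 1) * v (.inr 1) + u (.inr 1) * v (.inl 1) := by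
  rw [sf, sympForm_eq_sum, Fin.sum_univ_two]
  simp only [CharTwo.sub_eq_add]
  ring

theorem sf_comm (u v : Fin 2 ⊕ Fin 2 → F) : sf u v = sf v u := by rw [sf_eq, sf_eq]; ring

theorem sf_self (u : Fin 2 ⊕ Fin 2 → F) : sf u u = 0 := sympForm_self u

end Char

/-- The product of a matrix with the coordinates. -/
theorem mulVec_apply4 (M : Matrix (Fin 2 ⊕ Fin 2) (Fin 2 ⊕ Fin 2) F) (x : Fin 2 ⊕ Fin 2 → F) (i : Fin 2 ⊕ Fin 2) :
    (M *ᵥ x) i = M i (.inl 0) * x (.inl 0) + M i (.inl 1) * x (.inl 1) + M i (.inr 0) * x (.inr 0)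
      + M i (.inr 1) * x (.inr 1) := by
  simp [Matrix.mulVec, dotProduct, Fintype.sum_sum_type, Fin.sum_univ_two, add_assoc]

/-- A group element acting on a vector. -/
abbrev act (g : GL (Fin 2 ⊕ Fin 2) F) (v : Fin 2 ⊕ Fin 2 → F) : Fin 2 ⊕ Fin 2 → F :=
  (g : Matrix (Fin 2 ⊕ Fin 2) (Fin 2 ⊕ Fin 2) F) *ᵥ v

theorem act_mul (g h : G₄) (v : V₄) : act (g * h) v = act g (act h v) := by
  rw [act, act, act, Units.val_mul, Matrix.mulVec_mulVec]

@[simp] theorem act_one (v : V₄) : act (1 : G₄) v = v := by rw [act, Units.val_one, Matrix.one_mulVec]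

theorem act_inv_act (g : G₄) (v : V₄) : act g⁻¹ (act g v) = v := by
  rw [← act_mul, inv_mul_cancel, act_one]

theorem act_act_inv (g : G₄) (v : V₄) : act g (act g⁻¹ v) = v := by
  rw [← act_mul, mul_inv_cancel, act_one]

theorem act_add (g : G₄) (u v : V₄) : act g (u + v) = act g u + act g v := Matrix.mulVec_add _ _ _

theorem act_smul (g : G₄) (c : F) (v : V₄) : act g (c • v) = c • act g v := Matrix.mulVec_smul _ _ _

@[simp] theorem act_zero (g : G₄) : act g (0 : V₄) = 0 := Matrix.mulVec_zero _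

theorem act_injective (g : G₄) : Function.Injective (act g) := fun u v h => by
  have := congrArg (act g⁻¹) h
  rwa [act_inv_act, act_inv_act] at this

theorem act_ne_zero (g : G₄) {v : V₄} (hv : v ≠ 0) : act g v ≠ 0 := fun h =>
  hv (act_injective g (by rw [h, act_zero]))

theorem ext_act {g h : G₄} (e : ∀ v, act g v = act h v) : g = h :=
  Units.ext (Matrix.ext_iff_mulVec.2 e)

theorem mem_sp {g : G₄} : g ∈ spGL 2 F ↔ ∀ u v, sf (act g u) (act g v) = sf u v := Iff.rfl

theorem sf_act {g : G₄} (hg : g ∈ spGL 2 F) (u v : V₄) : sf (act g u) (act g v) = sf u v := hg u v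

theorem sf_act_left {g : G₄} (hg : g ∈ spGL 2 F) (u v : V₄) : sf (act g u) v = sf u (act g⁻¹ v) := by
  conv_lhs => rw [← act_act_inv g v]
  exact sf_act hg _ _

section Tv

variable [CharP F 2]

/-- The symplectic transvection `x ↦ x + B(x, v) v`. -/
noncomputable def tv (v : Fin 2 ⊕ Fin 2 → F) : GL (Fin 2 ⊕ Fin 2) F :=
  ⟨sympTransvection 2 v 1, sympTransvection 2 v 1,
    by rw [sympTransvection_mul, CharTwo.add_self_eq_zero]; simp [sympTransvection],
    by rw [sympTransvection_mul, CharTwo.add_self_eq_zero]; simp [sympTransvection]⟩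

theorem act_tv (v x : V₄) : act (tv v) x = x + sf x v • v := by
  show sympTransvection 2 v 1 *ᵥ x = _
  rw [sympTransvection_mulVec, one_mul]

theorem tv_mem (v : V₄) : tv v ∈ spGL 2 F := fun x y => by
  show sympForm 2 F (act (tv v) x) (act (tv v) y) = _
  rw [act_tv, act_tv]
  have h := sf_eq (F := F)
  simp only [sympForm_add_left, sympForm_add_right, sympForm_smul_left, sympForm_smul_right, sympForm_self]
  rw [sympForm_swap v y]
  ring

theorem tv_sq (v : V₄) : tv v * tv v = 1 := Units.ext (tv v).mul_inv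

theorem tv_inv (v : V₄) : (tv v)⁻¹ = tv v := inv_eq_of_mul_eq_one_right (tv_sq v)

@[simp] theorem tv_zero : tv (0 : V₄) = 1 := ext_act fun x => by simp [act_tv]

theorem tv_fix {v x : V₄} (h : sf x v = 0) : act (tv v) x = x := by rw [act_tv, h, zero_smul, add_zero]

theorem tv_conj {g : G₄} (hg : g ∈ spGL 2 F) (v : V₄) : g * tv v * g⁻¹ = tv (act g v) := ext_act fun x => by
  rw [act_mul, act_mul, act_tv, act_add, act_smul, act_act_inv, act_tv, sf_act_left (inv_mem hg), inv_inv]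

theorem tv_eq {v w : V₄} (hv : v ≠ 0) (h : tv v = tv w) : v = w := by
  obtain ⟨x, hx⟩ := exists_sympForm_eq_one hv
  have h1 := congrArg (fun g => act g x) h
  simp only [act_tv, add_right_inj] at h1
  have hsw : sf x v = 1 := by rw [sf_comm]; exact hx
  rw [hsw, one_smul] at h1
  have h3 := congrArg (fun z => sf x z) h1
  simp only [sympForm_smul_right] at h3
  rw [hsw] at h3
  change (1 : F) = sf x w * sf x w at h3
  have h4 : (sf x w + 1) ^ 2 = 0 := by
    rw [CharTwo.add_sq]; linear_combination -h3 + CharTwo.two_eq_zero (R := F)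
  rw [CharTwo.add_eq_zero.1 (pow_eq_zero_iff two_ne_zero |>.1 h4), one_smul] at h1
  exact h1

theorem tv_ne_one {v : V₄} (hv : v ≠ 0) : tv v ≠ 1 := fun h => hv (tv_eq hv (h.trans tv_zero.symm))

theorem orderOf_tv {v : V₄} (hv : v ≠ 0) : orderOf (tv v) = 2 :=
  orderOf_eq_prime (by rw [sq, tv_sq]) (tv_ne_one hv)

theorem tv_smul_mul {v : V₄} (a b : F) : tv (a • v) * tv (b • v) = tv ((a + b) • v) := ext_act fun x => by
  simp only [act_mul, act_tv, sympForm_smul_right, sympForm_add_left, sympForm_smul_left, sympForm_self]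
  funext i
  simp only [Pi.add_apply, Pi.smul_apply, smul_eq_mul]
  linear_combination (-(sf x v * v i * (a * b))) * CharTwo.two_eq_zero (R := F)

end Tv

/-- The matrix with given columns. -/
def colMat (s₁ s₂ v₁ v₂ : Fin 2 ⊕ Fin 2 → F) : Matrix (Fin 2 ⊕ Fin 2) (Fin 2 ⊕ Fin 2) F :=
  Matrix.of fun i j => Sum.elim ![s₁ i, s₂ i] ![v₁ i, v₂ i] j

theorem colMat_mulVec (s₁ s₂ v₁ v₂ x : V₄) :
    colMat s₁ s₂ v₁ v₂ *ᵥ x = x (.inl 0) • s₁ + x (.inl 1) • s₂ + x (.inr 0) • v₁ + x (.inr 1) • v₂ := by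
  funext i
  rw [mulVec_apply4]
  simp [colMat]
  ring

/-- Symplectic bases are images of the standard one. -/
theorem exists_of_basis [CharP F 2] {s₁ s₂ v₁ v₂ : V₄} (a : sf s₁ v₁ = 1) (b : sf s₂ v₂ = 1) (c : sf s₁ s₂ = 0)
    (d : sf s₁ v₂ = 0) (e : sf s₂ v₁ = 0) (f : sf v₁ v₂ = 0) :
    ∃ g ∈ spGL 2 F, (g : M₄) = colMat s₁ s₂ v₁ v₂ := by
  have hmem : colMat s₁ s₂ v₁ v₂ ∈ Matrix.symplecticGroup (Fin 2) F := by
    refine mem_symplecticGroup_iff_form.2 fun x y => ?_
    simp only [colMat_mulVec, sympForm_add_left, sympForm_add_right, sympForm_smul_left, sympForm_smul_right,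
      sympForm_self]
    have a' := a; have b' := b; have c' := c; have d' := d; have e' := e; have f' := f
    rw [sf_comm] at a' b' c' d' e' f'
    simp only [sf] at a b c d e f a' b' c' d' e' f'
    rw [a, b, c, d, e, f, a', b', c', d', e', f']
    have hs := sf_eq x y
    simp only [sf] at hs
    rw [hs]
    ring
  let φ : Matrix.symplecticGroup (Fin 2) F →* G₄ :=
    MonoidHom.toHomUnits (Submonoid.subtype (Matrix.symplecticGroup (Fin 2) F))
  exact ⟨φ ⟨_, hmem⟩, fun x y => mem_symplecticGroup_iff_form.1 hmem x y, rfl⟩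

theorem act_of_basis {g : G₄} {s₁ s₂ v₁ v₂ : V₄} (h : (g : M₄) = colMat s₁ s₂ v₁ v₂) :
    act g (vec 1 0 0 0) = s₁ ∧ act g (vec 0 1 0 0) = s₂ ∧ act g (vec 0 0 1 0) = v₁ ∧ act g (vec 0 0 0 1) = v₂ := by
  simp only [act, h, colMat_mulVec, vec_inl0, vec_inl1, vec_inr0, vec_inr1]
  simp

/-- The last vector of a symplectic basis. -/
theorem exists_last [CharP F 2] {s₁ s₂ v₁ : V₄} (a : sf s₁ v₁ = 1) (c : sf s₁ s₂ = 0) (e : sf s₂ v₁ = 0)
    (h2 : s₂ ≠ 0) : ∃ v₂, sf s₂ v₂ = 1 ∧ sf s₁ v₂ = 0 ∧ sf v₁ v₂ = 0 := by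
  obtain ⟨z, hz⟩ := exists_sympForm_eq_one h2
  refine ⟨z + sf v₁ z • s₁ + sf s₁ z • v₁, ?_, ?_, ?_⟩
  · simp only [sf, sympForm_add_right, sympForm_smul_right] at *
    rw [hz, e, show sympForm 2 F s₂ s₁ = 0 by rw [← c]; exact sf_comm _ _]
    ring
  · simp only [sf, sympForm_add_right, sympForm_smul_right, sympForm_self] at *
    rw [a]
    linear_combination sympForm 2 F s₁ z * CharTwo.two_eq_zero (R := F)
  · simp only [sf, sympForm_add_right, sympForm_smul_right, sympForm_self] at *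
    rw [show sympForm 2 F v₁ s₁ = 1 by rw [← a]; exact sf_comm _ _]
    linear_combination sympForm 2 F v₁ z * CharTwo.two_eq_zero (R := F)

/-- A totally isotropic pair and a partner of the first vector move to standard position. -/
theorem exists_frame_three [CharP F 2] {s₁ s₂ v₁ : V₄} (a : sf s₁ v₁ = 1) (c : sf s₁ s₂ = 0) (e : sf s₂ v₁ = 0)
    (h2 : s₂ ≠ 0) : ∃ g ∈ spGL 2 F, act g (vec 1 0 0 0) = s₁ ∧ act g (vec 0 1 0 0) = s₂ ∧
      act g (vec 0 0 1 0) = v₁ := by
  obtain ⟨v₂, b, d, f⟩ := exists_last a c e h2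
  obtain ⟨g, hg, hM⟩ := exists_of_basis a b c d e f
  obtain ⟨x, y, z, -⟩ := act_of_basis hM
  exact ⟨g, hg, x, y, z⟩

/-- Functionals separating two independent vectors. -/
theorem exists_dual {s₁ s₂ : V₄} (h : LinearIndependent F ![s₁, s₂]) :
    ∃ v, sf s₁ v = 1 ∧ sf s₂ v = 0 := by
  by_contra hcon
  push Not at hcon
  obtain ⟨a, ha1⟩ := exists_sympForm_eq_one (show s₁ ≠ 0 from h.ne_zero 0)
  have h20 : sympForm 2 F s₂ a ≠ 0 := hcon a ha1
  have key : ∀ v, sympForm 2 F s₂ v = sympForm 2 F s₂ a * sympForm 2 F s₁ v := by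
    intro v
    by_contra hne
    set d := sympForm 2 F s₂ v - sympForm 2 F s₂ a * sympForm 2 F s₁ v with hd
    have hd0 : d ≠ 0 := sub_ne_zero.2 hne
    set u := v - sympForm 2 F s₁ v • a with hu
    have u1 : sympForm 2 F s₁ u = 0 := by
      rw [hu, sympForm_sub_right, sympForm_smul_right, ha1]; ring
    have u2 : sympForm 2 F s₂ u = d := by
      rw [hu, sympForm_sub_right, sympForm_smul_right, hd]; ring
    refine hcon (a - (sympForm 2 F s₂ a / d) • u) ?_ ?_
    · show sympForm 2 F s₁ _ = 1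
      rw [sympForm_sub_right, sympForm_smul_right, u1, ha1]; ring
    · show sympForm 2 F s₂ _ = 0
      rw [sympForm_sub_right, sympForm_smul_right, u2]; field_simp; ring
  have hs : s₂ - sympForm 2 F s₂ a • s₁ = 0 := eq_zero_of_sympForm_eq_zero fun v => by
    rw [sympForm_sub_left, sympForm_smul_left, key, sub_self]
  have := LinearIndependent.pair_iff.1 h (-sympForm 2 F s₂ a) 1 (by
    rw [neg_smul, one_smul, neg_add_eq_sub, hs])
  exact one_ne_zero this.2

/-- A totally isotropic pair moves to standard position. -/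
theorem exists_frame_two [CharP F 2] {s₁ s₂ : V₄} (h : LinearIndependent F ![s₁, s₂]) (c : sf s₁ s₂ = 0) :
    ∃ g ∈ spGL 2 F, act g (vec 1 0 0 0) = s₁ ∧ act g (vec 0 1 0 0) = s₂ := by
  obtain ⟨v₁, a, e⟩ := exists_dual h
  obtain ⟨g, hg, x, y, -⟩ := exists_frame_three a c e (h.ne_zero 1)
  exact ⟨g, hg, x, y⟩

/-- Any nonzero vector moves to the first basis vector. -/
theorem exists_frame_one [CharP F 2] {s : V₄} (h : s ≠ 0) :
    ∃ g ∈ spGL 2 F, act g (vec 1 0 0 0) = s := by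
  obtain ⟨A, -, hA⟩ := exists_closure_mulVec_eq (v := vec (1 : F) 0 0 0)
    (fun e => one_ne_zero (congrFun e (Sum.inl 0))) h
  let φ : Matrix.symplecticGroup (Fin 2) F →* G₄ :=
    MonoidHom.toHomUnits (Submonoid.subtype (Matrix.symplecticGroup (Fin 2) F))
  exact ⟨φ A, fun x y => sympForm_map A x y, hA⟩

end Cfsg.Agent.Classical.SpFourRes
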