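import Cfsg.Agent.Lib.Classical.SpFourRes.Base
import Cfsg.Agent.S0205
import Cfsg.Agent.S0215
import Cfsg.Agent.S0111

/-!
Simple subgroups of the four-dimensional symplectic group: two-subgroups and transfer.
-/

set_option autoImplicit false
set_option linter.unusedSectionVars false

namespace Cfsg.Agent.Classical.SpFourRes

open Matrix

variable {F : Type*} [Field F]

local notation "G₄" => GL (Fin 2 ⊕ Fin 2) F

/-- A non-abelian simple group of symplectic matrices. -/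
structure SimpleSp (P : Subgroup (GL (Fin 2 ⊕ Fin 2) F)) : Prop where
  le : P ≤ spGL 2 F
  simple : IsSimpleGroup P
  nonab : ¬ IsMulCommutative P

/-- `T` is a maximal two-subgroup of `P`. -/
structure SylTwo (P T : Subgroup (GL (Fin 2 ⊕ Fin 2) F)) : Prop where
  le : T ≤ P
  two : IsPGroup 2 T
  max : ∀ R : Subgroup (GL (Fin 2 ⊕ Fin 2) F), R ≤ P → IsPGroup 2 R → T ≤ R → R = T

/-- The conjugate of a subgroup. -/
def mv (g : GL (Fin 2 ⊕ Fin 2) F) (P : Subgroup (GL (Fin 2 ⊕ Fin 2) F)) : Subgroup (GL (Fin 2 ⊕ Fin 2) F) :=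
  P.map (MulAut.conj g).toMonoidHom

theorem mem_mv {g x : G₄} {P : Subgroup G₄} : x ∈ mv g P ↔ g⁻¹ * x * g ∈ P := by
  constructor
  · rintro ⟨y, hy, rfl⟩
    simpa [mul_assoc] using hy
  · intro h
    exact ⟨_, h, by simp [mul_assoc]⟩

theorem conj_mem_mv {g x : G₄} {P : Subgroup G₄} (h : x ∈ P) : g * x * g⁻¹ ∈ mv g P :=
  ⟨x, h, rfl⟩

theorem mv_equiv (g : G₄) (P : Subgroup G₄) : Nonempty (P ≃* mv g P) :=
  ⟨P.equivMapOfInjective _ (MulAut.conj g).injective⟩

theorem SimpleSp.mv {P : Subgroup G₄} (h : SimpleSp P) {g : G₄} (hg : g ∈ spGL 2 F) : SimpleSp (mv g P) := by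
  obtain ⟨e⟩ := mv_equiv g P
  refine ⟨?_, ?_, fun hc => h.nonab ⟨⟨fun a b => e.injective (by rw [map_mul, map_mul, hc.is_comm.comm])⟩⟩⟩
  · rintro _ ⟨y, hy, rfl⟩
    exact mul_mem (mul_mem hg (h.le hy)) (inv_mem hg)
  · haveI := h.simple
    haveI : Nontrivial (SpFourRes.mv g P) := e.toEquiv.symm.nontrivial
    exact e.symm.isSimpleGroup

namespace SimpleSp

variable {P : Subgroup (GL (Fin 2 ⊕ Fin 2) F)} (K : SimpleSp P)

include K

theorem not_solvable : ¬ Group.IsSolvable P := fun h => by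
  haveI := K.simple
  exact K.nonab ⟨⟨IsSimpleGroup.comm_iff_isSolvable.2 h⟩⟩

theorem even_card [Finite F] : 2 ∣ Nat.card P := by
  by_contra h
  exact K.not_solvable (S0205.result (Nat.odd_iff.2 (by omega)))

theorem normal_cases (N : Subgroup P) [N.Normal] : N = ⊥ ∨ N = ⊤ := by
  haveI := K.simple
  exact Subgroup.Normal.eq_bot_or_eq_top inferInstance

theorem eq_one_of_central {z : G₄} (hz : z ∈ P) (h : ∀ x ∈ P, x * z = z * x) : z = 1 := by
  have hc : (⟨z, hz⟩ : P) ∈ Subgroup.center P :=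
    Subgroup.mem_center_iff.2 fun x => Subtype.ext (h x x.2)
  rcases K.normal_cases (Subgroup.center P) with e | e
  · rw [e, Subgroup.mem_bot] at hc
    exact congrArg Subtype.val hc
  · exact absurd ⟨⟨fun a b => Subgroup.mem_center_iff.1 (e ▸ Subgroup.mem_top b) a⟩⟩ K.nonab

/-- A conjugation-invariant subset with a nontrivial element generates. -/
theorem closure_eq {D : Set G₄} (hD : D ⊆ P) (hinv : ∀ g ∈ P, ∀ d ∈ D, g * d * g⁻¹ ∈ D) {d : G₄} (hd : d ∈ D)
    (hd1 : d ≠ 1) : Subgroup.closure D = P := by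
  have hle : Subgroup.closure D ≤ P := (Subgroup.closure_le P).2 hD
  haveI : ((Subgroup.closure D).subgroupOf P).Normal := by
    refine ⟨fun n hn g => ?_⟩
    rw [Subgroup.mem_subgroupOf] at hn ⊢
    have : (Subgroup.closure D).map (MulAut.conj (g : G₄)).toMonoidHom ≤ Subgroup.closure D := by
      rw [MonoidHom.map_closure, Subgroup.closure_le]
      rintro _ ⟨x, hx, rfl⟩
      exact Subgroup.subset_closure (hinv g g.2 x hx)
    exact this ⟨n, hn, rfl⟩
  rcases K.normal_cases ((Subgroup.closure D).subgroupOf P) with e | e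
  · have : (⟨d, hD hd⟩ : P) ∈ (Subgroup.closure D).subgroupOf P := Subgroup.subset_closure hd
    rw [e, Subgroup.mem_bot] at this
    exact absurd (congrArg Subtype.val this) hd1
  · exact le_antisymm hle (Subgroup.subgroupOf_eq_top.1 e)

variable [Finite F]

theorem exists_syl {Q : Subgroup G₄} (hQ : Q ≤ P) (h : IsPGroup 2 Q) : ∃ T, SylTwo P T ∧ Q ≤ T := by
  haveI : Fact (Nat.Prime 2) := ⟨Nat.prime_two⟩
  have hQ' : IsPGroup 2 (Q.subgroupOf P) := h.of_equiv (Subgroup.subgroupOfEquivOfLe hQ).symm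
  obtain ⟨S, hS⟩ := hQ'.exists_le_sylow
  refine ⟨(S : Subgroup P).map P.subtype, ⟨Subgroup.map_subtype_le _, S.isPGroup'.map _, fun R hR h2 hle => ?_⟩, ?_⟩
  · have hR' : IsPGroup 2 (R.subgroupOf P) := h2.of_equiv (Subgroup.subgroupOfEquivOfLe hR).symm
    have := S.is_maximal' hR' (fun x hx => hle (Subgroup.mem_map_of_mem _ hx))
    rw [← this, Subgroup.map_subgroupOf_eq_of_le hR]
  · intro x hx
    exact ⟨⟨x, hQ hx⟩, hS (show (⟨x, hQ hx⟩ : P) ∈ Q.subgroupOf P from hx), rfl⟩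

/-- A maximal two-subgroup as a Sylow subgroup. -/
theorem sylow_of {T : Subgroup G₄} (hT : SylTwo P T) : ∃ S : Sylow 2 P, ∀ x : P, x ∈ S ↔ (x : G₄) ∈ T := by
  refine ⟨⟨T.subgroupOf P, hT.two.of_equiv (Subgroup.subgroupOfEquivOfLe hT.le).symm, fun {R} hR hle => ?_⟩,
    fun x => Iff.rfl⟩
  have := hT.max (R.map P.subtype) (Subgroup.map_subtype_le _) (hR.map _)
    fun x hx => ⟨⟨x, hT.le hx⟩, hle (show (⟨x, hT.le hx⟩ : P) ∈ T.subgroupOf P from hx), rfl⟩
  ext x
  rw [Subgroup.mem_subgroupOf, ← this]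
  exact ⟨fun hx => ⟨x, hx, rfl⟩, fun ⟨y, hy, e⟩ => Subtype.ext e ▸ hy⟩

theorem exists_conj {R T : Subgroup G₄} (hR : R ≤ P) (h2 : IsPGroup 2 R) (hT : SylTwo P T) :
    ∃ g ∈ P, ∀ x ∈ R, g * x * g⁻¹ ∈ T := by
  haveI : Fact (Nat.Prime 2) := ⟨Nat.prime_two⟩
  obtain ⟨S, hS⟩ := K.sylow_of hT
  have hR' : IsPGroup 2 (R.subgroupOf P) := h2.of_equiv (Subgroup.subgroupOfEquivOfLe hR).symm
  obtain ⟨S', hS'⟩ := hR'.exists_le_sylow
  obtain ⟨g, hg⟩ := MulAction.exists_smul_eq P S' S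
  refine ⟨g, g.2, fun x hx => ?_⟩
  have h1 : (⟨x, hR hx⟩ : P) ∈ (S' : Subgroup P) := hS' (show (⟨x, hR hx⟩ : P) ∈ R.subgroupOf P from hx)
  have h2' : g * ⟨x, hR hx⟩ * g⁻¹ ∈ ((g • S' : Sylow 2 P) : Subgroup P) := by
    rw [Sylow.coe_subgroup_smul, Subgroup.mem_pointwise_smul_iff_inv_smul_mem]
    simpa [MulAut.smul_def, mul_assoc] using h1
  rw [hg] at h2'
  exact (hS _).1 h2'

/-- An involution of a Sylow subgroup has another conjugate there. -/
theorem not_isolated {T : Subgroup G₄} (hT : SylTwo P T) {u : G₄} (hu : u ∈ T) (h2 : orderOf u = 2) :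
    ∃ g ∈ P, g * u * g⁻¹ ∈ T ∧ g * u * g⁻¹ ≠ u := by
  by_contra hcon
  push Not at hcon
  obtain ⟨S, hS⟩ := K.sylow_of hT
  obtain ⟨N, hN, hodd, hcomm⟩ := S0215.result S (⟨u, hT.le hu⟩ : P)
    (by rw [← Subgroup.orderOf_coe]; exact h2) ((hS _).2 hu)
    (fun g hg => Subtype.ext (hcon g g.2 ((hS _).1 hg)))
  rcases K.normal_cases N with e | e
  · have h1 := K.eq_one_of_central (hT.le hu) fun x hx => by
      have h3 := hcomm ⟨x, hx⟩
      rw [e, Subgroup.mem_bot, mul_inv_eq_one, mul_inv_eq_iff_eq_mul] at h3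
      exact (congrArg Subtype.val h3).symm
    rw [h1, orderOf_one] at h2
    omega
  · rw [e, Subgroup.card_top] at hodd
    exact Nat.not_even_iff_odd.2 hodd (even_iff_two_dvd.2 K.even_card)

/-- Transfer: a Sylow subgroup has no character that is nontrivial on every conjugate of an involution. -/
theorem no_char {T : Subgroup G₄} (hT : SylTwo P T) {χ : G₄ → ZMod 2}
    (hχ : ∀ a ∈ T, ∀ b ∈ T, χ (a * b) = χ a + χ b) {u : G₄} (hu : u ∈ T) (h2 : orderOf u = 2)
    (hval : ∀ g ∈ P, g * u * g⁻¹ ∈ T → χ (g * u * g⁻¹) ≠ 0) : False := by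
  obtain ⟨S, hS⟩ := K.sylow_of hT
  have hone : χ 1 = 0 := by
    have := hχ 1 (one_mem _) 1 (one_mem _)
    rw [mul_one] at this
    exact (add_left_cancel (a := χ 1) (by rw [add_zero]; exact this)).symm
  let φ : (S : Subgroup P) →* Multiplicative (ZMod 2) :=
    { toFun := fun x => Multiplicative.ofAdd (χ ((x : P) : G₄))
      map_one' := by show Multiplicative.ofAdd (χ 1) = 1; rw [hone]; rfl
      map_mul' := fun a b => by
        show Multiplicative.ofAdd (χ (((a : P) : G₄) * ((b : P) : G₄))) = _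
        rw [hχ _ ((hS _).1 a.2) _ ((hS _).1 b.2)]; rfl }
  set Q : Subgroup P := φ.ker.map (S : Subgroup P).subtype with hQ
  have memQ : ∀ x : P, x ∈ Q ↔ ((x : G₄) ∈ T ∧ χ x = 0) := by
    intro x
    constructor
    · rintro ⟨y, hy, rfl⟩
      exact ⟨(hS _).1 y.2, Multiplicative.ofAdd.injective (hy : φ y = 1)⟩
    · rintro ⟨hx, h0⟩
      exact ⟨⟨x, (hS _).2 hx⟩, (show φ _ = 1 by show Multiplicative.ofAdd (χ (x : G₄)) = 1; rw [h0]; rfl), rfl⟩
  have huQ : (⟨u, hT.le hu⟩ : P) ∉ Q := fun h => hval 1 (one_mem _) (by simpa using hu) (by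
    simpa using ((memQ _).1 h).2)
  have hidx : Q.relIndex (S : Subgroup P) = 2 := by
    rw [Subgroup.relIndex, hQ, ← Subgroup.comap_subtype, Subgroup.comap_map_eq_self_of_injective
      (Subgroup.subtype_injective _), Subgroup.index_ker]
    have hsur : Function.Surjective φ := by
      intro z
      rcases (show Multiplicative.toAdd z = 0 ∨ Multiplicative.toAdd z = 1 by
        revert z; decide) with h | h
      · exact ⟨1, by rw [map_one]; exact (Multiplicative.toAdd.injective h).symm⟩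
      · refine ⟨⟨⟨u, hT.le hu⟩, (hS _).2 hu⟩, ?_⟩
        have hu1 : χ u = 1 := by
          have := hval 1 (one_mem _) (by simpa using hu)
          rw [one_mul, inv_one, mul_one] at this
          revert this
          generalize χ u = c
          revert c
          decide
        show Multiplicative.ofAdd (χ u) = z
        rw [hu1, ← h]; rfl
    rw [MonoidHom.range_eq_top.2 hsur, Subgroup.card_top, Nat.card_eq_fintype_card]
    rfl
  rcases S0111.result S Q (Subgroup.map_subtype_le _) hidx ⟨u, hT.le hu⟩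
      (by rw [← Subgroup.orderOf_coe]; exact h2) ((hS _).2 hu) huQ with ⟨M, hM, hM2, -⟩ | ⟨g, hg⟩
  · rcases K.normal_cases M with e | e
    · rw [e, Subgroup.index_bot] at hM2
      haveI : Fact (Nat.Prime 2) := ⟨Nat.prime_two⟩
      haveI := isCyclic_of_prime_card hM2
      exact K.nonab ⟨⟨IsCyclic.commGroup.mul_comm⟩⟩
    · rw [e, Subgroup.index_top] at hM2
      omega
  · obtain ⟨h1, h0⟩ := (memQ _).1 hg
    exact hval g g.2 h1 h0

/-- The additive version of transfer. -/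
theorem no_additive [CharP F 2] {T : Subgroup G₄} (hT : SylTwo P T) {φ : G₄ → F}
    (hφ : ∀ a ∈ T, ∀ b ∈ T, φ (a * b) = φ a + φ b) {u : G₄} (hu : u ∈ T) (h2 : orderOf u = 2) {c : F} (hc : c ≠ 0)
    (hval : ∀ g ∈ P, g * u * g⁻¹ ∈ T → φ (g * u * g⁻¹) = c) : False := by
  haveI : Fact (Nat.Prime 2) := ⟨Nat.prime_two⟩
  letI : Algebra (ZMod 2) F := ZMod.algebra F 2
  obtain ⟨l, hl⟩ := Module.Projective.exists_dual_ne_zero (ZMod 2) hc
  refine K.no_char hT (χ := fun x => l (φ x)) (fun a ha b hb => by rw [hφ a ha b hb, map_add]) hu h2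
    fun g hg hm => ?_
  show l (φ _) ≠ 0
  rw [hval g hg hm]
  exact hl

end SimpleSp

end Cfsg.Agent.Classical.SpFourRes
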