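import Cfsg.Agent.Lib.Classical.SpFourRes.Two
import Cfsg.Agent.Lib.Classical.SpFourRes.Simple

/-!
Centres of transvections in a simple subgroup of the four-dimensional symplectic group.
-/

set_option autoImplicit false
set_option linter.unusedSectionVars false

namespace Cfsg.Agent.Classical.SpFourRes

open Matrix
open Cfsg.Agent.Classical.Residual (upp low)

variable {F : Type*} [Field F] [CharP F 2]

local notation "V₄" => (Fin 2 ⊕ Fin 2 → F)
local notation "M₄" => Matrix (Fin 2 ⊕ Fin 2) (Fin 2 ⊕ Fin 2) F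
local notation "G₄" => GL (Fin 2 ⊕ Fin 2) F
local notation "SL₂" => Matrix.SpecialLinearGroup (Fin 2) F

/-- `v` is the centre of a transvection of `P`. -/
structure IsCtr (P : Subgroup (GL (Fin 2 ⊕ Fin 2) F)) (v : Fin 2 ⊕ Fin 2 → F) : Prop where
  ne : v ≠ 0
  mem : tv v ∈ P

/-- The scalars `l` with the transvection of `l • v` in `P`. -/
noncomputable def coef (P : Subgroup (GL (Fin 2 ⊕ Fin 2) F)) (v : Fin 2 ⊕ Fin 2 → F) : Set F :=
  {l | tv (l • v) ∈ P}

theorem mem_coef {P : Subgroup G₄} {v : V₄} {l : F} : l ∈ coef P v ↔ tv (l • v) ∈ P := Iff.rfl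

theorem zero_mem_coef (P : Subgroup G₄) (v : V₄) : (0 : F) ∈ coef P v := by
  rw [mem_coef, zero_smul, tv_zero]; exact one_mem P

theorem IsCtr.one_mem_coef {P : Subgroup G₄} {v : V₄} (h : IsCtr P v) : (1 : F) ∈ coef P v := by
  rw [mem_coef, one_smul]; exact h.mem

theorem IsCtr.map {P : Subgroup G₄} (hP : P ≤ spGL 2 F) {v : V₄} (h : IsCtr P v) {g : G₄} (hg : g ∈ P) :
    IsCtr P (act g v) :=
  ⟨act_ne_zero g h.ne, tv_conj (hP hg) v ▸ mul_mem (mul_mem hg h.mem) (inv_mem hg)⟩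

theorem coef_map {P : Subgroup G₄} (hP : P ≤ spGL 2 F) (v : V₄) {g : G₄} (hg : g ∈ P) :
    coef P (act g v) = coef P v := by
  ext l
  rw [mem_coef, mem_coef, ← act_smul, ← tv_conj (hP hg)]
  exact ⟨fun h => by simpa [mul_assoc] using mul_mem (mul_mem (inv_mem hg) h) hg,
    fun h => mul_mem (mul_mem hg h) (inv_mem hg)⟩

/-- Coordinates with respect to a symplectic basis. -/
theorem expand {s₁ s₂ v₁ v₂ : V₄} (a : sf s₁ v₁ = 1) (b : sf s₂ v₂ = 1) (c : sf s₁ s₂ = 0)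
    (d : sf s₁ v₂ = 0) (e : sf s₂ v₁ = 0) (f : sf v₁ v₂ = 0) (x : V₄) :
    sf x v₁ • s₁ + sf x v₂ • s₂ + sf x s₁ • v₁ + sf x s₂ • v₂ = x := by
  obtain ⟨g, hg, hM⟩ := exists_of_basis a b c d e f
  obtain ⟨h1, h2, h3, h4⟩ := act_of_basis hM
  obtain ⟨y, rfl⟩ : ∃ y, x = act g y := ⟨_, (act_act_inv g x).symm⟩
  have key : act g y = y (.inl 0) • s₁ + y (.inl 1) • s₂ + y (.inr 0) • v₁ + y (.inr 1) • v₂ := by
    rw [act, hM, colMat_mulVec]
  have e1 : sf (act g y) v₁ = y (.inl 0) := by rw [← h3, sf_act hg, sf_eq]; simp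
  have e2 : sf (act g y) v₂ = y (.inl 1) := by rw [← h4, sf_act hg, sf_eq]; simp
  have e3 : sf (act g y) s₁ = y (.inr 0) := by rw [← h1, sf_act hg, sf_eq]; simp
  have e4 : sf (act g y) s₂ = y (.inr 1) := by rw [← h2, sf_act hg, sf_eq]; simp
  rw [e1, e2, e3, e4, key]

theorem eq_single (j : Fin 2 ⊕ Fin 2) : (Pi.single j 1 : V₄) = vec 1 0 0 0 ∨ (Pi.single j 1 : V₄) = vec 0 1 0 0 ∨
    (Pi.single j 1 : V₄) = vec 0 0 1 0 ∨ (Pi.single j 1 : V₄) = vec 0 0 0 1 := by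
  rcases j with j | j <;> fin_cases j
  · exact Or.inl (ext4 (by simp) (by simp) (by simp) (by simp))
  · exact Or.inr (Or.inl (ext4 (by simp) (by simp) (by simp) (by simp)))
  · exact Or.inr (Or.inr (Or.inl (ext4 (by simp) (by simp) (by simp) (by simp))))
  · exact Or.inr (Or.inr (Or.inr (ext4 (by simp) (by simp) (by simp) (by simp))))

theorem coe_apply_act (h : G₄) (i j : Fin 2 ⊕ Fin 2) : (h : M₄) i j = act h (Pi.single j 1) i := by
  rw [act, Matrix.mulVec_single_one]; rfl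

/-- A hyperbolic pair moves to standard position. -/
theorem exists_frame_pair {s v : V₄} (h : sf s v = 1) :
    ∃ g ∈ spGL 2 F, act g (vec 1 0 0 0) = s ∧ act g (vec 0 0 1 0) = v := by
  have hs : s ≠ 0 := by rintro rfl; simp at h
  obtain ⟨g, hg, hgu⟩ := exists_frame_one hs
  set w := act g⁻¹ v with hwdef
  have hwc : w (.inr 0) = 1 := by
    have : sf (vec 1 0 0 0) w = 1 := by rw [hwdef, ← sf_act hg, act_act_inv, hgu, h]
    rw [sf_eq] at this
    simpa using this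
  obtain ⟨k, hk, h1, -, h3⟩ := exists_frame_three (s₂ := act g (vec (w (.inr 1)) 1 0 0)) h
    (by rw [← hgu, sf_act hg, sf_eq]; simp)
    (by rw [sf_act_left hg, ← hwdef, sf_eq]; simp [hwc, CharTwo.add_self_eq_zero])
    (act_ne_zero g fun e => by simpa using congrFun e (.inl 1))
  exact ⟨k, hk, h1, h3⟩

section Simple

variable [Fintype F] {P : Subgroup (GL (Fin 2 ⊕ Fin 2) F)}

/-- A nonempty conjugation-invariant family of centres generates. -/
theorem SimpleSp.closure_ctr (K : SimpleSp P) (O : Set V₄) (hO : ∀ v ∈ O, IsCtr P v)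
    (hinv : ∀ g ∈ P, ∀ v ∈ O, act g v ∈ O) {v : V₄} (hv : v ∈ O) :
    Subgroup.closure (tv '' O) = P := by
  refine K.closure_eq ?_ ?_ ⟨v, hv, rfl⟩ (tv_ne_one (hO v hv).ne)
  · rintro _ ⟨x, hx, rfl⟩
    exact (hO x hx).mem
  · rintro g hg _ ⟨x, hx, rfl⟩
    exact ⟨_, hinv g hg x hx, (tv_conj (K.le hg) x).symm⟩

/-- A vector perpendicular to an invariant family of centres is fixed. -/
theorem SimpleSp.fixed_of_perp (K : SimpleSp P) (O : Set V₄) (hO : ∀ v ∈ O, IsCtr P v)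
    (hinv : ∀ g ∈ P, ∀ v ∈ O, act g v ∈ O) {v : V₄} (hv : v ∈ O) {x : V₄} (hx : ∀ o ∈ O, sf x o = 0) :
    ∀ g ∈ P, act g x = x := by
  intro g hg
  rw [← K.closure_ctr O hO hinv hv] at hg
  induction hg using Subgroup.closure_induction with
  | mem g hg => obtain ⟨o, ho, rfl⟩ := hg; exact tv_fix (hx o ho)
  | one => exact act_one x
  | mul a b _ _ ha hb => rw [act_mul, hb, ha]
  | inv a _ ha => conv_lhs => rw [← ha]
                  exact act_inv_act a x

/-- Centres span. -/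
theorem SimpleSp.eq_zero_of_perp (K : SimpleSp P) (hfix : ∀ x, (∀ g ∈ P, act g x = x) → x = 0)
    {v : V₄} (hv : IsCtr P v) {x : V₄} (hx : ∀ o, IsCtr P o → sf x o = 0) : x = 0 :=
  hfix x (K.fixed_of_perp {o | IsCtr P o} (fun _ h => h) (fun _ hg _ h => IsCtr.map K.le h hg) hv hx)

theorem IsCtr.conj_of_ne {u v : V₄} (hu : IsCtr P u) (hv : IsCtr P v) (h : sf u v ≠ 0) :
    ∃ g ∈ P, act g u = v := by
  obtain ⟨g, hg, e⟩ := conj_of_ne_perp h
  have hle : Subgroup.closure ({tv u, tv v} : Set G₄) ≤ P := by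
    rw [Subgroup.closure_le]
    rintro x (rfl | rfl)
    exacts [hu.mem, hv.mem]
  exact ⟨g, hle hg, e⟩

/-- All centres are conjugate. -/
theorem SimpleSp.ctr_conj (K : SimpleSp P) (hfix : ∀ x, (∀ g ∈ P, act g x = x) → x = 0)
    {u v : V₄} (hu : IsCtr P u) (hv : IsCtr P v) : ∃ g ∈ P, act g u = v := by
  by_contra hcon
  refine hv.ne (hfix v (K.fixed_of_perp {o | ∃ g ∈ P, act g u = o} ?_ ?_
    (show u ∈ {o | ∃ g ∈ P, act g u = o} from ⟨1, one_mem P, act_one u⟩) ?_))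
  · rintro _ ⟨g, hg, rfl⟩; exact hu.map K.le hg
  · rintro g hg _ ⟨h, hh, rfl⟩; exact ⟨g * h, mul_mem hg hh, act_mul g h u⟩
  · rintro o ⟨g, hg, rfl⟩
    by_contra hne
    obtain ⟨k, hk, e⟩ := (hu.map K.le hg).conj_of_ne hv (by rwa [sf_comm])
    exact hcon ⟨k * g, mul_mem hk hg, by rw [act_mul, e]⟩

end Simple

end Cfsg.Agent.Classical.SpFourRes
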