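import Cfsg.Agent.Lib.Classical.SpFourRes.OnLine

/-!
Root groups of order two: a centre off the line gives a unipotent element or an element of determinant not one.
-/

set_option autoImplicit false
set_option linter.unusedSectionVars false

namespace Cfsg.Agent.Classical.SpFourRes

open Matrix
open Cfsg.Agent.Classical.Residual (upp low upp_coe low_coe)

variable {F : Type*} [Field F] [CharP F 2] [Fintype F]

local notation "V₂" => (Fin 2 → F)
local notation "V₄" => (Fin 2 ⊕ Fin 2 → F)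
local notation "M₂" => Matrix (Fin 2) (Fin 2) F
local notation "M₄" => Matrix (Fin 2 ⊕ Fin 2) (Fin 2 ⊕ Fin 2) F
local notation "G₂" => GL (Fin 2) F
local notation "G₄" => GL (Fin 2 ⊕ Fin 2) F
local notation "SL₂" => Matrix.SpecialLinearGroup (Fin 2) F

/-- The plane matrix of an element fixing the second basis vector. -/
def piMat (g : GL (Fin 2 ⊕ Fin 2) F) : Matrix (Fin 2) (Fin 2) F :=
  !![(g : Matrix (Fin 2 ⊕ Fin 2) (Fin 2 ⊕ Fin 2) F) (.inl 0) (.inl 0),
      (g : Matrix (Fin 2 ⊕ Fin 2) (Fin 2 ⊕ Fin 2) F) (.inl 0) (.inr 0);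
    (g : Matrix (Fin 2 ⊕ Fin 2) (Fin 2 ⊕ Fin 2) F) (.inr 0) (.inl 0),
      (g : Matrix (Fin 2 ⊕ Fin 2) (Fin 2 ⊕ Fin 2) F) (.inr 0) (.inr 0)]

section FixSecond

variable {g : GL (Fin 2 ⊕ Fin 2) F} (hg : g ∈ spGL 2 F) (he : act g (vec 0 1 0 0) = vec 0 1 0 0)

theorem coe_apply_vec (g : G₄) (i : Fin 2 ⊕ Fin 2) :
    (g : M₄) i (.inl 0) = act g (vec 1 0 0 0) i ∧ (g : M₄) i (.inl 1) = act g (vec 0 1 0 0) i ∧
      (g : M₄) i (.inr 0) = act g (vec 0 0 1 0) i := by
  simp only [act, mulVec_apply4, vec_inl0, vec_inl1, vec_inr0, vec_inr1]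
  refine ⟨?_, ?_, ?_⟩ <;> ring

include hg he

theorem inr_one_zero (x : V₄) : act g x (.inr 1) = x (.inr 1) := by
  have h := sf_act hg x (vec 0 1 0 0)
  rw [he, sf_eq, sf_eq] at h
  simpa using h

theorem piMat_det : (piMat g).det = 1 := by
  have h := sf_act hg (vec 1 0 0 0) (vec 0 0 1 0)
  rw [sf_eq, sf_eq, inr_one_zero hg he, inr_one_zero hg he] at h
  simp at h
  rw [det_two]
  simp [piMat, (coe_apply_vec g (.inl 0)).1, (coe_apply_vec g (.inl 0)).2.2, (coe_apply_vec g (.inr 0)).1,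
    (coe_apply_vec g (.inr 0)).2.2]
  linear_combination h

end FixSecond

theorem piMat_mul {g h : G₄} (hg : g ∈ spGL 2 F) (hge : act g (vec 0 1 0 0) = vec 0 1 0 0) (hh : h ∈ spGL 2 F)
    (hhe : act h (vec 0 1 0 0) = vec 0 1 0 0) : piMat (g * h) = piMat g * piMat h := by
  have g1 : ∀ i, i ≠ Sum.inl 1 → (g : M₄) i (.inl 1) = 0 := fun i hi => by
    rw [(coe_apply_vec g i).2.1, hge]
    rcases i with i | i <;> fin_cases i <;> simp at hi ⊢
  have h1 : ∀ v : V₄, v (.inr 1) = 0 → act h v (.inr 1) = 0 := fun v hv => by rw [inr_one_zero hh hhe, hv]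
  have a := h1 (vec 1 0 0 0) (by simp)
  have b := h1 (vec 0 0 1 0) (by simp)
  rw [← (coe_apply_vec h (.inr 1)).1] at a
  rw [← (coe_apply_vec h (.inr 1)).2.2] at b
  ext i j
  fin_cases i <;> fin_cases j <;>
    simp [piMat, Units.val_mul, Matrix.mul_apply, Fintype.sum_sum_type, Fin.sum_univ_two, a, b, g1] <;> ring

/-- The subgroup fixing the second basis vector. -/
def fixSecond (P : Subgroup (GL (Fin 2 ⊕ Fin 2) F)) : Subgroup (GL (Fin 2 ⊕ Fin 2) F) where
  carrier := {g | g ∈ P ∧ g ∈ spGL 2 F ∧ act g (vec 0 1 0 0) = vec 0 1 0 0}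
  one_mem' := ⟨one_mem P, one_mem _, act_one _⟩
  mul_mem' {a b} ha hb := ⟨mul_mem ha.1 hb.1, mul_mem ha.2.1 hb.2.1, by rw [act_mul, hb.2.2, ha.2.2]⟩
  inv_mem' {a} ha := ⟨inv_mem ha.1, inv_mem ha.2.1, by
    conv_lhs => rw [← ha.2.2]
    exact act_inv_act a _⟩

/-- The projection to the first plane. -/
noncomputable def piHom (P : Subgroup (GL (Fin 2 ⊕ Fin 2) F)) :
    fixSecond P →* Matrix.SpecialLinearGroup (Fin 2) F where
  toFun g := ⟨piMat g, piMat_det g.2.2.1 g.2.2.2⟩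
  map_one' := Subtype.ext (by
    ext i j
    fin_cases i <;> fin_cases j <;> simp [piMat])
  map_mul' g h := Subtype.ext (piMat_mul g.2.2.1 g.2.2.2 h.2.2.1 h.2.2.2)

/-- The dichotomy in standard position: the centre off the line is the third basis vector. -/
theorem dich_standard {P : Subgroup G₄} (hP : P ≤ spGL 2 F) {α β γ : F} (hw : IsCtr P (vec 0 0 1 0))
    (hσ : IsCtr P (vec α 0 0 0)) (hτ : IsCtr P (vec β γ 0 0)) (hα : α ≠ 0) (hβ : β ≠ 0) (hαβ : α ≠ β)
    (hsmall : ∀ (v : V₄) (l : F), IsCtr P v → IsCtr P (l • v) → l = 1) :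
    (∃ z ∈ P, z * z = 1 ∧ act z (vec 0 1 0 0) = vec 0 1 0 0 ∧ ∃ lam : F, lam ≠ 0 ∧
        act z (vec 1 0 0 0) = vec 1 lam 0 0) ∨
      (∃ c : F, c ≠ 0 ∧ IsCtr P (vec 0 c 0 0) ∧ ∃ g ∈ P, act g (vec 0 1 0 0) = vec 0 1 0 0 ∧
        ∃ l m : F, l ≠ 1 ∧ act g (vec 1 0 0 0) = vec l m 0 0) := by
  classical
  have two := CharTwo.two_eq_zero (R := F)
  set Xs : Subgroup SL₂ := (piHom P).range with hXs
  have htv : ∀ {a b c : F}, IsCtr P (vec a b c 0) → tv (vec a b c 0) ∈ fixSecond P := fun {a b c} h =>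
    ⟨h.mem, tv_mem _, tv_fix (by simp [sf_eq])⟩
  have hupp : ∀ {a b : F}, IsCtr P (vec a b 0 0) → upp (a ^ 2) ∈ Xs := fun {a b} h => by
    refine ⟨⟨_, htv h⟩, Subtype.ext ?_⟩
    rw [upp_coe]
    show piMat (tv (vec a b 0 0)) = _
    ext i j
    fin_cases i <;> fin_cases j <;>
      simp [piMat, (coe_apply_vec _ _).1, (coe_apply_vec _ _).2.2, act_tv, sf_eq] <;> ring
  have hlow : low (1 : F) ∈ Xs := by
    refine ⟨⟨_, htv hw⟩, Subtype.ext ?_⟩
    rw [low_coe]
    show piMat (tv (vec 0 0 1 0)) = _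
    ext i j
    fin_cases i <;> fin_cases j <;>
      simp [piMat, (coe_apply_vec _ _).1, (coe_apply_vec _ _).2.2, act_tv, sf_eq]
  have hA : 3 ≤ {a : F | upp a ∈ Xs}.ncard := by
    have hsub : ({0, α ^ 2, β ^ 2} : Finset F) ⊆ ({a : F | upp a ∈ Xs}.toFinite.toFinset) := fun x hx => by
      rw [Set.Finite.mem_toFinset]
      simp only [Finset.mem_insert, Finset.mem_singleton] at hx
      rcases hx with rfl | rfl | rfl
      · show upp (0 : F) ∈ Xs
        rw [show upp (0 : F) = 1 from Subtype.ext (by ext i j; fin_cases i <;> fin_cases j <;> simp)]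
        exact one_mem _
      · exact hupp hσ
      · exact hupp hτ
    rw [Set.ncard_eq_toFinset_card _ (Set.toFinite _)]
    refine le_trans ?_ (Finset.card_le_card hsub)
    rw [Finset.card_insert_of_notMem (by simp; exact ⟨(pow_ne_zero 2 hα).symm, (pow_ne_zero 2 hβ).symm⟩), Finset.card_pair (fun e => hαβ (sq_inj e))]
  obtain ⟨F₀, R⟩ := exists_rootPair Xs hA hlow
  have hαF : α ∈ F₀ := sq_mem_iff.1 ((R.up _).1 (hupp hσ))
  have hβF : β ∈ F₀ := sq_mem_iff.1 ((R.up _).1 (hupp hτ))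
  set k := α + β with hk
  have hk0 : k ≠ 0 := fun e => hαβ (CharTwo.add_eq_zero.1 e)
  set l := k / α with hl
  have hl0 : l ≠ 0 := div_ne_zero hk0 hα
  have hl1 : l ≠ 1 := fun e => hβ (by
    rw [hl, div_eq_one_iff_eq hα] at e
    linear_combination e)
  obtain ⟨t, ht, htM⟩ := R.torus_mem (F₀.div_mem (F₀.add_mem hαF hβF) hαF) hl0
  obtain ⟨g, hgt⟩ := ht
  have hgP : (g : G₄) ∈ P := g.2.1
  have hge := g.2.2.2
  have hgM : piMat (g : G₄) = !![l, 0; 0, l⁻¹] := by
    rw [← htM, ← hgt]; rfl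
  set m := act (g : G₄) (vec 1 0 0 0) (.inl 1) with hm
  have hg1 : act (g : G₄) (vec 1 0 0 0) = vec l m 0 0 := by
    refine ext4 ?_ ?_ ?_ ?_
    · have := congrFun (congrFun hgM 0) 0
      simpa [piMat, (coe_apply_vec _ _).1] using this
    · simp [hm]
    · have := congrFun (congrFun hgM 1) 0
      simpa [piMat, (coe_apply_vec _ _).1] using this
    · rw [inr_one_zero g.2.2.1 hge]; simp
  have hσ'' : IsCtr P (vec k (α * m) 0 0) := by
    have h := hσ.map hP hgP
    rwa [show vec α 0 0 0 = α • vec (1 : F) 0 0 0 from ext4 (by simp) (by simp) (by simp) (by simp), act_smul, hg1,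
      show α • vec l m 0 0 = vec k (α * m) 0 0 from ext4 (by simp [hl]; field_simp) (by simp) (by simp) (by simp)] at h
  set δ := α * m with hδ
  set d := tv (vec α 0 0 0) * tv (vec β γ 0 0) * tv (vec k δ 0 0) with hd
  have hdP : d ∈ P := mul_mem (mul_mem hσ.mem hτ.mem) hσ''.mem
  set lam := β * γ + k * δ with hlam
  have hdx : ∀ x : V₄, act d x = vec (x (.inl 0) + lam * x (.inr 1))
      (x (.inl 1) + lam * x (.inr 0) + (γ + δ) ^ 2 * x (.inr 1)) (x (.inr 0)) (x (.inr 1)) := fun x => by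
    simp only [hd, act_mul, act_tv]
    refine ext4 ?_ ?_ ?_ ?_ <;> simp [sf_eq, hlam, hk]
    · linear_combination (x (.inr 0) * (α ^ 2 + α * β + β ^ 2)) * two
    · linear_combination -(x (.inr 1) * γ * δ) * two
  by_cases hl' : lam = 0
  · -- the product is a transvection at the second basis vector
    right
    set c := γ + δ with hc
    have hc0 : c ≠ 0 := fun e => by
      have hγδ : γ = δ := CharTwo.add_eq_zero.1 e
      have hγ : γ = 0 := by
        have : α * γ = 0 := by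
          rw [hlam, ← hγδ, hk] at hl'
          linear_combination hl' - β * γ * two
        exact (mul_eq_zero.1 this).resolve_left hα
      have := hsmall _ (β / α) hσ (by
        rw [show (β / α) • vec α 0 0 0 = vec β γ 0 0 from
          ext4 (by simp; field_simp) (by simp [hγ]) (by simp) (by simp)]
        exact hτ)
      exact hαβ ((div_eq_one_iff_eq hα).1 this).symm
    have hdc : tv (vec 0 c 0 0) = d := ext_act fun x => by
      rw [hdx, act_tv, hl']
      refine ext4 ?_ ?_ ?_ ?_ <;> simp [sf_eq]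
      ring
    exact ⟨c, hc0, ⟨fun e => hc0 (by simpa using congrFun e (.inl 1)), hdc ▸ hdP⟩, g, hgP, hge, l, m, hl1, hg1⟩
  · left
    refine ⟨tv (vec 0 0 1 0) * d * tv (vec 0 0 1 0), mul_mem (mul_mem hw.mem hdP) hw.mem, ?_, ?_, lam, hl', ?_⟩
    · have hdd : d * d = 1 := ext_act fun x => by
        rw [act_mul, hdx, hdx, act_one]
        refine ext4 ?_ ?_ ?_ ?_ <;> simp
        · linear_combination lam * x (.inr 1) * two
        · linear_combination (lam * x (.inr 0) + (γ + δ) ^ 2 * x (.inr 1)) * two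
      calc tv (vec 0 0 1 0) * d * tv (vec 0 0 1 0) * (tv (vec 0 0 1 0) * d * tv (vec 0 0 1 0))
          = tv (vec 0 0 1 0) * d * (tv (vec 0 0 1 0) * tv (vec 0 0 1 0)) * d * tv (vec 0 0 1 0) := by
            simp only [mul_assoc]
        _ = 1 := by rw [tv_sq, mul_one, mul_assoc _ d d, hdd, mul_one, tv_sq]
    · simp only [act_mul, act_tv, hdx]
      refine ext4 ?_ ?_ ?_ ?_ <;> simp [sf_eq]
    · simp only [act_mul, act_tv, hdx]
      refine ext4 ?_ ?_ ?_ ?_ <;> simp [sf_eq]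
      exact CharTwo.add_self_eq_zero _

namespace OnLine

variable {P T : Subgroup (GL (Fin 2 ⊕ Fin 2) F)} (H : OnLine P T)

include H

theorem dich {p : V₂} (hp : p ∈ funL P)
    (hv : ∃ σ ∈ ctrL P, ∃ τ ∈ ctrL P, dot2 p σ ≠ 0 ∧ dot2 p τ ≠ 0 ∧ dot2 p σ ≠ dot2 p τ) :
    (∃ x ∈ onL P, x ≠ 1 ∧ x * x = 1 ∧ ∀ r, dot2 p r = 0 → ap x r = r) ∨
      (∃ σ₀ ∈ ctrL P, dot2 p σ₀ = 0 ∧ ∃ h ∈ onL P, ap h σ₀ = σ₀ ∧ (h : M₂).det ≠ 1) := by
  obtain ⟨w, hw, hpw⟩ := hp
  obtain ⟨σ, hσ, τ, hτ, hα, hβ, hαβ⟩ := hv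
  have two := CharTwo.two_eq_zero (R := F)
  set α := dot2 p σ with hαd
  set β := dot2 p τ with hβd
  set r : V₂ := ![p 1, p 0] with hr
  have hr0 : dot2 p r = 0 := dot2_ap_symm p
  have hrne : r ≠ 0 := fun e => hα (by
    have e0 := congrFun e 0
    have e1 := congrFun e 1
    simp [hr] at e0 e1
    simp [hαd, dot2, e0, e1])
  obtain ⟨B, hB, h1, h2, h3⟩ := exists_frame_three (s₁ := lv (α⁻¹ • σ)) (s₂ := lv r) (v₁ := w)
    (by rw [sf_comm, lv_smul, sf_smul_right, sf_lv, ← hpw, ← hαd, inv_mul_cancel₀ hα]) (sf_lv_lv _ _)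
    (by rw [sf_comm, sf_lv, ← hpw, hr0]) (lv_ne_zero hrne)
  set s₁ : V₂ := α⁻¹ • σ with hs₁
  have hp1 : dot2 p s₁ = 1 := by
    rw [hs₁, hαd]; simp [dot2] at hα ⊢; field_simp; rw [div_self]; exact hα
  have hdet : det2 s₁ r ≠ 0 := by
    have : det2 s₁ r = dot2 p s₁ := by simp [det2, hr, dot2]; ring
    rw [this, hp1]; exact one_ne_zero
  set γ := det2 s₁ τ / det2 s₁ r with hγ
  have hτe : τ = β • s₁ + γ • r := by
    have e := expand2 hdet τ
    have hb : det2 τ r / det2 s₁ r = β := by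
      have e' := congrArg (dot2 p) e
      simp only [dot2, Pi.add_apply, Pi.smul_apply, smul_eq_mul] at e' hp1 hr0
      rw [hβd]; simp only [dot2]
      linear_combination -e' - (det2 τ r / det2 s₁ r) * hp1 - (det2 s₁ τ / det2 s₁ r) * hr0
    rw [hb] at e
    exact e
  have hlin : ∀ a b : F, act B (vec a b 0 0) = lv (a • s₁ + b • r) := fun a b => by
    rw [show vec a b 0 0 = a • vec (1 : F) 0 0 0 + b • vec 0 1 0 0 from ext4 (by simp) (by simp) (by simp) (by simp),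
      act_add, act_smul, act_smul, h1, h2, lv_add, lv_smul a s₁, lv_smul b r]
  have hBinv : ∀ {v : V₄}, IsCtr P (act B v) → IsCtr (mv B⁻¹ P) v := fun {v} h => by
    refine ⟨fun e => h.ne (by rw [e, act_zero]), ?_⟩
    have := conj_mem_mv (g := B⁻¹) h.mem
    rwa [tv_conj (inv_mem hB), act_inv_act] at this
  have hBmap : ∀ {v : V₄}, IsCtr (mv B⁻¹ P) v → IsCtr P (act B v) := fun {v} h => by
    refine ⟨act_ne_zero B h.ne, ?_⟩
    have := mem_mv.1 h.mem
    rwa [inv_inv, tv_conj hB] at this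
  have hPs : mv B⁻¹ P ≤ spGL 2 F := (H.simp'.mv (inv_mem hB)).le
  have hσ' : IsCtr (mv B⁻¹ P) (vec α 0 0 0) := hBinv (by
    rw [hlin, zero_smul, add_zero, hs₁, smul_inv_smul₀ hα]; exact hσ)
  have hτ' : IsCtr (mv B⁻¹ P) (vec β γ 0 0) := hBinv (by rw [hlin, ← hτe]; exact hτ)
  have hker : ∀ r', dot2 p r' = 0 → ∃ c : F, r' = c • r := fun r' hr' => proportional hrne (by
    simp only [det2, hr, dot2] at hr' ⊢
    simp
    linear_combination hr')
  have hBL : B ∈ stabL := mem_stabL_of_inL (σ := ![1, 0]) (τ := ![0, 1]) (by simp [det2])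
    (by rw [show lv ![(1 : F), 0] = vec 1 0 0 0 from ext4 (by simp [lv]) (by simp [lv]) (by simp [lv]) (by simp [lv]), h1]
        exact inL_lv _)
    (by rw [show lv ![(0 : F), 1] = vec 0 1 0 0 from ext4 (by simp [lv]) (by simp [lv]) (by simp [lv]) (by simp [lv]), h2]
        exact inL_lv _)
  rcases dich_standard hPs (hBinv (by rw [h3]; exact hw)) hσ' hτ' hα hβ hαβ
      (fun v l hv hv' => H.small (act B v) l (hBmap hv) (by rw [← act_smul]; exact hBmap hv')) with
    ⟨z, hz, hzz, hz2, lam, hlam, hz1⟩ | ⟨c, hc, hcc, g, hg, hg2, l, m, hl, hg1⟩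
  · left
    have hzP : B * z * B⁻¹ ∈ P := by simpa using mem_mv.1 hz
    have hr' : act (B * z * B⁻¹) (lv r) = lv r := by
      rw [← h2, act_mul, act_mul, act_inv_act, hz2]
    have hs' : act (B * z * B⁻¹) (lv s₁) = lv (s₁ + lam • r) := by
      rw [← h1, act_mul, act_mul, act_inv_act, hz1, hlin, one_smul]
    have hzs : B * z * B⁻¹ ∈ stabL := mem_stabL_of_inL hdet (by rw [hs']; exact inL_lv _) (by rw [hr']; exact inL_lv _)
    refine ⟨blockHom ⟨_, hzs⟩, mem_onL.2 ⟨⟨_, hzs⟩, hzP, rfl⟩, fun e => ?_, ?_, fun r' hr'' => ?_⟩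
    · have h := act_lv_hom (⟨_, hzs⟩ : stabL (F := F)) s₁
      rw [e, ap_one] at h
      have := lv_injective (hs'.symm.trans h)
      have h2' := congrArg (det2 s₁) this
      simp [det2] at h2'
      refine mul_ne_zero hlam hdet ?_
      simp only [det2]
      linear_combination h2'
    · rw [← map_mul, ← map_one (blockHom (F := F))]
      congr 1
      refine Subtype.ext ?_
      show B * z * B⁻¹ * (B * z * B⁻¹) = 1
      calc B * z * B⁻¹ * (B * z * B⁻¹) = B * (z * z) * B⁻¹ := by group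
        _ = 1 := by rw [hzz]; group
    · obtain ⟨c, rfl⟩ := hker r' hr''
      refine lv_injective ?_
      rw [← act_lv_hom, lv_smul, act_smul]
      show c • act (B * z * B⁻¹) (lv r) = _
      rw [hr']
  · right
    have hgP : B * g * B⁻¹ ∈ P := by simpa using mem_mv.1 hg
    have hr' : act (B * g * B⁻¹) (lv r) = lv r := by
      rw [← h2, act_mul, act_mul, act_inv_act, hg2]
    have hs' : act (B * g * B⁻¹) (lv s₁) = lv (l • s₁ + m • r) := by
      rw [← h1, act_mul, act_mul, act_inv_act, hg1, hlin]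
    have hgs : B * g * B⁻¹ ∈ stabL := mem_stabL_of_inL hdet (by rw [hs']; exact inL_lv _) (by rw [hr']; exact inL_lv _)
    have hcr : IsCtr P (lv (c • r)) := by
      have := hBmap hcc
      rwa [hlin, zero_smul, zero_add] at this
    have hap : ∀ s, ap (blockHom (⟨_, hgs⟩ : stabL (F := F))) s = blkA (B * g * B⁻¹) *ᵥ s := fun s => rfl
    refine ⟨c • r, hcr, ?_, blockHom ⟨_, hgs⟩, mem_onL.2 ⟨⟨_, hgs⟩, hgP, rfl⟩, ?_, ?_⟩
    · simp only [dot2, Pi.smul_apply, smul_eq_mul] at hr0 ⊢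
      linear_combination c * hr0
    · refine lv_injective ?_
      rw [← act_lv_hom, lv_smul, act_smul]
      show c • act (B * g * B⁻¹) (lv r) = _
      rw [hr']
    · intro e
      have hd := det2_ap (blockHom (⟨_, hgs⟩ : stabL (F := F))) s₁ r
      rw [e, one_mul] at hd
      have e1 : ap (blockHom (⟨_, hgs⟩ : stabL (F := F))) s₁ = l • s₁ + m • r :=
        lv_injective ((act_lv_hom _ _).symm.trans hs')
      have e2 : ap (blockHom (⟨_, hgs⟩ : stabL (F := F))) r = r :=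
        lv_injective ((act_lv_hom _ _).symm.trans hr')
      rw [e1, e2] at hd
      refine hl (mul_right_cancel₀ hdet ?_)
      simp only [det2, Pi.add_apply, Pi.smul_apply, smul_eq_mul] at hd ⊢
      linear_combination hd - m * r 0 * r 1 * two

theorem config : Config (onL P) (ctrL P) (funL P) where
  ne_zero σ hσ := by rintro rfl; exact hσ.ne (ext4 (by simp [lv]) (by simp [lv]) (by simp [lv]) (by simp [lv]))
  inv g hg σ hσ := by
    obtain ⟨n, hn, rfl⟩ := mem_onL.1 hg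
    show IsCtr P (lv _)
    rw [← act_lv_hom]
    exact IsCtr.map H.simp'.le hσ hn
  trans σ hσ τ hτ := by
    obtain ⟨n, hn, e⟩ := H.exists_mover hσ hτ
    exact ⟨_, mem_onL.2 ⟨n, hn, rfl⟩, e⟩
  two := by
    obtain ⟨σ, τ, h, hσ, hτ⟩ := H.pair
    exact ⟨σ, ⟨lv_ne_zero (by rintro rfl; simp [det2] at h), H.syl.le hσ⟩, τ,
      ⟨lv_ne_zero (by rintro rfl; simp [det2] at h), H.syl.le hτ⟩, h⟩
  small σ hσ l hl := H.small (lv σ) l hσ (by rw [← lv_smul]; exact hl)
  noform a b c c₀ hc hq := H.transfer hc hq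
  span s hs := by
    by_contra hcon
    push Not at hcon
    obtain ⟨σ, τ, h, hσ, -⟩ := H.pair
    refine lv_ne_zero hs (H.simp'.eq_zero_of_perp H.fix
      (v := lv σ) ⟨lv_ne_zero (by rintro rfl; simp [det2] at h), H.syl.le hσ⟩ fun o ho => ?_)
    rw [sf_comm, sf_lv]
    exact hcon _ ⟨o, ho, rfl⟩
  dich p hp hv := H.dich hp hv
  comb := by
    rintro p ⟨w₁, hw₁, rfl⟩ p' ⟨w₂, hw₂, rfl⟩
    have comb : ∀ {w₂ : V₄}, IsCtr P w₂ →
        (fun i => w₂ (Sum.inr i)) + sf w₂ w₁ • (fun i => w₁ (Sum.inr i)) ∈ funL P := fun {w₂} hw₂ => by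
      refine ⟨act (tv w₁) w₂, hw₂.map H.simp'.le hw₁.mem, ?_⟩
      rw [act_tv]; rfl
    refine ⟨sf w₂ w₁, comb hw₂, fun σ hσ => ?_⟩
    have h := comb (w₂ := act (tv (lv σ)) w₂) (hw₂.map H.simp'.le hσ.mem)
    rw [act_tv, sf_add_left, sf_smul_left] at h
    have e : (fun i => (w₂ + sf w₂ (lv σ) • lv σ) (Sum.inr i)) = fun i => w₂ (Sum.inr i) := by
      funext i; simp [lv_inr]
    rw [e, sf_comm (lv σ), sf_lv, sf_lv, mul_comm] at h
    exact h

end OnLine

end Cfsg.Agent.Classical.SpFourRes
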