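import Cfsg.Agent.Lib.Classical.SpFourRes.Star
import Cfsg.Prelude.Def_GeometricClasses

/-!
Involutions in a residual simple subgroup of the four-dimensional symplectic group, and their centralisers.
-/

set_option autoImplicit false
set_option linter.unusedSectionVars false

namespace Cfsg.Agent.Classical.SpFourRes

open Matrix

variable {F : Type*} [Field F]

local notation "V₂" => (Fin 2 → F)
local notation "V₄" => (Fin 2 ⊕ Fin 2 → F)
local notation "M₂" => Matrix (Fin 2) (Fin 2) F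
local notation "M₄" => Matrix (Fin 2 ⊕ Fin 2) (Fin 2 ⊕ Fin 2) F
local notation "G₄" => GL (Fin 2 ⊕ Fin 2) F

/-- The hypotheses on the residual subgroup. -/
structure Res [Fintype F] (P : Subgroup (GL (Fin 2 ⊕ Fin 2) F)) : Prop where
  simp' : SimpleSp P
  irr : ∀ W : Submodule F (Fin 2 ⊕ Fin 2 → F), (∀ g ∈ P, ∀ v ∈ W, act g v ∈ W) → W = ⊥ ∨ W = ⊤
  absolute : ∀ M : Matrix (Fin 2 ⊕ Fin 2) (Fin 2 ⊕ Fin 2) F,
    (∀ g ∈ P, M * (g : Matrix (Fin 2 ⊕ Fin 2) (Fin 2 ⊕ Fin 2) F) = (g : Matrix (Fin 2 ⊕ Fin 2) (Fin 2 ⊕ Fin 2) F) * M) →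
      ∃ c : F, M = c • (1 : Matrix (Fin 2 ⊕ Fin 2) (Fin 2 ⊕ Fin 2) F)
  noSub : ∀ F₀ : Subfield F, F₀ ≠ ⊤ → ∀ B : GL (Fin 2 ⊕ Fin 2) F,
    ¬ ∀ g ∈ P, ∀ i j, ((B⁻¹ * g * B : GL (Fin 2 ⊕ Fin 2) F) : Matrix (Fin 2 ⊕ Fin 2) (Fin 2 ⊕ Fin 2) F) i j ∈ F₀
  notFull : ¬ spGL 2 F ≤ P
  noQuad : ¬ ∃ Q : (Fin 2 ⊕ Fin 2 → F) → F, Geo.IsNondegenerateQuadraticForm Q ∧
    Geo.FixesQuadForm (Geo.matrixSet P) Q

/-- The unipotent element with symmetric block `(p, q; q, r)`. -/
def IsUni (g : GL (Fin 2 ⊕ Fin 2) F) (p q r : F) : Prop :=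
  ∀ x : Fin 2 ⊕ Fin 2 → F, act g x = vec (x (.inl 0) + p * x (.inr 0) + q * x (.inr 1))
    (x (.inl 1) + q * x (.inr 0) + r * x (.inr 1)) (x (.inr 0)) (x (.inr 1))

namespace IsUni

variable [CharP F 2] {g h : GL (Fin 2 ⊕ Fin 2) F} {p q r p' q' r' : F}

theorem mul (hg : IsUni g p q r) (hh : IsUni h p' q' r') : IsUni (g * h) (p + p') (q + q') (r + r') := fun x => by
  rw [act_mul, hh, hg]
  refine ext4 ?_ ?_ ?_ ?_ <;> simp <;> ring

theorem unique (hg : IsUni g p q r) (hg' : IsUni g p' q' r') : p = p' ∧ q = q' ∧ r = r' := by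
  have e0 := (hg (vec 0 0 1 0)).symm.trans (hg' _)
  have e1 := (hg (vec 0 0 0 1)).symm.trans (hg' _)
  have a := congrFun e0 (.inl 0)
  have b := congrFun e0 (.inl 1)
  have c := congrFun e1 (.inl 1)
  simp at a b c
  exact ⟨a, b, c⟩

theorem eq (hg : IsUni g p q r) (hh : IsUni h p q r) : g = h := ext_act fun x => by rw [hg, hh]

theorem eq_one_iff (hg : IsUni g p q r) : g = 1 ↔ p = 0 ∧ q = 0 ∧ r = 0 := by
  constructor
  · rintro rfl
    exact hg.unique (fun x => by rw [act_one]; simp [vec_eta])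
  · rintro ⟨rfl, rfl, rfl⟩
    exact ext_act fun x => by rw [hg, act_one]; simp [vec_eta]

theorem mem_sp (hg : IsUni g p q r) : g ∈ spGL 2 F := fun x y => by
  show sf (act g x) (act g y) = sf x y
  rw [hg, hg, sf_eq, sf_eq]
  simp
  linear_combination (p * x (.inr 0) * y (.inr 0) + q * x (.inr 1) * y (.inr 0) + q * x (.inr 0) * y (.inr 1) +
    r * x (.inr 1) * y (.inr 1)) * CharTwo.two_eq_zero (R := F)

theorem act_lv_eq (hg : IsUni g p q r) (s : V₂) : act g (lv s) = lv s := by
  rw [hg]; refine ext4 ?_ ?_ ?_ ?_ <;> simp [lv]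

end IsUni

theorem tv_isUni [CharP F 2] (a b : F) : IsUni (tv (vec a b 0 0)) (a ^ 2) (a * b) (b ^ 2) := fun x => by
  rw [act_tv]; refine ext4 ?_ ?_ ?_ ?_ <;> simp [sf_eq] <;> ring

variable [Fintype F] [CharP F 2]

/-- An element commuting with a nondegenerate unipotent stabilises the line and fixes its block. -/
theorem commute_uni {u k : GL (Fin 2 ⊕ Fin 2) F} {p q r : F} (hU : IsUni u p q r) (hd : p * r + q ^ 2 ≠ 0)
    (hks : k ∈ spGL 2 F) (hcomm : k * u = u * k) :
    k ∈ stabL ∧ blkA k * !![p, q; q, r] * (blkA k)ᵀ = !![p, q; q, r] := by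
  have two := CharTwo.two_eq_zero (R := F)
  have hkL : k ∈ stabL := by
    have hout : ∀ x, InL (act k (act u x + x)) := fun x => by
      rw [act_add, ← act_mul, hcomm, act_mul, hU]
      constructor <;> simp [CharTwo.add_self_eq_zero]
    have e0 : ∀ a b, act u (vec 0 0 a b) + vec 0 0 a b = lv ![p * a + q * b, q * a + r * b] := fun a b => by
      rw [hU]; refine ext4 ?_ ?_ ?_ ?_ <;> simp [lv, CharTwo.add_self_eq_zero]
    refine mem_stabL_of_inL (σ := ![p * 1 + q * 0, q * 1 + r * 0]) (τ := ![p * 0 + q * 1, q * 0 + r * 1]) ?_ ?_ ?_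
    · simp [det2]; intro e; exact hd (by linear_combination e)
    · rw [← e0]; exact hout _
    · rw [← e0]; exact hout _
  set A := blkA k with hA
  have hM : blkB u = !![p, q; q, r] := by
    ext i j
    simp only [blkB, Matrix.of_apply]
    rw [coe_apply_act, hU]
    fin_cases i <;> fin_cases j <;> simp
  have hAu : blkA u = 1 := by
    ext i j
    simp only [blkA, Matrix.of_apply]
    rw [coe_apply_act, hU]
    fin_cases i <;> fin_cases j <;> simp
  have hDu : blkD u = 1 := by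
    ext i j
    simp only [blkD, Matrix.of_apply]
    rw [coe_apply_act, hU]
    fin_cases i <;> fin_cases j <;> simp
  have e := congrArg blkB hcomm
  rw [blkB_mul, blkB_mul, hDu, hAu, Matrix.mul_one, Matrix.one_mul, hM, add_comm (blkB k)] at e
  have e' : A * !![p, q; q, r] = !![p, q; q, r] * blkD k := add_right_cancel e
  have hAMA : A * !![p, q; q, r] * Aᵀ = !![p, q; q, r] := by
    rw [e', Matrix.mul_assoc, mul_eq_one_comm.1 (blk_dual hkL hks), Matrix.mul_one]
  exact ⟨hkL, hAMA⟩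

/-- Symplectic elements fixing the line pointwise are unipotent with their upper right block. -/
theorem isUni_of_fixL {g : GL (Fin 2 ⊕ Fin 2) F} (hg : g ∈ spGL 2 F) (h : ∀ s, act g (lv s) = lv s) :
    IsUni g (blkB g 0 0) (blkB g 1 0) (blkB g 1 1) ∧ blkB g 0 1 = blkB g 1 0 ∧ blkA g = 1 ∧ blkD g = 1 := by
  have two := CharTwo.two_eq_zero (R := F)
  have hr0 : ∀ x, act g x (.inr 0) = x (.inr 0) := fun x => by
    have e := sf_act hg x (lv ![1, 0])
    rw [h, sf_eq, sf_eq] at e
    simpa [lv] using e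
  have hr1 : ∀ x, act g x (.inr 1) = x (.inr 1) := fun x => by
    have e := sf_act hg x (lv ![0, 1])
    rw [h, sf_eq, sf_eq] at e
    simpa [lv] using e
  have hb : blkB g 0 1 = blkB g 1 0 := by
    have e := sf_act hg (vec 0 0 1 0) (vec 0 0 0 1)
    rw [sf_eq, sf_eq, hr0, hr0, hr1, hr1] at e
    simp at e
    simp only [blkB, Matrix.of_apply]
    rw [coe_apply_act, coe_apply_act]
    have s0 : (Pi.single (Sum.inr 0) 1 : V₄) = vec 0 0 1 0 := ext4 (by simp) (by simp) (by simp) (by simp)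
    have s1 : (Pi.single (Sum.inr 1) 1 : V₄) = vec 0 0 0 1 := ext4 (by simp) (by simp) (by simp) (by simp)
    rw [s0, s1]
    exact CharTwo.add_eq_zero.1 (by linear_combination e)
  refine ⟨fun x => ?_, hb, ?_, ?_⟩
  · have el : act g x = act g (lv ![x (.inl 0), x (.inl 1)]) + x (.inr 0) • act g (vec 0 0 1 0) +
        x (.inr 1) • act g (vec 0 0 0 1) := by
      rw [← act_smul, ← act_smul, ← act_add, ← act_add]
      congr 1
      refine ext4 ?_ ?_ ?_ ?_ <;> simp [lv]
    have hB : ∀ (i j : Fin 2), act g (vec 0 0 (if j = 0 then 1 else 0) (if j = 0 then 0 else 1)) (.inl i) =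
        blkB g i j := fun i j => by
      simp only [blkB, Matrix.of_apply]
      rw [coe_apply_act]
      congr 2
      fin_cases j <;> refine ext4 ?_ ?_ ?_ ?_ <;> simp
    have b00 := hB 0 0
    have b01 := hB 0 1
    have b10 := hB 1 0
    have b11 := hB 1 1
    simp at b00 b01 b10 b11
    refine ext4 ?_ ?_ ?_ ?_
    · rw [el, h]; simp [lv, b00, b01, hb]; ring
    · rw [el, h]; simp [lv, b10, b11]; ring
    · simp [hr0]
    · simp [hr1]
  · ext i j
    simp only [blkA, Matrix.of_apply]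
    rw [coe_apply_act, show (Pi.single (Sum.inl j) 1 : V₄) = lv (Pi.single j 1) by
      fin_cases j <;> refine ext4 ?_ ?_ ?_ ?_ <;> simp [lv], h, lv_inl, Matrix.one_apply, Pi.single_apply]
  · ext i j
    simp only [blkD, Matrix.of_apply]
    rw [coe_apply_act]
    fin_cases i <;> fin_cases j <;> simp [hr0, hr1]

namespace Res

variable {P : Subgroup (GL (Fin 2 ⊕ Fin 2) F)} (R : Res P)

include R

theorem fix {x : V₄} (h : ∀ g ∈ P, act g x = x) : x = 0 := by
  by_contra hx
  rcases R.irr (Submodule.span F {x}) (fun g hg v hv => by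
    rw [Submodule.mem_span_singleton] at hv ⊢
    obtain ⟨c, rfl⟩ := hv
    exact ⟨c, by rw [act_smul, h g hg]⟩) with e | e
  · exact hx (by
      have hm := Submodule.mem_span_singleton_self (R := F) x
      rwa [e, Submodule.mem_bot] at hm)
  · obtain ⟨z, hz⟩ := exists_sympForm_eq_one hx
    have hm : z ∈ Submodule.span F {x} := e ▸ Submodule.mem_top
    obtain ⟨c, rfl⟩ := Submodule.mem_span_singleton.1 hm
    rw [sympForm_smul_right, sympForm_self, mul_zero] at hz
    exact zero_ne_one hz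

/-- No transvections. -/
theorem no_tv {v : V₄} (hv : v ≠ 0) : tv v ∉ P := fun hm => by
  obtain ⟨F₀, ⟨B, -, hB⟩, htop⟩ := transvection_dichotomy R.simp' ⟨hv, hm⟩ fun x hx => R.fix hx
  by_cases h : F₀ = ⊤
  · exact R.notFull (htop h)
  · exact R.noSub F₀ h B hB

/-- No transvections in the image under the endomorphism. -/
theorem no_tv_rho {v : V₄} (hv : v ≠ 0) : tv v ∉ rhoGrp P := fun hm => by
  obtain ⟨F₀, ⟨B, hBs, hB⟩, htop⟩ := transvection_dichotomy R.simp'.rhoGrp ⟨hv, hm⟩
    fun x hx => rhoGrp_fix R.simp'.le R.irr hx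
  by_cases h : F₀ = ⊤
  · exact R.notFull (exists_rhoGrp_eq R.simp'.le (htop h))
  · obtain ⟨C, hC⟩ := rhoHom_surjective ⟨B, hBs⟩
    have hCB : rho C = B := congrArg Subtype.val hC
    refine R.noSub F₀ h (C : G₄) fun g hg => ?_
    have hr : rho (C⁻¹ * ⟨g, R.simp'.le hg⟩ * C) ∈ spRat F₀ := by
      refine ⟨rho_mem _, ?_⟩
      have e : rho (C⁻¹ * ⟨g, R.simp'.le hg⟩ * C) = B⁻¹ * rho ⟨g, R.simp'.le hg⟩ * B := by
        rw [rho_mul, rho_mul, hCB, ← coe_rhoHom C⁻¹, map_inv, Subgroup.coe_inv, coe_rhoHom, hCB]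
      rw [e]
      exact hB _ (mem_rhoGrp.2 ⟨_, hg, rfl⟩)
    exact (rat_of_rho hr).2

theorem conj {B : G₄} (hB : B ∈ spGL 2 F) : Res (mv B P) where
  simp' := R.simp'.mv hB
  irr W hW := by
    let e : V₄ ≃ₗ[F] V₄ :=
      { toFun := act B, invFun := act B⁻¹, map_add' := act_add B, map_smul' := act_smul B,
        left_inv := act_inv_act B, right_inv := act_act_inv B }
    rcases R.irr (W.comap e.toLinearMap) (fun g hg v hv => by
        have := hW _ (conj_mem_mv (g := B) hg) _ hv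
        simpa [e, act_mul, act_inv_act] using this) with h | h
    · exact Or.inl (Submodule.comap_injective_of_surjective e.surjective (h.trans (by ext x; simp [e]; exact ⟨fun hx => by rw [hx, act_zero], fun hx => act_injective B (hx.trans (act_zero B).symm)⟩)))
    · exact Or.inr (Submodule.comap_injective_of_surjective e.surjective (h.trans (by simp)))
  absolute M hM := by
    obtain ⟨c, hc⟩ := R.absolute ((B⁻¹ : G₄).val * M * (B : M₄)) fun g hg => by
      have h := hM _ (conj_mem_mv (g := B) hg)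
      rw [Units.val_mul, Units.val_mul] at h
      calc (B⁻¹ : G₄).val * M * (B : M₄) * (g : M₄)
          = (B⁻¹ : G₄).val * (M * ((B : M₄) * (g : M₄) * (B⁻¹ : G₄).val)) * (B : M₄) := by
            simp only [mul_assoc, Units.inv_mul, mul_one]
        _ = (B⁻¹ : G₄).val * ((B : M₄) * (g : M₄) * (B⁻¹ : G₄).val * M) * (B : M₄) := by rw [h]
        _ = (g : M₄) * ((B⁻¹ : G₄).val * M * (B : M₄)) := by
            simp only [← mul_assoc, Units.inv_mul, one_mul]
    refine ⟨c, ?_⟩
    calc M = (B : M₄) * ((B⁻¹ : G₄).val * M * (B : M₄)) * (B⁻¹ : G₄).val := by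
          simp only [mul_assoc, Units.mul_inv, mul_one]
          rw [← mul_assoc (B : M₄), Units.mul_inv, one_mul]
      _ = c • 1 := by rw [hc]; simp
  noSub F₀ h0 C hC := R.noSub F₀ h0 (B⁻¹ * C) fun g hg => by
    have e : (B⁻¹ * C)⁻¹ * g * (B⁻¹ * C) = C⁻¹ * (B * g * B⁻¹) * C := by group
    rw [e]
    exact hC _ (conj_mem_mv hg)
  notFull h := R.notFull fun g hg => by
    have := h (mul_mem (mul_mem hB hg) (inv_mem hB))
    rw [mem_mv] at this
    simpa [mul_assoc] using this
  noQuad := by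
    rintro ⟨Q, hQ, hfix⟩
    refine R.noQuad ⟨fun v => Q (act B v), ?_, ?_⟩
    · obtain ⟨hs, hb, hn⟩ := hQ
      have hpol : ∀ u v, QuadraticMap.polar (fun v => Q (act B v)) u v = QuadraticMap.polar Q (act B u) (act B v) :=
        fun u v => by simp [QuadraticMap.polar, act_add]
      refine ⟨fun c v => by simp [act_smul, hs],
        ⟨fun x y v => ?_, fun c x v => ?_, fun x v w => ?_, fun c x v => ?_⟩, fun v hv => ?_⟩
      · simp only [hpol, act_add]; exact hb.add_left _ _ _
      · simp only [hpol, act_smul]; exact hb.smul_left _ _ _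
      · simp only [hpol, act_add]; exact hb.add_right _ _ _
      · simp only [hpol, act_smul]; exact hb.smul_right _ _ _
      · obtain ⟨⟨x, hx⟩, y, hy⟩ := hn (act B v) (act_ne_zero B hv)
        exact ⟨⟨act B⁻¹ x, by rw [hpol, act_act_inv]; exact hx⟩, act B⁻¹ y, by rw [hpol, act_act_inv]; exact hy⟩
    · rintro _ ⟨g, hg, rfl⟩ v
      have := hfix _ ⟨_, conj_mem_mv (g := B) hg, rfl⟩ (act B v)
      show Q (act B (act g v)) = Q (act B v)
      rw [← this]
      show Q _ = Q (act (B * g * B⁻¹) (act B v))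
      rw [act_mul, act_mul, act_inv_act]

/-- A nontrivial unipotent of the group has a nondegenerate, nonalternating block. -/
theorem uni_nondeg {g : G₄} (hg : g ∈ P) (h1 : g ≠ 1) {p q r : F} (hU : IsUni g p q r) :
    p * r + q ^ 2 ≠ 0 ∧ ¬ (p = 0 ∧ r = 0) := by
  refine ⟨fun hd => ?_, fun ⟨hp0, hr0⟩ => ?_⟩
  · obtain ⟨a, ha⟩ := exists_sq p
    obtain ⟨b, hb⟩ := exists_sq r
    have hab : a * b = q := sq_inj (by
      rw [mul_pow, ha, hb]; linear_combination hd - q ^ 2 * CharTwo.two_eq_zero (R := F))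
    have hu := tv_isUni a b
    rw [ha, hb, hab] at hu
    have e : g = tv (vec a b 0 0) := hU.eq hu
    refine R.no_tv (fun h0 => h1 ?_) (e ▸ hg)
    rw [e, h0, tv_zero]
  · have hgs := R.simp'.le hg
    have hrho : rho ⟨g, hgs⟩ = tv (vec q 0 0 0) := by
      obtain ⟨s1, s2, s3, s4⟩ := act_rho_std (⟨g, hgs⟩ : spGL 2 F)
      refine ext_act fun z => ?_
      rw [std_sum z, act_add, act_add, act_add, act_smul, act_smul, act_smul, act_smul, s1, s2, s3, s4,
        hU, hU, hU, hU, hp0, hr0, act_tv]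
      refine ext4 ?_ ?_ ?_ ?_ <;> simp [wedge, sf_eq] <;> ring
    refine R.no_tv_rho (fun h0 => h1 (hU.eq_one_iff.2 ⟨hp0, ?_, hr0⟩)) (mem_rhoGrp.2 ⟨⟨g, hgs⟩, hg, hrho⟩)
    simpa using congrFun h0 (.inl 0)

/-- Every involution is conjugate to a unipotent with nondegenerate nonalternating block. -/
theorem invol {t : G₄} (ht : t ∈ P) (h2 : orderOf t = 2) :
    ∃ B ∈ spGL 2 F, ∃ p q r : F, IsUni (B⁻¹ * t * B) p q r ∧ p * r + q ^ 2 ≠ 0 ∧ ¬ (p = 0 ∧ r = 0) := by
  have two := CharTwo.two_eq_zero (R := F)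
  have hts := R.simp'.le ht
  have htt : t * t = 1 := by
    have h := pow_orderOf_eq_one t
    rwa [h2, pow_two] at h
  have hself : ∀ x y, sf (act t x) y = sf x (act t y) := fun x y => by
    conv_lhs => rw [← act_one y, ← htt, act_mul]
    exact sf_act hts _ _
  -- the image of `t + 1` is totally isotropic
  set N : V₄ → V₄ := fun x => act t x + x with hN
  have hiso : ∀ x y, sf (N x) (N y) = 0 := fun x y => by
    simp only [hN, sf_add_left, sf_add_right, sf_act hts, hself]
    linear_combination (sf x y + sf x (act t y)) * two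
  have hfixN : ∀ x, act t (N x) = N x := fun x => by
    simp only [hN, act_add, ← act_mul, htt, act_one, add_comm]
  obtain ⟨B, hB, him⟩ : ∃ B ∈ spGL 2 F, ∀ x, InL (act B⁻¹ (N x)) := by
    obtain ⟨x₀, hx₀⟩ : ∃ x, N x ≠ 0 := by
      by_contra hcon
      push Not at hcon
      have : t = 1 := ext_act fun x => by
        rw [act_one]; exact funext fun i => CharTwo.add_eq_zero.1 (congrFun (hcon x) i)
      rw [this, orderOf_one] at h2
      omega
    by_cases hr : ∀ x, ∃ c : F, N x = c • N x₀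
    · obtain ⟨B, hB, hBe⟩ := exists_frame_one hx₀
      refine ⟨B, hB, fun x => ?_⟩
      obtain ⟨c, hc⟩ := hr x
      rw [hc, ← hBe, act_smul, act_inv_act]
      exact ⟨by simp, by simp⟩
    · push Not at hr
      obtain ⟨x₁, hx₁⟩ := hr
      obtain ⟨B, hB, hB1, hB2⟩ := exists_frame_two (s₁ := N x₁) (s₂ := N x₀)
        (linearIndependent_fin2.2 ⟨hx₀, fun c e => hx₁ c (by simpa using e.symm)⟩) (hiso _ _)
      refine ⟨B, hB, fun x => ?_⟩
      have a := hiso x x₁
      have b := hiso x x₀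
      rw [← hB1, ← sf_act (inv_mem hB), act_inv_act, sf_eq] at a
      rw [← hB2, ← sf_act (inv_mem hB), act_inv_act, sf_eq] at b
      simp at a b
      exact ⟨a, b⟩
  set u := B⁻¹ * t * B with hu
  have hus : u ∈ spGL 2 F := mul_mem (mul_mem (inv_mem hB) hts) hB
  have hdiff : ∀ x, InL (act u x + x) := fun x => by
    have e : act u x + x = act B⁻¹ (N (act B x)) := by
      simp only [hN, hu, act_mul, act_add, act_inv_act]
    rw [e]; exact him _
  have hr : ∀ x i, act u x (.inr i) = x (.inr i) := fun x i => by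
    have h := hdiff x
    fin_cases i
    · exact CharTwo.add_eq_zero.1 h.1
    · exact CharTwo.add_eq_zero.1 h.2
  have hfixL : ∀ s, act u (lv s) = lv s := fun s => by
    refine eq_of_sf_eq fun z => ?_
    have h1 : sf (act u (lv s)) (act u z) = sf (lv s) z := sf_act hus _ _
    obtain ⟨w, hw⟩ : ∃ w, z = act u w := ⟨_, (act_act_inv u z).symm⟩
    rw [hw, sf_act hus]
    have hzw : act u w = w + (act u w + w) := funext fun i => by
      simp only [Pi.add_apply]; linear_combination -(w i) * two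
    rw [hzw, sf_add_right, (hdiff w).eq, sf_lv_lv, add_zero]
  obtain ⟨hU, -, -, -⟩ := isUni_of_fixL hus hfixL
  have hu1 : u ≠ 1 := fun e => by
    have : t = B * 1 * B⁻¹ := by rw [← e, hu]; group
    rw [mul_one, mul_inv_cancel] at this
    rw [this, orderOf_one] at h2
    omega
  have huP : u ∈ mv B⁻¹ P := by
    have := conj_mem_mv (g := B⁻¹) ht
    rwa [inv_inv] at this
  exact ⟨B, hB, _, _, _, hU, (R.conj (inv_mem hB)).uni_nondeg huP hu1 hU⟩

/-- Centralisers of involutions are two-groups. -/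
theorem cit {t : G₄} (ht : t ∈ P) (h2 : orderOf t = 2) {c : G₄} (hc : c ∈ P) (hct : c * t = t * c) :
    c ^ 4 = 1 := by
  obtain ⟨B, hB, p, q, r, hU, hd, hdiag⟩ := R.invol ht h2
  set u := B⁻¹ * t * B with hu
  set k := B⁻¹ * c * B with hk
  have hks : k ∈ spGL 2 F := mul_mem (mul_mem (inv_mem hB) (R.simp'.le hc)) hB
  have hcomm : k * u = u * k := by
    rw [hk, hu]
    calc B⁻¹ * c * B * (B⁻¹ * t * B) = B⁻¹ * (c * t) * B := by group
      _ = _ := by rw [hct]; group
  have two := CharTwo.two_eq_zero (R := F)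
  clear_value u k
  obtain ⟨hkL, hAMA⟩ := commute_uni hU hd hks hcomm
  set A := blkA k with hA
  have hdA : A.det = 1 := by
    have h := congrArg Matrix.det hAMA
    rw [Matrix.det_mul, Matrix.det_mul, Matrix.det_transpose] at h
    have hne : (!![p, q; q, r] : M₂).det ≠ 0 := by
      rw [det_fin_two_of, CharTwo.sub_eq_add]; intro e; exact hd (by linear_combination e)
    exact sq_inj (by rw [one_pow, pow_two]; exact mul_right_cancel₀ hne (by linear_combination h))
  obtain ⟨a, ha⟩ := exists_sq p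
  obtain ⟨b, hb⟩ := exists_sq r
  have h00 := congrFun (congrFun hAMA 0) 0
  have h11 := congrFun (congrFun hAMA 1) 1
  simp [Matrix.mul_apply, Fin.sum_univ_two] at h00 h11
  have f0 : A 0 0 * a + A 0 1 * b = a := sq_inj (by
    rw [CharTwo.add_sq, mul_pow, mul_pow, ha, hb]
    linear_combination h00 - (q * A 0 0 * A 0 1) * two)
  have f1 : A 1 0 * a + A 1 1 * b = b := sq_inj (by
    rw [CharTwo.add_sq, mul_pow, mul_pow, ha, hb]
    linear_combination h11 - (q * A 1 0 * A 1 1) * two)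
  have htr : A 0 0 = A 1 1 := by
    rw [det_two] at hdA
    refine CharTwo.add_eq_zero.1 ?_
    by_cases ha0 : a = 0
    · have hb0 : b ≠ 0 := fun e => hdiag ⟨by rw [← ha, ha0]; simp, by rw [← hb, e]; simp⟩
      exact (mul_eq_zero.1 (show (A 0 0 + A 1 1) * b = 0 by
        linear_combination (A 0 0 + 1) * f1 + A 1 0 * f0 - b * hdA +
          (b * A 0 1 * A 1 0 + b * A 0 0 - (A 1 0 * a) * 0) * 0 + (A 0 0 * b - A 0 0 * A 1 0 * a) * two)).resolve_right hb0
    · exact (mul_eq_zero.1 (show (A 0 0 + A 1 1) * a = 0 by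
        linear_combination (A 1 1 + 1) * f0 + A 0 1 * f1 - a * hdA + (A 1 1 * a - A 1 1 * A 0 1 * b) * two)).resolve_right ha0
  have hkk : ∀ s, act (k * k) (lv s) = lv s := fun s => by
    rw [act_mul, act_lv hkL, act_lv hkL, Matrix.mulVec_mulVec]
    rw [det_two] at hdA
    have h1 : A * A = 1 := by
      ext i j
      fin_cases i <;> fin_cases j <;> simp [Matrix.mul_apply, Fin.sum_univ_two]
      · linear_combination hdA + A 0 0 * htr
      · linear_combination A 0 1 * htr + A 0 1 * A 1 1 * two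
      · linear_combination A 1 0 * htr + A 1 0 * A 1 1 * two
      · linear_combination hdA - A 1 1 * htr
    rw [← hA, h1, Matrix.one_mulVec]
  have hk4 : k * k * (k * k) = 1 := sq_eq_one_of_fixL (mul_mem hks hks) hkk
  have : c = B * k * B⁻¹ := by rw [hk]; group
  rw [this]
  rw [conj_pow, show k ^ 4 = k * k * (k * k) by simp only [pow_succ, pow_zero, one_mul, mul_assoc], hk4]
  group

end Res

end Cfsg.Agent.Classical.SpFourRes
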