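import Cfsg.Agent.Lib.Classical.SpFourRes.LTwoMain

/-!
`SL(2, 2^n)`: normal form of the Sylow two-subgroup and the two cases.
-/

set_option autoImplicit false
set_option linter.unusedSectionVars false

namespace Cfsg.Agent.Classical.SpFourRes

open Matrix
open Cfsg.Agent.Classical.Residual (upp low upp_coe low_coe)

variable {F : Type*} [Field F] [CharP F 2] [Fintype F]
variable {K : Type*} [Field K] [CharP K 2] [Fintype K]

local notation "V₂" => (Fin 2 → F)
local notation "V₄" => (Fin 2 ⊕ Fin 2 → F)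
local notation "M₂" => Matrix (Fin 2) (Fin 2) F
local notation "M₄" => Matrix (Fin 2 ⊕ Fin 2) (Fin 2 ⊕ Fin 2) F
local notation "G₄" => GL (Fin 2 ⊕ Fin 2) F
local notation "S₂" => Matrix.SpecialLinearGroup (Fin 2) K

/-- The upper root group. -/
def uppGrp : Subgroup (Matrix.SpecialLinearGroup (Fin 2) K) where
  carrier := Set.range upp
  one_mem' := ⟨0, upp_zero'⟩
  mul_mem' := by rintro _ _ ⟨a, rfl⟩ ⟨b, rfl⟩; exact ⟨a + b, (Residual.upp_mul a b).symm⟩
  inv_mem' := by rintro _ ⟨a, rfl⟩; exact ⟨a, (inv_eq_of_mul_eq_one_right (Residual.upp_sq a)).symm⟩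

theorem odd_index_uppGrp : Odd (Nat.card (S₂ ⧸ uppGrp (K := K))) := by
  have h1 : Nat.card (uppGrp (K := K)) = Fintype.card K := by
    rw [← Nat.card_eq_fintype_card]
    exact Nat.card_congr (Equiv.ofInjective _ Residual.upp_injective).symm
  have h2 := (uppGrp (K := K)).card_mul_index
  rw [h1, Fus.PSLTwo.natCard_SL_two] at h2
  have hq := Fintype.one_lt_card (α := K)
  have h3 : (uppGrp (K := K)).index = (Fintype.card K - 1) * (Fintype.card K + 1) :=
    Nat.eq_of_mul_eq_mul_left (by omega) h2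
  rw [← Subgroup.index_eq_card, h3]
  obtain ⟨n, -, hn⟩ := FiniteField.card K 2
  have hdvd : 2 ∣ Fintype.card K := by rw [hn]; exact dvd_pow_self 2 n.pos.ne'
  exact Nat.odd_mul.2 ⟨Nat.odd_iff.2 (by omega), Nat.odd_iff.2 (by omega)⟩

/-- The upper root group fixes a quadratic form with the symplectic polar form only if the whole group does. -/
theorem exists_invariant_form (f : S₂ →* G₄) (hsp : ∀ x, f x ∈ spGL 2 F) {c d : F}
    (hfix : ∀ a v, (fun v : V₄ => v (.inl 0) * v (.inr 0) + v (.inl 1) * v (.inr 1) + c * v (.inl 1) ^ 2 +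
      d * v (.inr 1) ^ 2) (act (f (upp a)) v) =
      v (.inl 0) * v (.inr 0) + v (.inl 1) * v (.inr 1) + c * v (.inl 1) ^ 2 + d * v (.inr 1) ^ 2) :
    ∃ Q : V₄ → F, Geo.IsNondegenerateQuadraticForm Q ∧ ∀ x v, Q (act (f x) v) = Q v := by
  classical
  set Q₀ : V₄ → F := fun v => v (.inl 0) * v (.inr 0) + v (.inl 1) * v (.inr 1) + c * v (.inl 1) ^ 2 +
    d * v (.inr 1) ^ 2 with hQ₀
  have hpol : ∀ u v, Q₀ (u + v) = Q₀ u + Q₀ v + sf u v := fun u v => by
    simp only [hQ₀, Pi.add_apply, sf_eq, CharTwo.add_sq]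
    ring
  have hsm : ∀ (a : F) v, Q₀ (a • v) = a ^ 2 * Q₀ v := fun a v => by
    simp only [hQ₀, Pi.smul_apply, smul_eq_mul]; ring
  let φ : V₄ → S₂ ⧸ uppGrp (K := K) → F := fun v => Quotient.lift (fun x => Q₀ (act (f x⁻¹) v)) fun x y h => by
    obtain ⟨a, ha⟩ := QuotientGroup.leftRel_apply.1 h
    have e : y⁻¹ = upp a * x⁻¹ := by
      rw [show y = x * upp a by rw [ha, mul_inv_cancel_left], _root_.mul_inv_rev]
      rw [inv_eq_of_mul_eq_one_right (Residual.upp_sq a)]
    show Q₀ _ = Q₀ (act (f y⁻¹) v)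
    rw [e, map_mul, act_mul]
    exact (hfix a _).symm
  haveI := Fintype.ofFinite (S₂ ⧸ uppGrp (K := K))
  set Q : V₄ → F := fun v => ∑ q, φ v q with hQ
  have hodd : (Fintype.card (S₂ ⧸ uppGrp (K := K)) : F) = 1 := by
    obtain ⟨k, hk⟩ := odd_index_uppGrp (K := K)
    rw [Nat.card_eq_fintype_card] at hk
    rw [hk, Nat.cast_add, Nat.cast_mul, Nat.cast_two, CharTwo.two_eq_zero, zero_mul, zero_add, Nat.cast_one]
  have hpolQ : ∀ u v, QuadraticMap.polar Q u v = sf u v := fun u v => by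
    have e : ∀ q, φ (u + v) q = φ u q + φ v q + sf u v := fun q => by
      induction q using QuotientGroup.induction_on with
      | H x =>
        show Q₀ (act (f x⁻¹) (u + v)) = Q₀ (act (f x⁻¹) u) + Q₀ (act (f x⁻¹) v) + sf u v
        rw [act_add, hpol, sf_act (hsp _)]
    simp only [QuadraticMap.polar, hQ]
    simp only [e, Finset.sum_add_distrib, Finset.sum_const, Finset.card_univ, nsmul_eq_mul, hodd, one_mul]
    ring
  refine ⟨Q, ⟨fun a v => ?_, ?_, fun v hv => ?_⟩, fun g v => ?_⟩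
  · simp only [hQ, Finset.mul_sum]
    refine Finset.sum_congr rfl fun q _ => ?_
    induction q using QuotientGroup.induction_on with
    | H x =>
      show Q₀ (act (f x⁻¹) (a • v)) = a ^ 2 * Q₀ (act (f x⁻¹) v)
      rw [act_smul, hsm]
  · constructor <;> intros <;> simp only [hpolQ]
    · exact sf_add_left _ _ _
    · exact sf_smul_left _ _ _
    · exact sf_add_right _ _ _
    · exact sf_smul_right _ _ _
  · obtain ⟨z, hz⟩ := exists_sympForm_eq_one hv
    refine ⟨⟨z, ?_⟩, z, ?_⟩ <;> rw [hpolQ]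
    · rw [sf_comm, show sf v z = 1 from hz]; exact one_ne_zero
    · rw [show sf v z = 1 from hz]; exact one_ne_zero
  · simp only [hQ]
    refine Fintype.sum_equiv (MulAction.toPerm g⁻¹) _ _ fun q => ?_
    induction q using QuotientGroup.induction_on with
    | H x =>
      show Q₀ (act (f x⁻¹) (act (f g) v)) = Q₀ (act (f (g⁻¹ * x)⁻¹) v)
      rw [_root_.mul_inv_rev, inv_inv, map_mul, act_mul]

/-- The root group pointwise on the line. -/
theorem sl_two_line {P : Subgroup G₄} (R : Res P) (h4 : 4 ≤ Nat.card K) (f : S₂ →* G₄) (hinj : Function.Injective f)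
    (hrange : ∀ g, g ∈ P ↔ ∃ x, f x = g) (hfix : ∀ a s, act (f (upp a)) (lv s) = lv s) : False := by
  have hmem : ∀ x, f x ∈ P := fun x => (hrange _).2 ⟨x, rfl⟩
  have hnd : ∀ a, a ≠ 0 → (blkB (f (upp a))).det ≠ 0 := fun a ha => by
    obtain ⟨hU, hb, -, -⟩ := isUni_of_fixL (R.simp'.le (hmem _)) (hfix a)
    have h1 : f (upp a) ≠ 1 := fun e => ha (Residual.upp_injective (hinj (e.trans (by rw [upp_zero', map_one]))))
    obtain ⟨hd, -⟩ := R.uni_nondeg (hmem _) h1 hU
    rw [det_two, hb]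
    intro e; exact hd (by linear_combination e)
  have Rp : Rep f := ⟨h4, fun x => R.simp'.le (hmem x), fun v hv => R.fix fun g hg => by
    obtain ⟨x, rfl⟩ := (hrange g).1 hg; exact hv x, hfix, hnd⟩
  obtain ⟨B, hB, g, Rg, hg, -, hL⟩ := Rp.exists_frame
  have Rc := R.conj (inv_mem hB)
  have hrg : ∀ y, y ∈ mv B⁻¹ P ↔ ∃ x, g x = y := fun y => by
    rw [mem_mv, inv_inv, hrange]
    refine exists_congr fun x => ?_
    rw [hg]
    exact ⟨fun e => by rw [e]; group, fun e => by rw [← e]; group⟩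
  refine Rg.not_absolute hL (fun M hM => Rc.absolute M fun y hy => ?_) (fun W hW => Rc.irr W fun y hy v hv => ?_)
  · obtain ⟨x, rfl⟩ := (hrg y).1 hy; exact hM x
  · obtain ⟨x, rfl⟩ := (hrg y).1 hy; exact hW x v hv

/-- The root group in the stabiliser of a flag. -/
theorem sl_two_flag {P : Subgroup G₄} (R : Res P) (h4 : 4 ≤ Nat.card K) (f : S₂ →* G₄) (hinj : Function.Injective f)
    (hrange : ∀ g, g ∈ P ↔ ∃ x, f x = g) (hstab : ∀ a, f (upp a) ∈ stabL)
    (hA : ∀ a, blkA (f (upp a)) 1 0 = 0 ∧ blkA (f (upp a)) 0 0 = 1 ∧ blkA (f (upp a)) 1 1 = 1)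
    (hz : ∀ a, symM (f (upp a)) 1 1 = 0) {h1d : symM (f (upp 1)) 0 1 ≠ 0} : False := by
  have hmem : ∀ x, f x ∈ P := fun x => (hrange _).2 ⟨x, rfl⟩
  have hsp : ∀ x, f x ∈ spGL 2 F := fun x => R.simp'.le (hmem x)
  have two := CharTwo.two_eq_zero (R := F)
  -- shape of the root elements
  set A := fun a => blkA (f (upp a)) 0 1 with hAdef
  set X := fun a => symM (f (upp a)) 0 0 with hXdef
  set Y := fun a => symM (f (upp a)) 0 1 with hYdef
  have shape : ∀ a v, act (f (upp a)) v = vec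
      (v (.inl 0) + A a * v (.inl 1) + (X a + A a * Y a) * v (.inr 0) + Y a * v (.inr 1))
      (v (.inl 1) + Y a * v (.inr 0)) (v (.inr 0)) (A a * v (.inr 0) + v (.inr 1)) := by
    intro a v
    obtain ⟨h10, h00, h11⟩ := hA a
    set g := f (upp a) with hg
    have hd := blk_dual (hstab a) (hsp (upp a))
    rw [← hg] at hd
    have hsy := congrFun (congrFun (blk_symm (hstab a) (hsp (upp a))) 0) 1
    rw [← hg] at hsy
    have hz' := hz a
    rw [← hg] at hz'
    simp only [symM] at hz'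
    have hA01 : blkA g 0 1 = A a := rfl
    have d00 := congrFun (congrFun hd 0) 0
    have d01 := congrFun (congrFun hd 0) 1
    have d10 := congrFun (congrFun hd 1) 0
    have d11 := congrFun (congrFun hd 1) 1
    simp [Matrix.mul_apply, Fin.sum_univ_two, h10, h00, h11, hA01] at d00 d01 d10 d11
    simp [Matrix.mul_apply, Fin.sum_univ_two, h10, h00, h11, hA01] at hsy hz'
    have hX : X a = blkB g 0 0 + blkB g 0 1 * A a := by
      simp [hXdef, symM, ← hg, Matrix.mul_apply, Fin.sum_univ_two, h00, hA01]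
    have hY : Y a = blkB g 0 1 := by
      simp [hYdef, symM, ← hg, Matrix.mul_apply, Fin.sum_univ_two, h10, h11]
    have hz0 : ∀ i j, (g : M₄) (.inr i) (.inl j) = 0 := fun i j => hstab a i j
    refine ext4 ?_ ?_ ?_ ?_ <;> rw [act, mulVec_apply4] <;> simp only [vec_inl0, vec_inl1, vec_inr0, vec_inr1] <;>
      simp only [← show ∀ i j, blkA g i j = (g : M₄) (.inl i) (.inl j) from fun _ _ => rfl,
        ← show ∀ i j, blkB g i j = (g : M₄) (.inl i) (.inr j) from fun _ _ => rfl,
        ← show ∀ i j, blkD g i j = (g : M₄) (.inr i) (.inr j) from fun _ _ => rfl, hz0, h10, h00, h11, hA01]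
    · rw [hX, hY]
      linear_combination -(A a * blkB g 0 1 * v (.inr 0)) * two
    · rw [hY]
      linear_combination v (.inr 0) * (hsy - A a * hz') + v (.inr 1) * hz'
    · rw [d00, d01]; ring
    · rw [d00] at d10
      rw [d01] at d11
      linear_combination v (.inr 0) * d10 + v (.inr 1) * d11 - (A a * v (.inr 0)) * two
  -- the image under the endomorphism
  let f₀ : S₂ →* spGL 2 F := f.codRestrict _ hsp
  let g : S₂ →* G₄ := (spGL 2 F).subtype.comp (rhoHom.comp f₀)
  have hgU : ∀ a, IsUni (g (upp a)) (Y a ^ 2) (X a) (A a ^ 2) := fun a v => by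
    show act (rho (f₀ (upp a))) v = _
    obtain ⟨s1, s2, s3, s4⟩ := act_rho_std (f₀ (upp a))
    have e : ∀ w, act ((f₀ (upp a) : spGL 2 F) : G₄) w = act (f (upp a)) w := fun w => rfl
    rw [std_sum v, act_add, act_add, act_add, act_smul, act_smul, act_smul, act_smul, s1, s2, s3, s4,
      e, e, e, e, shape, shape, shape, shape]
    refine ext4 ?_ ?_ ?_ ?_ <;> simp [wedge] <;> grind
  have hgP : ∀ x, g x ∈ rhoGrp P := fun x => mem_rhoGrp.2 ⟨f₀ x, hmem x, rfl⟩
  have hgfix : ∀ a s, act (g (upp a)) (lv s) = lv s := fun a s => (hgU a).act_lv_eq s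
  have hblk : ∀ a, blkB (g (upp a)) 0 0 = Y a ^ 2 ∧ blkB (g (upp a)) 1 0 = X a ∧ blkB (g (upp a)) 1 1 = A a ^ 2 :=
    fun a => by
      obtain ⟨h, -, -, -⟩ := isUni_of_fixL (rho_mem (f₀ (upp a))) (hgfix a)
      exact h.unique (hgU a)
  have hginj : Function.Injective g := fun x y e => hinj (congrArg Subtype.val (rhoHom_injective
    (Subtype.ext e : rhoHom (f₀ x) = rhoHom (f₀ y))))
  have Rg : Rep g := by
    refine ⟨h4, fun x => rho_mem _, fun v hv => rhoGrp_fix R.simp'.le R.irr fun y hy => ?_, hgfix, fun a ha => ?_⟩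
    · obtain ⟨k, hk, rfl⟩ := mem_rhoGrp.1 hy
      obtain ⟨x, hx⟩ := (hrange _).1 hk
      have e : f₀ x = k := Subtype.ext hx
      rw [← e]
      exact hv x
    · obtain ⟨e1, e2, e3⟩ := hblk a
      intro hd
      rw [det_two, e1, e3] at hd
      obtain ⟨-, hb, -, -⟩ := isUni_of_fixL (rho_mem (f₀ (upp a))) (hgfix a)
      have hb' : blkB (g (upp a)) 0 1 = X a := hb.trans e2
      rw [hb', e2] at hd
      have hX : X a = Y a * A a := sq_inj (by linear_combination hd - (Y a ^ 2 * A a ^ 2) * two)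
      have hu := tv_isUni (Y a) (A a)
      rw [← hX] at hu
      have he : g (upp a) = tv (vec (Y a) (A a) 0 0) := (hgU a).eq hu
      refine R.no_tv_rho (fun h0 => ha (Residual.upp_injective (hginj ?_))) (he ▸ hgP _)
      rw [upp_zero', map_one, he, h0, tv_zero]
  obtain ⟨σ, τ, υ, hτ, hrel⟩ := Rg.exists_relation (fun ⟨h, _⟩ => h1d (by
    rw [(hblk 1).1] at h
    exact pow_eq_zero_iff two_ne_zero |>.1 h))
  obtain ⟨Q, hQ, hinv⟩ := exists_invariant_form f hsp (c := σ / τ) (d := υ / τ) fun a v => by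
    have hr := hrel a
    rw [(hblk a).1, (hblk a).2.1, (hblk a).2.2] at hr
    have hX : X a = (σ * Y a ^ 2 + υ * A a ^ 2) / τ := by
      field_simp
      linear_combination hr - (σ * Y a ^ 2 + υ * A a ^ 2) * two
    simp only [shape, vec_inl0, vec_inl1, vec_inr0, vec_inr1, CharTwo.add_sq, hX]
    field_simp
    grind
  refine R.noQuad ⟨Q, hQ, ?_⟩
  rintro _ ⟨y, hy, rfl⟩ v
  obtain ⟨x, rfl⟩ := (hrange y).1 hy
  exact hinv x v

/-- Residual subgroups are not isomorphic to `SL(2, 2^n)`, `2^n ≥ 4`. -/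
theorem Res.not_sl_two {P : Subgroup G₄} (R : Res P) (h4 : 4 ≤ Nat.card K) (e : S₂ ≃* P) : False := by
  have two := CharTwo.two_eq_zero (R := F)
  set f : S₂ →* G₄ := P.subtype.comp e.toMonoidHom with hf
  have hinj : Function.Injective f := P.subtype_injective.comp e.injective
  have ht : orderOf (f (upp 1)) = 2 := by
    rw [orderOf_injective f hinj]
    refine orderOf_eq_prime (by rw [pow_two, Residual.upp_sq]) fun h => ?_
    exact one_ne_zero (Residual.upp_injective (h.trans upp_zero'.symm))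
  obtain ⟨B, hB, p, q, r, hU, hd, hdiag⟩ := R.invol (e (upp 1)).2 ht
  obtain ⟨a, ha⟩ := exists_sq p
  obtain ⟨b, hb⟩ := exists_sq r
  -- move the square root of the diagonal to the first vector
  have hab : ¬ (a = 0 ∧ b = 0) := fun ⟨h1, h2⟩ => hdiag ⟨by rw [← ha, h1]; simp, by rw [← hb, h2]; simp⟩
  obtain ⟨a', b', hdet⟩ : ∃ a' b' : F, a * b' + b * a' ≠ 0 := by
    by_cases h : a = 0
    · exact ⟨1, 0, by simpa [h] using fun e => hab ⟨h, e⟩⟩
    · exact ⟨0, 1, by simpa using h⟩
  obtain ⟨k, hk, hk1, hk2⟩ := exists_frame_two (s₁ := lv ![a, b]) (s₂ := lv ![a', b']) (by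
    refine LinearIndependent.pair_iff.2 fun s t h => ?_
    have h0 := congrFun h (.inl 0)
    have h1 := congrFun h (.inl 1)
    simp [lv] at h0 h1
    constructor <;> refine mul_left_cancel₀ hdet ?_ <;> rw [mul_zero]
    · linear_combination b' * h0 - a' * h1 + (s * b * a') * two
    · linear_combination a * h1 - b * h0 + (t * b * a') * two) (sf_lv_lv _ _)
  have eb1 : lv ![(1 : F), 0] = vec 1 0 0 0 := ext4 (by simp [lv]) (by simp [lv]) (by simp [lv]) (by simp [lv])
  have eb2 : lv ![(0 : F), 1] = vec 0 1 0 0 := ext4 (by simp [lv]) (by simp [lv]) (by simp [lv]) (by simp [lv])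
  have hkL : k ∈ stabL := mem_stabL_of_inL (σ := ![1, 0]) (τ := ![0, 1]) (by simp [det2])
    (by rw [eb1, hk1]; exact inL_lv _) (by rw [eb2, hk2]; exact inL_lv _)
  set g : S₂ →* G₄ := (MulAut.conj (B * k)⁻¹).toMonoidHom.comp f with hg
  have hgx : ∀ x, g x = (B * k)⁻¹ * f x * (B * k) := fun x => by simp [hg]; group
  have R' := R.conj (inv_mem (mul_mem hB hk))
  set P' := mv (B * k)⁻¹ P with hP'
  have hrange : ∀ y, y ∈ P' ↔ ∃ x, g x = y := fun y => by
    rw [hP', mem_mv, inv_inv]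
    constructor
    · intro hy
      refine ⟨e.symm ⟨_, hy⟩, ?_⟩
      rw [hgx]
      show (B * k)⁻¹ * ((e (e.symm ⟨_, hy⟩) : P) : G₄) * (B * k) = y
      rw [e.apply_symm_apply]; group
    · rintro ⟨x, rfl⟩
      rw [hgx]
      have : (B * k) * ((B * k)⁻¹ * f x * (B * k)) * (B * k)⁻¹ = f x := by group
      rw [this]; exact (e x).2
  have hginj : Function.Injective g := (MulAut.conj (B * k)⁻¹).injective.comp hinj
  have hmem : ∀ x, g x ∈ P' := fun x => (hrange _).2 ⟨x, rfl⟩
  have hsp : ∀ x, g x ∈ spGL 2 F := fun x => R'.simp'.le (hmem x)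
  set u := g (upp 1) with hu
  set u₀ := B⁻¹ * f (upp 1) * B with hu₀
  have huk : u = k⁻¹ * u₀ * k := by rw [hu, hgx, hu₀]; group
  have hU0 : IsUni u₀ p q r := hU
  have hufix : ∀ s, act u (lv s) = lv s := fun s => by
    rw [huk, act_mul, act_mul, act_lv hkL, hU0.act_lv_eq, ← act_lv hkL, act_inv_act]
  obtain ⟨hU', hb01, hAu, hDu⟩ := isUni_of_fixL (hsp _) hufix
  set p' := blkB u 0 0 with hp'
  set q' := blkB u 1 0 with hq'
  set r' := blkB u 1 1 with hr'
  have hu1 : u ≠ 1 := fun h => one_ne_zero (α := K) (Residual.upp_injective (hginj (h.trans (by rw [upp_zero', map_one]))))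
  obtain ⟨hd', hdiag'⟩ := R'.uni_nondeg (hmem _) hu1 hU'
  -- the lower right entry vanishes
  have hM0 : blkB u₀ = !![p, q; q, r] ∧ blkA u₀ = 1 := by
    constructor <;> ext i j <;> simp only [blkA, blkB, Matrix.of_apply] <;> rw [coe_apply_act, hU0] <;>
      fin_cases i <;> fin_cases j <;> simp
  have hrel : blkA k * blkB u * (blkA k)ᵀ = !![p, q; q, r] := by
    have hcomm : k * u = u₀ * k := by rw [huk]; group
    have e := congrArg blkB hcomm
    rw [blkB_mul, blkB_mul, hDu, Matrix.mul_one, hM0.1, hM0.2, Matrix.one_mul, add_comm (blkB k)] at e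
    rw [add_right_cancel e, Matrix.mul_assoc, mul_eq_one_comm.1 (blk_dual hkL hk), Matrix.mul_one]
  have hr0 : r' = 0 := by
    have hMu : blkB u = !![p', q'; q', r'] := by
      ext i j
      fin_cases i <;> fin_cases j <;> simp [hp', hq', hr']
      exact hb01
    obtain ⟨π, hπ⟩ := exists_sq p'
    obtain ⟨ω, hω⟩ := exists_sq r'
    have k00 : blkA k 0 0 = a ∧ blkA k 1 0 = b ∧ blkA k 0 1 = a' ∧ blkA k 1 1 = b' := by
      simp only [blkA, Matrix.of_apply, (coe_apply_vec k _).1, (coe_apply_vec k _).2.1, hk1, hk2]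
      simp [lv]
    obtain ⟨c1, c2, c3, c4⟩ := k00
    have e00 := congrFun (congrFun hrel 0) 0
    have e11 := congrFun (congrFun hrel 1) 1
    rw [hMu] at e00 e11
    simp [Matrix.mul_apply, Fin.sum_univ_two, c1, c2, c3, c4] at e00 e11
    have f0 : a * π + a' * ω = a := sq_inj (by
      rw [CharTwo.add_sq, mul_pow, mul_pow, hπ, hω]
      linear_combination e00 - ha - (q' * a * a') * two)
    have f1 : b * π + b' * ω = b := sq_inj (by
      rw [CharTwo.add_sq, mul_pow, mul_pow, hπ, hω]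
      linear_combination e11 - hb - (q' * b * b') * two)
    have h0 : ω = 0 := (mul_eq_zero.1 (show (a * b' + b * a') * ω = 0 by
      linear_combination b * f0 + a * f1 + (a * b - a * b * π) * two)).resolve_left hdet
    rw [← hω, h0]; simp
  have hq0 : q' ≠ 0 := fun h => hd' (by rw [h, hr0]; ring)
  have hp0 : p' ≠ 0 := fun h => hdiag' ⟨h, hr0⟩
  -- the root group
  have hT : ∀ x : K, g (upp x) ∈ stabL ∧ blkA (g (upp x)) 1 0 = 0 ∧ blkA (g (upp x)) 0 0 = 1 ∧
      blkA (g (upp x)) 1 1 = 1 := fun x => by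
    have hcomm : g (upp x) * u = u * g (upp x) := by
      rw [hu, ← map_mul, ← map_mul, Residual.upp_mul, Residual.upp_mul, add_comm]
    obtain ⟨hs, hAMA⟩ := commute_uni hU' hd' (hsp _) hcomm
    set A := blkA (g (upp x)) with hA
    have hdA : A.det = 1 := by
      have h := congrArg Matrix.det hAMA
      rw [Matrix.det_mul, Matrix.det_mul, Matrix.det_transpose] at h
      have hne : (!![p', q'; q', r'] : M₂).det ≠ 0 := by
        rw [det_fin_two_of, CharTwo.sub_eq_add]; intro h'; exact hd' (by linear_combination h')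
      exact sq_inj (by rw [one_pow, pow_two]; exact mul_right_cancel₀ hne (by linear_combination h))
    have e00 := congrFun (congrFun hAMA 0) 0
    have e11 := congrFun (congrFun hAMA 1) 1
    simp [Matrix.mul_apply, Fin.sum_univ_two, hr0] at e00 e11
    have h10 : A 1 0 = 0 := by
      refine sq_inj (b := 0) (mul_left_cancel₀ hp0 ?_)
      linear_combination e11 - (q' * A 1 0 * A 1 1) * two
    have h00 : A 0 0 = 1 := by
      refine sq_inj (mul_left_cancel₀ hp0 ?_)
      linear_combination e00 - (q' * A 0 0 * A 0 1) * two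
    refine ⟨hs, h10, h00, ?_⟩
    rw [det_two, h10, h00] at hdA
    linear_combination hdA
  -- commuting elements
  have key : ∀ x y : K, blkA (g (upp x)) 0 1 * symM (g (upp y)) 1 1 = blkA (g (upp y)) 0 1 * symM (g (upp x)) 1 1 ∧
      blkA (g (upp x)) 0 1 * symM (g (upp x)) 1 1 = 0 := fun x y => by
    have hm : ∀ x y : K, symM (g (upp x * upp y)) 0 1 =
        symM (g (upp y)) 0 1 + blkA (g (upp x)) 0 1 * symM (g (upp y)) 1 1 + symM (g (upp x)) 0 1 := fun x y => by
      obtain ⟨hx, a1, a2, a3⟩ := hT x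
      rw [map_mul, symM_mul (hT y).1 (hsp _)]
      simp [Matrix.mul_apply, Fin.sum_univ_two, a1, a2, a3]
    constructor
    · have h := hm x y
      rw [Residual.upp_mul, add_comm x y, ← Residual.upp_mul, hm y x] at h
      linear_combination -h
    · have h := hm x x
      rw [Residual.upp_sq, map_one] at h
      have h1 : symM (1 : G₄) 0 1 = 0 := by simp [symM, blkB, Matrix.mul_apply]
      rw [h1] at h
      linear_combination -h - symM (g (upp x)) 0 1 * two
  by_cases hall : ∀ x : K, blkA (g (upp x)) 0 1 = 0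
  · refine sl_two_line R' h4 g hginj hrange fun x s => ?_
    obtain ⟨hs, a1, a2, a3⟩ := hT x
    rw [act_lv hs]
    congr 1
    funext i
    fin_cases i <;> simp [Matrix.mulVec, dotProduct, Fin.sum_univ_two, a1, a2, a3, hall x]
  · push Not at hall
    obtain ⟨x₀, hx₀⟩ := hall
    refine sl_two_flag R' h4 g hginj hrange (fun x => (hT x).1) (fun x => (hT x).2) (fun y => ?_) (h1d := ?_)
    · have h0 : symM (g (upp x₀)) 1 1 = 0 := (mul_eq_zero.1 (key x₀ x₀).2).resolve_left hx₀
      have := (key x₀ y).1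
      rw [h0, mul_zero] at this
      exact (mul_eq_zero.1 this).resolve_left hx₀
    · rw [← hu, symM, hAu, Matrix.transpose_one, Matrix.mul_one, hb01]
      exact hq0

end Cfsg.Agent.Classical.SpFourRes
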