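import Cfsg.Agent.Lib.Classical.SpFourRes.Involution

/-!
A four-dimensional symplectic representation of `SL(2, 2^n)` whose upper unipotent group fixes the standard line.
-/

set_option autoImplicit false
set_option linter.unusedSectionVars false

namespace Cfsg.Agent.Classical.SpFourRes

open Matrix
open Cfsg.Agent.Classical.Residual (upp low upp_coe low_coe)

variable {F : Type*} [Field F] [CharP F 2] [Fintype F]
variable {K : Type*} [Field K] [CharP K 2] [Fintype K]

local notation "V₂" => (Fin 2 → F)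
local notation "V₄" => (Fin 2 ⊕ Fin 2 → F)
local notation "M₂" => Matrix (Fin 2) (Fin 2) F
local notation "M₄" => Matrix (Fin 2 ⊕ Fin 2) (Fin 2 ⊕ Fin 2) F
local notation "G₄" => GL (Fin 2 ⊕ Fin 2) F

theorem sl_ext {A B : Matrix.SpecialLinearGroup (Fin 2) K}
    (h : (A : Matrix (Fin 2) (Fin 2) K) = (B : Matrix (Fin 2) (Fin 2) K)) : A = B := Subtype.ext h

/-- The swap. -/
def swp : Matrix.SpecialLinearGroup (Fin 2) K := upp 1 * low 1 * upp 1

theorem swp_conj_upp (a : K) : swp * upp a * swp = (low a : Matrix.SpecialLinearGroup (Fin 2) K) := by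
  refine sl_ext ?_
  simp only [swp, Matrix.SpecialLinearGroup.coe_mul, upp_coe, low_coe]
  have two := CharTwo.two_eq_zero (R := K)
  ext i j
  fin_cases i <;> fin_cases j <;> simp [Matrix.mul_apply, Fin.sum_univ_two] <;> grind

theorem swp_sq : swp * swp = (1 : Matrix.SpecialLinearGroup (Fin 2) K) := by
  rw [swp]
  calc upp (1 : K) * low 1 * upp 1 * (upp 1 * low 1 * upp 1)
      = upp (1 : K) * low 1 * (upp 1 * upp 1) * low 1 * upp 1 := by simp only [mul_assoc]
    _ = 1 := by rw [Residual.upp_sq, mul_one, mul_assoc (upp (1 : K)), Residual.low_sq, mul_one, Residual.upp_sq]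

/-- Upper and lower root elements generate. -/
theorem sl_gen (h3 : 3 ≤ Nat.card K) (X : Subgroup (Matrix.SpecialLinearGroup (Fin 2) K)) (hu : ∀ a, upp a ∈ X)
    (hl : ∀ a, low a ∈ X) (g : Matrix.SpecialLinearGroup (Fin 2) K) : g ∈ X := by
  have R : RootPair X (⊤ : Subfield K) := by
    refine ⟨?_, fun a => iff_of_true (hu a) (Subfield.mem_top a), fun a => iff_of_true (hl a) (Subfield.mem_top a),
      fun g _ => Subfield.mem_top _⟩
    rw [show Nat.card (⊤ : Subfield K) = Nat.card K from Nat.card_congr Subfield.topEquiv.toEquiv]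
    exact h3
  have hdet : (g : Matrix (Fin 2) (Fin 2) K).det = 1 := g.2
  rw [det_two] at hdet
  obtain ⟨g', hg', e⟩ := R.mem_of_entries (Subfield.mem_top ((g : Matrix (Fin 2) (Fin 2) K) 0 0))
    (Subfield.mem_top ((g : Matrix (Fin 2) (Fin 2) K) 0 1)) (Subfield.mem_top ((g : Matrix (Fin 2) (Fin 2) K) 1 0))
    (Subfield.mem_top ((g : Matrix (Fin 2) (Fin 2) K) 1 1)) hdet
  rw [show g = g' from sl_ext (by rw [e]; ext i j; fin_cases i <;> fin_cases j <;> rfl)]
  exact hg'

/-- The vector on the opposite line. -/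
def rv (s : Fin 2 → F) : Fin 2 ⊕ Fin 2 → F := vec 0 0 (s 0) (s 1)

theorem vec_split (a b c d : F) : vec a b c d = lv ![a, b] + rv ![c, d] :=
  ext4 (by simp [lv, rv]) (by simp [lv, rv]) (by simp [lv, rv]) (by simp [lv, rv])

theorem exists_uni (p q r : F) : ∃ B ∈ spGL 2 F, IsUni B p q r := by
  obtain ⟨B, hB, hM⟩ := exists_of_basis (s₁ := vec (1 : F) 0 0 0) (s₂ := vec 0 1 0 0) (v₁ := vec p q 1 0)
    (v₂ := vec q r 0 1) (by simp [sf_eq]) (by simp [sf_eq]) (by simp [sf_eq]) (by simp [sf_eq]) (by simp [sf_eq])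
    (by simp [sf_eq]; exact CharTwo.add_self_eq_zero q)
  refine ⟨B, hB, fun x => ?_⟩
  rw [act, hM, colMat_mulVec]
  refine ext4 ?_ ?_ ?_ ?_ <;> simp <;> ring

theorem IsUni.act_rv {g : G₄} {p q r : F} (hg : IsUni g p q r) (s : V₂) :
    act g (rv s) = lv (!![p, q; q, r] *ᵥ s) + rv s := by
  rw [hg]
  refine ext4 ?_ ?_ ?_ ?_ <;> simp [lv, rv, Matrix.mulVec, dotProduct, Fin.sum_univ_two]

theorem IsUni.fixed {g : G₄} {p q r : F} (hg : IsUni g p q r) (hd : p * r + q ^ 2 ≠ 0) {x : V₄}
    (hx : act g x = x) : InL x := by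
  rw [hg] at hx
  have a := congrFun hx (.inl 0)
  have b := congrFun hx (.inl 1)
  simp at a b
  constructor <;> refine mul_left_cancel₀ hd ?_ <;> rw [mul_zero]
  · linear_combination r * a - q * b + (q ^ 2 * x (.inr 0) + q * r * x (.inr 1) * 0) * CharTwo.two_eq_zero (R := F)
  · linear_combination p * b - q * a + (q ^ 2 * x (.inr 1)) * CharTwo.two_eq_zero (R := F)

/-- The standing hypotheses on a representation. -/
structure Rep (f : Matrix.SpecialLinearGroup (Fin 2) K →* GL (Fin 2 ⊕ Fin 2) F) : Prop where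
  card : 4 ≤ Nat.card K
  sp : ∀ x, f x ∈ spGL 2 F
  noFix : ∀ v, (∀ x, act (f x) v = v) → v = 0
  fixL : ∀ a s, act (f (upp a)) (lv s) = lv s
  nondeg : ∀ a, a ≠ 0 → (blkB (f (upp a))).det ≠ 0

namespace Rep

variable {f : Matrix.SpecialLinearGroup (Fin 2) K →* GL (Fin 2 ⊕ Fin 2) F} (R : Rep f)

include R

theorem uni (a : K) : IsUni (f (upp a)) (blkB (f (upp a)) 0 0) (blkB (f (upp a)) 1 0) (blkB (f (upp a)) 1 1) ∧
    blkB (f (upp a)) = !![blkB (f (upp a)) 0 0, blkB (f (upp a)) 1 0; blkB (f (upp a)) 1 0, blkB (f (upp a)) 1 1] := by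
  obtain ⟨h, hb, -, -⟩ := isUni_of_fixL (R.sp _) (R.fixL a)
  refine ⟨h, ?_⟩
  ext i j
  fin_cases i <;> fin_cases j <;> simp [hb]

theorem act_upp_rv (a : K) (s : V₂) : act (f (upp a)) (rv s) = lv (blkB (f (upp a)) *ᵥ s) + rv s := by
  obtain ⟨h, e⟩ := R.uni a
  rw [h.act_rv, ← e]

theorem inL_of_fixed {a : K} (ha : a ≠ 0) {x : V₄} (hx : act (f (upp a)) x = x) : InL x := by
  obtain ⟨h, e⟩ := R.uni a
  refine h.fixed ?_ hx
  have hd := R.nondeg a ha
  rw [e, det_fin_two_of, CharTwo.sub_eq_add] at hd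
  intro h0
  exact hd (by linear_combination h0)

/-- Change of frame: the lower group fixes the opposite line. -/
theorem exists_frame : ∃ B ∈ spGL 2 F, ∃ g : Matrix.SpecialLinearGroup (Fin 2) K →* GL (Fin 2 ⊕ Fin 2) F,
    Rep g ∧ (∀ x, g x = B⁻¹ * f x * B) ∧ (∀ a, blkB (g (upp a)) = blkB (f (upp a))) ∧
      ∀ b s, act (g (low b)) (rv s) = rv s := by
  have two := CharTwo.two_eq_zero (R := F)
  have h3 : 3 ≤ Nat.card K := by have := R.card; omega
  set w := f swp with hw
  have hww : w * w = 1 := by rw [hw, ← map_mul, swp_sq, map_one]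
  have hlow : ∀ b, f (low b) = w * f (upp b) * w := fun b => by rw [hw, ← map_mul, ← map_mul, swp_conj_upp]
  have hwfix : ∀ b s, act (f (low b)) (act w (lv s)) = act w (lv s) := fun b s => by
    rw [hlow, act_mul, act_mul, ← act_mul w w, hww, act_one, R.fixL]
  -- the two lines meet trivially
  have hmeet : ∀ s, InL (act w (lv s)) → s = 0 := fun s hs => by
    have h0 : act w (lv s) = 0 := R.noFix _ fun x => by
      let X : Subgroup (Matrix.SpecialLinearGroup (Fin 2) K) :=
        { carrier := {x | act (f x) (act w (lv s)) = act w (lv s)}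
          one_mem' := by simp
          mul_mem' := fun {a b} ha hb => by
            show act (f (a * b)) _ = _
            rw [map_mul, act_mul, (hb : act _ _ = _), (ha : act _ _ = _)]
          inv_mem' := fun {a} ha => by
            show act (f a⁻¹) _ = _
            conv_lhs => rw [← (ha : act _ _ = _)]
            rw [map_inv, act_inv_act] }
      exact sl_gen h3 X (fun a => by show act (f (upp a)) _ = _; rw [hs.eq, R.fixL]) (fun b => hwfix b s) x
    by_contra hne
    exact act_ne_zero w (lv_ne_zero hne) h0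
  set C : M₂ := Matrix.of fun i j => (w : M₄) (.inr i) (.inl j) with hC
  have hCs : ∀ s i, act w (lv s) (.inr i) = (C *ᵥ s) i := fun s i => by
    rw [act, mulVec_apply4]
    simp [lv, hC, Matrix.mulVec, dotProduct, Fin.sum_univ_two]
  have hdet : C.det ≠ 0 := fun e => by
    obtain ⟨s, hs, hs0⟩ := Matrix.exists_mulVec_eq_zero_iff.2 e
    exact hs (hmeet s ⟨by rw [hCs, hs0]; rfl, by rw [hCs, hs0]; rfl⟩)
  set v₁ := act w (lv (C⁻¹ *ᵥ ![1, 0])) with hv₁
  set v₂ := act w (lv (C⁻¹ *ᵥ ![0, 1])) with hv₂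
  have hCC : ∀ t : V₂, C *ᵥ (C⁻¹ *ᵥ t) = t := fun t => by
    rw [Matrix.mulVec_mulVec, Matrix.mul_nonsing_inv _ (isUnit_iff_ne_zero.2 hdet), Matrix.one_mulVec]
  have r10 : v₁ (.inr 0) = 1 := by rw [hv₁, hCs, hCC]; rfl
  have r11 : v₁ (.inr 1) = 0 := by rw [hv₁, hCs, hCC]; rfl
  have r20 : v₂ (.inr 0) = 0 := by rw [hv₂, hCs, hCC]; rfl
  have r21 : v₂ (.inr 1) = 1 := by rw [hv₂, hCs, hCC]; rfl
  have hq : v₁ (.inl 1) = v₂ (.inl 0) := by
    have e : sf v₁ v₂ = 0 := by rw [hv₁, hv₂, sf_act (R.sp _), sf_lv_lv]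
    rw [sf_eq, r10, r11, r20, r21] at e
    exact CharTwo.add_eq_zero.1 (by linear_combination e)
  obtain ⟨B, hB, hU⟩ := exists_uni (v₁ (.inl 0)) (v₁ (.inl 1)) (v₂ (.inl 1))
  have hBfix : ∀ b s, act (f (low b)) (act B (rv s)) = act B (rv s) := fun b s => by
    have e : act B (rv s) = s 0 • v₁ + s 1 • v₂ := by
      rw [hU]
      refine ext4 ?_ ?_ ?_ ?_ <;> simp [rv, r10, r11, r20, r21, hq, mul_comm]
    rw [e, act_add, act_smul, act_smul, hv₁, hv₂, hwfix, hwfix]
  set g : Matrix.SpecialLinearGroup (Fin 2) K →* G₄ := (MulAut.conj B⁻¹).toMonoidHom.comp f with hg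
  have hgx : ∀ x, g x = B⁻¹ * f x * B := fun x => by simp [hg]
  have hgu : ∀ a, g (upp a) = f (upp a) := fun a => by
    obtain ⟨h, -⟩ := R.uni a
    have hc : f (upp a) * B = B * f (upp a) := by
      refine (IsUni.eq (h.mul hU) ?_)
      have := hU.mul h
      rwa [add_comm (v₁ (.inl 0)), add_comm (v₁ (.inl 1)), add_comm (v₂ (.inl 1))] at this
    rw [hgx, mul_assoc, hc, inv_mul_cancel_left]
  refine ⟨B, hB, g, ⟨R.card, fun x => ?_, fun v hv => ?_, fun a s => ?_, fun a ha => ?_⟩, hgx, fun a => ?_,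
    fun b s => ?_⟩
  · rw [hgx]; exact mul_mem (mul_mem (inv_mem hB) (R.sp x)) hB
  · have e := R.noFix (act B v) fun x => by
      have h := hv x
      rw [hgx, act_mul, act_mul] at h
      conv_rhs => rw [← h, act_act_inv]
    exact act_injective B (e.trans (act_zero B).symm)
  · rw [hgu]; exact R.fixL a s
  · rw [hgu]; exact R.nondeg a ha
  · rw [hgu]
  · rw [hgx, act_mul, act_mul, hBfix, act_inv_act]

section Framed

variable (hL : ∀ b s, act (f (low b)) (rv s) = rv s)

include hL

/-- The block of the lower element. -/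
theorem act_low_lv (b : K) (s : V₂) :
    act (f (low b)) (lv s) = lv s + rv ((Matrix.of fun i j => (f (low b) : M₄) (.inr i) (.inl j)) *ᵥ s) := by
  have hl : ∀ i, act (f (low b)) (lv s) (.inl i) = s i := fun i => by
    have e : sf (act (f (low b)) (lv s)) (act (f (low b)) (rv (Pi.single i 1))) = sf (lv s) (rv (Pi.single i 1)) :=
      sf_act (R.sp _) _ _
    rw [hL, sf_eq, sf_eq] at e
    fin_cases i <;> simpa [lv, rv] using e
  have hr : ∀ i, act (f (low b)) (lv s) (.inr i) =
      ((Matrix.of fun i j => (f (low b) : M₄) (.inr i) (.inl j)) *ᵥ s) i := fun i => by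
    rw [act, mulVec_apply4]
    simp [lv, Matrix.mulVec, dotProduct, Fin.sum_univ_two]
  refine ext4 ?_ ?_ ?_ ?_
  · rw [hl]; simp [lv, rv]
  · rw [hl]; simp [lv, rv]
  · rw [hr]; simp [lv, rv]
  · rw [hr]; simp [lv, rv]

/-- The lower block inverts the upper one. -/
theorem low_block {l : K} (hl : l ≠ 0) :
    blkB (f (upp l)) * (Matrix.of fun i j => (f (low l⁻¹) : M₄) (.inr i) (.inl j)) = 1 := by
  set N : M₂ := Matrix.of fun i j => (f (low l⁻¹) : M₄) (.inr i) (.inl j) with hN
  set M := blkB (f (upp l)) with hM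
  have key : ∀ s, lv (s + M *ᵥ (N *ᵥ s)) + rv (N *ᵥ s) = act (f (upp l * low l⁻¹ * upp l)) (lv s) := fun s => by
    rw [map_mul, map_mul, act_mul, act_mul, R.fixL, act_low_lv R hL, act_add, R.fixL, R.act_upp_rv, lv_add,
      add_assoc]
  -- `W` carries the line to the opposite one
  set W : Matrix.SpecialLinearGroup (Fin 2) K := upp l * low l⁻¹ * upp l with hWdef
  have hconj : low (1 : K) * W = W * upp (l ^ 2) := by
    refine sl_ext ?_
    simp only [hWdef, Matrix.SpecialLinearGroup.coe_mul, upp_coe, low_coe]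
    have twoK := CharTwo.two_eq_zero (R := K)
    ext i j
    fin_cases i <;> fin_cases j <;> simp [Matrix.mul_apply, Fin.sum_univ_two] <;> field_simp <;> grind
  have hz : ∀ s i, act (f W) (lv s) (.inl i) = 0 := fun s i => by
    set z := act (f W) (lv s) with hz
    have hfixz : act (f (low 1)) z = z := by
      rw [hz, ← act_mul, ← map_mul, hconj, map_mul, act_mul, R.fixL]
    set w := f swp with hw
    have hww : w * w = 1 := by rw [hw, ← map_mul, swp_sq, map_one]
    have hlow : f (low (1 : K)) = w * f (upp 1) * w := by rw [hw, ← map_mul, ← map_mul, swp_conj_upp]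
    have h1 : act (f (upp 1)) (act w z) = act w z := by
      have e := congrArg (act w) hfixz
      rwa [hlow, act_mul, act_mul, ← act_mul w w, hww, act_one] at e
    have h2 := (R.inL_of_fixed one_ne_zero h1).eq
    have h3 : z = act w (lv ![act w z (.inl 0), act w z (.inl 1)]) := by
      rw [← h2, ← act_mul, hww, act_one]
    -- the image of the line under the swap is fixed by the lower group, so it is the opposite line
    have hwl : ∀ t i, act w (lv t) (.inl i) = 0 := fun t i => by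
      set y := act w (lv t) with hy
      have hyfix : act (f (low 1)) y = y := by
        rw [hlow, hy, act_mul, act_mul, ← act_mul w w, hww, act_one, R.fixL]
      have hy4 : y = lv ![y (.inl 0), y (.inl 1)] + rv ![y (.inr 0), y (.inr 1)] := by
        rw [← vec_split]; exact (vec_eta y).symm
      rw [hy4, act_add, hL, act_low_lv R hL] at hyfix
      have a := congrFun hyfix (.inr 0)
      have b := congrFun hyfix (.inr 1)
      simp only [Pi.add_apply, rv, lv, vec_inr0, vec_inr1, zero_add, Matrix.cons_val_zero, Matrix.cons_val_one,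
        add_eq_right] at a b
      set N₁ : M₂ := Matrix.of fun i j => (f (low (1 : K)) : M₄) (.inr i) (.inl j) with hN₁
      have hdet : N₁.det ≠ 0 := fun e => by
        obtain ⟨v, hv, hv0⟩ := Matrix.exists_mulVec_eq_zero_iff.2 e
        have hfix : act (f (low 1)) (lv v) = lv v := by
          rw [act_low_lv R hL, ← hN₁, hv0]
          refine ext4 ?_ ?_ ?_ ?_ <;> simp [lv, rv]
        have h1' : act (f (upp 1)) (act w (lv v)) = act w (lv v) := by
          have e := congrArg (act w) hfix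
          rwa [hlow, act_mul, act_mul, ← act_mul w w, hww, act_one] at e
        have hin := R.inL_of_fixed one_ne_zero h1'
        -- then the vector is fixed by everything
        have h3 : 3 ≤ Nat.card K := by have := R.card; omega
        refine lv_ne_zero hv (R.noFix _ fun x => ?_)
        let X : Subgroup (Matrix.SpecialLinearGroup (Fin 2) K) :=
          { carrier := {x | act (f x) (lv v) = lv v}
            one_mem' := by simp
            mul_mem' := fun {a b} ha hb => by
              show act (f (a * b)) _ = _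
              rw [map_mul, act_mul, (hb : act _ _ = _), (ha : act _ _ = _)]
            inv_mem' := fun {a} ha => by
              show act (f a⁻¹) _ = _
              conv_lhs => rw [← (ha : act _ _ = _)]
              rw [map_inv, act_inv_act] }
        refine sl_gen h3 X (fun a => R.fixL a v) (fun b => ?_) x
        show act (f (low b)) _ = _
        rw [← swp_conj_upp, map_mul, map_mul, ← hw, act_mul, act_mul, hin.eq, R.fixL, ← hin.eq, ← act_mul, hww,
          act_one]
      have hv : N₁ *ᵥ ![y (.inl 0), y (.inl 1)] = 0 := funext fun k => by fin_cases k <;> simp [a, b]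
      have hv0 := Matrix.eq_zero_of_mulVec_eq_zero hdet hv
      have a0 := congrFun hv0 0
      have a1 := congrFun hv0 1
      fin_cases i <;> simp at a0 a1 ⊢ <;> assumption
    rw [h3]; exact hwl _ i
  refine Matrix.ext_iff_mulVec.2 fun s => ?_
  rw [Matrix.one_mulVec, ← Matrix.mulVec_mulVec]
  funext i
  have h := hz s i
  rw [← key] at h
  fin_cases i <;> simp [lv, rv] at h ⊢ <;> exact (CharTwo.add_eq_zero.1 h).symm

theorem low_block' {l : K} (hl : l ≠ 0) :
    (Matrix.of fun i j => (f (low l⁻¹) : M₄) (.inr i) (.inl j)) = (blkB (f (upp l)))⁻¹ :=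
  (Matrix.inv_eq_right_inv (low_block R hL hl)).symm

/-- The action of the antidiagonal element. -/
theorem act_W {l : K} (hl : l ≠ 0) (s t : V₂) : act (f (upp l * low l⁻¹ * upp l)) (lv s + rv t) =
    lv (blkB (f (upp l)) *ᵥ t) + rv ((blkB (f (upp l)))⁻¹ *ᵥ s) := by
  have hd := R.nondeg l hl
  have hsum : rv ((blkB (f (upp l)))⁻¹ *ᵥ (s + blkB (f (upp l)) *ᵥ t)) + rv t =
      rv ((blkB (f (upp l)))⁻¹ *ᵥ s) := by
    rw [Matrix.mulVec_add, Matrix.mulVec_mulVec, Matrix.nonsing_inv_mul _ (isUnit_iff_ne_zero.2 hd),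
      Matrix.one_mulVec]
    refine ext4 ?_ ?_ ?_ ?_ <;> simp [rv, add_assoc, CharTwo.add_self_eq_zero]
  have hss : s + blkB (f (upp l)) *ᵥ t + s = blkB (f (upp l)) *ᵥ t := by
    funext i
    simp only [Pi.add_apply]
    linear_combination s i * CharTwo.two_eq_zero (R := F)
  rw [map_mul, map_mul, act_mul, act_mul, act_add (f (upp l)), R.fixL, R.act_upp_rv, ← add_assoc, ← lv_add,
    act_add (f (low l⁻¹)), hL, act_low_lv R hL, low_block' R hL hl, add_assoc (lv _), hsum, act_add, R.fixL,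
    R.act_upp_rv, Matrix.mulVec_mulVec, Matrix.mul_nonsing_inv _ (isUnit_iff_ne_zero.2 hd), Matrix.one_mulVec,
    ← add_assoc, ← lv_add, hss]

/-- The relation between the blocks. -/
theorem block_rel {l : K} (hl : l ≠ 0) (m : K) :
    blkB (f (upp (l ^ 2 * m))) = blkB (f (upp l)) * (blkB (f (upp 1)))⁻¹ * blkB (f (upp m)) *
      (blkB (f (upp 1)))⁻¹ * blkB (f (upp l)) := by
  set d : Matrix.SpecialLinearGroup (Fin 2) K :=
    (upp l * low l⁻¹ * upp l) * (upp (1 : K) * low 1 * upp 1) with hd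
  have hdu : d * upp m = upp (l ^ 2 * m) * d := by
    refine sl_ext ?_
    simp only [hd, Matrix.SpecialLinearGroup.coe_mul, upp_coe, low_coe]
    have twoK := CharTwo.two_eq_zero (R := K)
    ext i j
    fin_cases i <;> fin_cases j <;> simp [Matrix.mul_apply, Fin.sum_univ_two] <;> field_simp <;> grind
  set M₁ := blkB (f (upp (1 : K))) with hM₁
  set Ml := blkB (f (upp l)) with hMl
  have hdact : ∀ s t, act (f d) (lv s + rv t) = lv (Ml *ᵥ (M₁⁻¹ *ᵥ s)) + rv (Ml⁻¹ *ᵥ (M₁ *ᵥ t)) := fun s t => by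
    have h1 := act_W R hL one_ne_zero s t
    rw [inv_one] at h1
    rw [hd, map_mul, act_mul, h1, act_W R hL hl]
  refine Matrix.ext_iff_mulVec.2 fun t => ?_
  set y := M₁⁻¹ *ᵥ (Ml *ᵥ t) with hy
  have hd1 : IsUnit M₁.det := isUnit_iff_ne_zero.2 (R.nondeg 1 one_ne_zero)
  have hdl : IsUnit Ml.det := isUnit_iff_ne_zero.2 (R.nondeg l hl)
  have e := congrArg (fun x => act x (rv y)) (congrArg f hdu)
  simp only [map_mul, act_mul, R.act_upp_rv] at e
  have z : rv y = lv 0 + rv y := ext4 (by simp [lv, rv]) (by simp [lv, rv]) (by simp [lv, rv]) (by simp [lv, rv])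
  conv_rhs at e => rw [z, hdact]
  rw [hdact, act_add, R.fixL, R.act_upp_rv] at e
  have ht : Ml⁻¹ *ᵥ (M₁ *ᵥ y) = t := by
    rw [hy, Matrix.mulVec_mulVec, Matrix.mulVec_mulVec, Matrix.mulVec_mulVec]
    rw [Matrix.mul_assoc Ml⁻¹, Matrix.mul_nonsing_inv _ hd1, Matrix.mul_one, Matrix.nonsing_inv_mul _ hdl,
      Matrix.one_mulVec]
  rw [ht] at e
  funext i
  have h := congrFun e (.inl i)
  simp only [Pi.add_apply, lv_inl] at h
  have hr : rv t (.inl i) = 0 := by fin_cases i <;> rfl
  simp only [hr, add_zero, Matrix.mulVec_zero, Pi.zero_apply, zero_add] at h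
  rw [← h, hy]
  simp only [Matrix.mulVec_mulVec, ← Matrix.mul_assoc]

end Framed

/-- The normalised block. -/
noncomputable def gb (f : Matrix.SpecialLinearGroup (Fin 2) K →* GL (Fin 2 ⊕ Fin 2) F) (l : K) :
    Matrix (Fin 2) (Fin 2) F :=
  (blkB (f (upp 1)))⁻¹ * blkB (f (upp l))

/-- The normalised blocks are powers of one of them, which has odd order. -/
theorem exists_gen : ∃ G : M₂, G ^ (Nat.card K - 1) = 1 ∧ (∀ l : K, l ≠ 0 → ∃ k : ℕ, gb f l = G ^ k) ∧
    ∃ m : K, m ≠ 0 ∧ gb f m = G := by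
  obtain ⟨B, -, g, R', -, hblk, hL⟩ := R.exists_frame
  have hgb : ∀ l, gb f l = gb g l := fun l => by rw [gb, gb, hblk, hblk]
  have h1 : gb g (1 : K) = 1 := Matrix.nonsing_inv_mul _ (isUnit_iff_ne_zero.2 (R'.nondeg 1 one_ne_zero))
  have rel : ∀ l : K, l ≠ 0 → ∀ m, gb g (l ^ 2 * m) = gb g l * gb g m * gb g l := fun l hl m => by
    rw [gb, gb, gb, block_rel R' hL hl m]
    simp only [Matrix.mul_assoc]
  obtain ⟨z, hz⟩ := IsCyclic.exists_generator (α := Kˣ)
  set G := gb g (z : K) with hG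
  have hpow : ∀ k : ℕ, gb g ((z : K) ^ k) = G ^ k := by
    intro k
    induction k using Nat.strong_induction_on with
    | _ k ih =>
      rcases k with _ | _ | k
      · rw [pow_zero, pow_zero, h1]
      · rw [pow_one, pow_one]
      · rw [show (z : K) ^ (k + 2) = (z : K) ^ 2 * (z : K) ^ k by rw [← pow_add]; congr 1; omega,
          rel _ z.ne_zero, ih k (by omega), ← hG, ← pow_succ' G k, ← pow_succ]
  refine ⟨G, ?_, fun l hl => ?_, (z : K), z.ne_zero, hgb _⟩
  · rw [← hpow, ← Units.val_pow_eq_pow_val]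
    have : z ^ (Nat.card K - 1) = 1 := by
      rw [← Nat.card_units, pow_card_eq_one']
    rw [this, Units.val_one, h1]
  · obtain ⟨k, hk⟩ := (mem_powers_iff_mem_zpowers.2 (hz (Units.mk0 l hl)) : Units.mk0 l hl ∈ Submonoid.powers z)
    refine ⟨k, ?_⟩
    rw [hgb, ← hpow, ← Units.val_pow_eq_pow_val]
    exact congrArg (gb g) (congrArg Units.val hk).symm

end Rep

end Cfsg.Agent.Classical.SpFourRes
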