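import Cfsg.Agent.Lib.Classical.SpFourRes.LTwoFrame
import Cfsg.Agent.Lib.Fus.PSLTwo

/-!
`SL(2, 2^n)` is not a residual subgroup of the four-dimensional symplectic group.
-/

set_option autoImplicit false
set_option linter.unusedSectionVars false

namespace Cfsg.Agent.Classical.SpFourRes

open Matrix
open Cfsg.Agent.Classical.Residual (upp low upp_coe low_coe)

variable {F : Type*} [Field F] [CharP F 2] [Fintype F]
variable {K : Type*} [Field K] [CharP K 2] [Fintype K]

local notation "V₂" => (Fin 2 → F)
local notation "V₄" => (Fin 2 ⊕ Fin 2 → F)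
local notation "M₂" => Matrix (Fin 2) (Fin 2) F
local notation "M₄" => Matrix (Fin 2 ⊕ Fin 2) (Fin 2 ⊕ Fin 2) F
local notation "G₄" => GL (Fin 2 ⊕ Fin 2) F
local notation "S₂" => Matrix.SpecialLinearGroup (Fin 2) K

theorem upp_zero' : (upp (0 : K) : S₂) = 1 :=
  Subtype.ext (by ext i j; fin_cases i <;> fin_cases j <;> simp)

theorem low_zero' : (low (0 : K) : S₂) = 1 :=
  Subtype.ext (by ext i j; fin_cases i <;> fin_cases j <;> simp)

/-- A representation with scalar normalised blocks leaves a plane invariant; otherwise it has more endomorphisms. -/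
theorem Rep.not_absolute {f : S₂ →* G₄} (R : Rep f) (hL : ∀ b s, act (f (low b)) (rv s) = rv s)
    (habs : ∀ M : M₄, (∀ x, M * (f x : M₄) = (f x : M₄) * M) → ∃ c : F, M = c • (1 : M₄))
    (hirr : ∀ W : Submodule F V₄, (∀ x, ∀ v ∈ W, act (f x) v ∈ W) → W = ⊥ ∨ W = ⊤) : False := by
  have h3 : 3 ≤ Nat.card K := by have := R.card; omega
  obtain ⟨G, -, hpow, -⟩ := R.exists_gen
  set M₁ := blkB (f (upp (1 : K))) with hM₁
  have hd1 : IsUnit M₁.det := isUnit_iff_ne_zero.2 (R.nondeg 1 one_ne_zero)
  have hM : ∀ l : K, ∃ k : ℕ, l ≠ 0 → blkB (f (upp l)) = M₁ * G ^ k := fun l => by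
    by_cases hl : l = 0
    · exact ⟨0, fun h => absurd hl h⟩
    · obtain ⟨k, hk⟩ := hpow l hl
      refine ⟨k, fun _ => ?_⟩
      rw [← hk, Rep.gb, ← hM₁, ← Matrix.mul_assoc, Matrix.mul_nonsing_inv _ hd1, Matrix.one_mul]
  set X := M₁ * G * M₁⁻¹ with hX
  -- the endomorphism
  set C : M₄ := Matrix.fromBlocks X 0 0 G with hC
  have hCact : ∀ s t, C *ᵥ (lv s + rv t) = lv (X *ᵥ s) + rv (G *ᵥ t) := fun s t => by
    refine ext4 ?_ ?_ ?_ ?_ <;>
      simp [hC, mulVec_apply4, lv, rv, Matrix.mulVec, dotProduct, Fin.sum_univ_two]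
  have hCG : ∀ x, C * (f x : M₄) = (f x : M₄) * C := by
    let Y : Subgroup S₂ :=
      { carrier := {x | C * (f x : M₄) = (f x : M₄) * C}
        one_mem' := by simp
        mul_mem' := fun {a b} ha hb => by
          show C * (f (a * b) : M₄) = (f (a * b) : M₄) * C
          rw [map_mul, Units.val_mul, ← mul_assoc, (ha : _ = _), mul_assoc, (hb : _ = _), mul_assoc]
        inv_mem' := fun {a} ha => by
          show C * (f a⁻¹ : M₄) = (f a⁻¹ : M₄) * C
          rw [map_inv]
          exact (Commute.units_inv_right (show Commute C (f a : M₄) from ha)).eq }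
    refine fun x => sl_gen h3 Y (fun l => ?_) (fun b => ?_) x
    · show C * (f (upp l) : M₄) = (f (upp l) : M₄) * C
      by_cases hl : l = 0
      · simp [hl, upp_zero']
      obtain ⟨k, hk⟩ := hM l
      have hXM : X * blkB (f (upp l)) = blkB (f (upp l)) * G := by
        rw [hX, hk hl]
        simp only [Matrix.mul_assoc, Matrix.nonsing_inv_mul_cancel_left _ _ hd1]
        rw [← pow_succ, ← pow_succ']
      refine Matrix.ext_iff_mulVec.2 fun v => ?_
      rw [← Matrix.mulVec_mulVec, ← Matrix.mulVec_mulVec, ← vec_eta v, vec_split]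
      generalize ![v (.inl 0), v (.inl 1)] = s
      generalize ![v (.inr 0), v (.inr 1)] = t
      show C *ᵥ act (f (upp l)) (lv s + rv t) = act (f (upp l)) (C *ᵥ (lv s + rv t))
      rw [act_add, R.fixL, R.act_upp_rv, hCact, ← add_assoc, ← lv_add, hCact, act_add, R.fixL, R.act_upp_rv,
        ← add_assoc, ← lv_add, Matrix.mulVec_add, Matrix.mulVec_mulVec, hXM, Matrix.mulVec_mulVec]
    · show C * (f (low b) : M₄) = (f (low b) : M₄) * C
      by_cases hb : b = 0
      · simp [hb, low_zero']
      have hl : b⁻¹ ≠ 0 := inv_ne_zero hb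
      obtain ⟨k, hk⟩ := hM b⁻¹
      set N : M₂ := Matrix.of fun i j => (f (low b) : M₄) (.inr i) (.inl j) with hN
      have h1 : blkB (f (upp b⁻¹)) * N = 1 := by
        have := Rep.low_block R hL hl
        rwa [inv_inv] at this
      have hXM : X * blkB (f (upp b⁻¹)) = blkB (f (upp b⁻¹)) * G := by
        rw [hX, hk hl]
        simp only [Matrix.mul_assoc, Matrix.nonsing_inv_mul_cancel_left _ _ hd1]
        rw [← pow_succ, ← pow_succ']
      have h1' : N * blkB (f (upp b⁻¹)) = 1 := mul_eq_one_comm.1 h1
      have hNX : N * X = G * N := by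
        calc N * X = N * X * (blkB (f (upp b⁻¹)) * N) := by rw [h1, Matrix.mul_one]
          _ = N * (X * blkB (f (upp b⁻¹))) * N := by simp only [Matrix.mul_assoc]
          _ = N * blkB (f (upp b⁻¹)) * G * N := by rw [hXM]; simp only [Matrix.mul_assoc]
          _ = G * N := by rw [h1', Matrix.one_mul]
      refine Matrix.ext_iff_mulVec.2 fun v => ?_
      rw [← Matrix.mulVec_mulVec, ← Matrix.mulVec_mulVec, ← vec_eta v, vec_split]
      generalize ![v (.inl 0), v (.inl 1)] = s
      generalize ![v (.inr 0), v (.inr 1)] = t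
      show C *ᵥ act (f (low b)) (lv s + rv t) = act (f (low b)) (C *ᵥ (lv s + rv t))
      have hrv : ∀ p q : V₂, rv p + rv q = rv (p + q) := fun p q =>
        ext4 (by simp [rv]) (by simp [rv]) (by simp [rv]) (by simp [rv])
      rw [act_add, hL, Rep.act_low_lv R hL, ← hN, add_assoc, hrv, hCact, hCact, act_add, hL, Rep.act_low_lv R hL,
        ← hN, add_assoc, hrv, Matrix.mulVec_add, Matrix.mulVec_mulVec, Matrix.mulVec_mulVec, hNX]
  obtain ⟨c, hc⟩ := habs C hCG
  have hG : G = c • (1 : M₂) := by
    ext i j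
    have := congrFun (congrFun hc (.inr i)) (.inr j)
    simpa [hC, Matrix.one_apply] using this
  -- an invariant plane
  set u : V₂ := ![1, 0] with hu
  set W : Submodule F V₄ := Submodule.span F {lv (M₁ *ᵥ u), rv u} with hW
  have hinv : ∀ x, ∀ v ∈ W, act (f x) v ∈ W := by
    let Y : Subgroup S₂ :=
      { carrier := {x | ∀ v ∈ W, act (f x) v ∈ W}
        one_mem' := fun v hv => by simpa using hv
        mul_mem' := fun {a b} ha hb v hv => by rw [map_mul, act_mul]; exact ha _ (hb v hv)
        inv_mem' := fun {a} ha v hv => by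
          have hp : ∀ n : ℕ, ∀ v ∈ W, act (f (a ^ n)) v ∈ W := fun n => by
            induction n with
            | zero => intro v hv; simpa using hv
            | succ n ih => intro v hv; rw [pow_succ, map_mul, act_mul]; exact ih _ (ha v hv)
          have e : a⁻¹ = a ^ (orderOf a - 1) := inv_eq_of_mul_eq_one_right (by
            rw [← pow_succ', Nat.sub_add_cancel (orderOf_pos a), pow_orderOf_eq_one])
          rw [e]; exact hp _ v hv }
    have gen : ∀ g : G₄, act g (lv (M₁ *ᵥ u)) ∈ W → act g (rv u) ∈ W → ∀ v ∈ W, act g v ∈ W := by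
      intro g h1 h2 v hv
      obtain ⟨α, β, rfl⟩ := Submodule.mem_span_pair.1 hv
      rw [act_add, act_smul, act_smul]
      exact W.add_mem (W.smul_mem _ h1) (W.smul_mem _ h2)
    have hGk : ∀ k : ℕ, G ^ k = c ^ k • (1 : M₂) := fun k => by rw [hG, smul_pow, one_pow]
    have m1 : lv (M₁ *ᵥ u) ∈ W := Submodule.subset_span (by simp)
    have m2 : rv u ∈ W := Submodule.subset_span (by simp)
    refine fun x => sl_gen h3 Y (fun l => ?_) (fun b => ?_) x
    · by_cases hl : l = 0
      · rw [hl, upp_zero']; exact one_mem Y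
      obtain ⟨k, hk⟩ := hM l
      refine gen _ (by rw [R.fixL]; exact m1) ?_
      rw [R.act_upp_rv, hk hl, hGk, Matrix.mul_smul, Matrix.mul_one, Matrix.smul_mulVec, lv_smul]
      exact W.add_mem (W.smul_mem _ m1) m2
    · by_cases hb : b = 0
      · rw [hb, low_zero']; exact one_mem Y
      refine gen _ ?_ (by rw [hL]; exact m2)
      obtain ⟨k, hk⟩ := hM b⁻¹
      have h1 := Rep.low_block R hL (inv_ne_zero hb)
      rw [inv_inv, hk (inv_ne_zero hb), hGk, Matrix.mul_smul, Matrix.mul_one] at h1
      set N : M₂ := Matrix.of fun i j => (f (low b) : M₄) (.inr i) (.inl j) with hN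
      have h2 : c ^ k • (N * M₁) = 1 := by rw [← Matrix.mul_smul]; exact mul_eq_one_comm.1 h1
      have hck : c ^ k ≠ 0 := fun e => by
        rw [e, zero_smul] at h2
        exact zero_ne_one h2
      have h3 : N * M₁ = (c ^ k)⁻¹ • (1 : M₂) := by rw [← h2, smul_smul, inv_mul_cancel₀ hck, one_smul]
      rw [Rep.act_low_lv R hL, ← hN, Matrix.mulVec_mulVec, h3, Matrix.smul_mulVec, Matrix.one_mulVec]
      refine W.add_mem m1 ?_
      rw [show rv ((c ^ k)⁻¹ • u) = (c ^ k)⁻¹ • rv u from
        ext4 (by simp [rv]) (by simp [rv]) (by simp [rv]) (by simp [rv])]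
      exact W.smul_mem _ m2
  rcases hirr W hinv with e | e
  · have h : rv u ∈ W := Submodule.subset_span (by simp)
    rw [e, Submodule.mem_bot] at h
    have := congrFun h (.inr 0)
    simp [rv, hu] at this
  · have h : vec (0 : F) 0 0 1 ∈ W := e ▸ Submodule.mem_top
    obtain ⟨α, β, hab⟩ := Submodule.mem_span_pair.1 h
    have := congrFun hab (.inr 1)
    simp [rv, lv, hu] at this

/-- A linear relation on the blocks, not involving only the diagonal. -/
theorem Rep.exists_relation {f : S₂ →* G₄} (R : Rep f)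
    (hdiag : ¬ (blkB (f (upp 1)) 0 0 = 0 ∧ blkB (f (upp 1)) 1 1 = 0)) :
    ∃ σ τ υ : F, τ ≠ 0 ∧ ∀ l : K, σ * blkB (f (upp l)) 0 0 + τ * blkB (f (upp l)) 1 0 + υ * blkB (f (upp l)) 1 1 = 0 := by
  have two := CharTwo.two_eq_zero (R := F)
  obtain ⟨G, hN, hpow, hGmem⟩ := R.exists_gen
  set M₁ := blkB (f (upp (1 : K))) with hM₁
  obtain ⟨-, hsym⟩ := R.uni 1
  rw [← hM₁] at hsym
  have hs01 : M₁ 0 1 = M₁ 1 0 := by
    have := congrFun (congrFun hsym 0) 1
    simpa using this
  set p := M₁ 0 0 with hp
  set q := M₁ 1 0 with hq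
  set r := M₁ 1 1 with hr
  have hd : p * r + q * q ≠ 0 := by
    have h := R.nondeg 1 one_ne_zero
    rw [← hM₁, det_two, hs01] at h
    exact h
  have hd1 : IsUnit M₁.det := isUnit_iff_ne_zero.2 (R.nondeg 1 one_ne_zero)
  have hspan : ∀ N : M₂, N * G = G * N → ¬ (G 0 1 = 0 ∧ G 1 0 = 0 ∧ G 0 0 = G 1 1) →
      ∃ α β : F, N = α • (1 : M₂) + β • G := by
    intro N hN hns
    have e00 := congrFun (congrFun hN 0) 0
    have e01 := congrFun (congrFun hN 0) 1
    have e10 := congrFun (congrFun hN 1) 0
    simp only [Matrix.mul_apply, Fin.sum_univ_two] at e00 e01 e10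
    by_cases h1 : G 0 1 = 0
    · by_cases h2 : G 1 0 = 0
      · have h3 : G 0 0 + G 1 1 ≠ 0 := fun e => hns ⟨h1, h2, CharTwo.add_eq_zero.1 e⟩
        have n01 : N 0 1 = 0 := (mul_eq_zero.1 (show N 0 1 * (G 0 0 + G 1 1) = 0 by
          rw [h1] at e01; linear_combination e01 + N 0 1 * G 0 0 * two)).resolve_right h3
        have n10 : N 1 0 = 0 := (mul_eq_zero.1 (show N 1 0 * (G 0 0 + G 1 1) = 0 by
          rw [h2] at e10; linear_combination e10 + N 1 0 * G 1 1 * two)).resolve_right h3
        refine ⟨(N 0 0 * G 1 1 + N 1 1 * G 0 0) / (G 0 0 + G 1 1), (N 0 0 + N 1 1) / (G 0 0 + G 1 1), ?_⟩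
        ext i j
        fin_cases i <;> fin_cases j <;> simp [h1, h2, n01, n10] <;> field_simp
        · linear_combination -(N 1 1 * G 0 0) * two
        · linear_combination -(N 0 0 * G 1 1) * two
      · refine ⟨N 0 0 + N 1 0 / G 1 0 * G 0 0, N 1 0 / G 1 0, ?_⟩
        ext i j
        fin_cases i <;> fin_cases j <;> simp <;> field_simp
        · linear_combination -(N 1 0 * G 0 0) * two
        · linear_combination e00
        · linear_combination e10 - (N 1 0 * G 0 0) * two
    · refine ⟨N 0 0 + N 0 1 / G 0 1 * G 0 0, N 0 1 / G 0 1, ?_⟩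
      ext i j
      fin_cases i <;> fin_cases j <;> simp <;> field_simp
      · linear_combination -(N 0 1 * G 0 0) * two
      · linear_combination -e00
      · linear_combination -e01 - (N 0 1 * G 0 0) * two
  -- the blocks lie in a space of dimension at most two
  obtain ⟨Q, hQ, hmem⟩ : ∃ Q : M₂, (Q 0 1 = Q 1 0) ∧
      ((∀ α β : F, ¬ (α * p + β * Q 0 0 = 0 ∧ α * q + β * Q 1 0 = 1 ∧ α * r + β * Q 1 1 = 0)) ∧
      ∀ l : K, ∃ α β : F, blkB (f (upp l)) = α • M₁ + β • Q) := by
    have hl0 : ∀ l : K, l = 0 → blkB (f (upp l)) = 0 := fun l h => by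
      ext i j
      simp [h, upp_zero', blkB]
    by_cases hns : G 0 1 = 0 ∧ G 1 0 = 0 ∧ G 0 0 = G 1 1
    · refine ⟨M₁, hs01, fun α β ⟨e1, e2, e3⟩ => hdiag ⟨?_, ?_⟩, fun l => ?_⟩
      · have h0 : α + β ≠ 0 := fun e => by
          refine zero_ne_one (α := F) ?_
          rw [← e2, show α * q + β * M₁ 1 0 = (α + β) * q by ring, e, zero_mul]
        exact (mul_eq_zero.1 (show (α + β) * p = 0 by linear_combination e1)).resolve_left h0
      · have h0 : α + β ≠ 0 := fun e => by
          refine zero_ne_one (α := F) ?_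
          rw [← e2, show α * q + β * M₁ 1 0 = (α + β) * q by ring, e, zero_mul]
        exact (mul_eq_zero.1 (show (α + β) * r = 0 by linear_combination e3)).resolve_left h0
      · by_cases hl : l = 0
        · exact ⟨0, 0, by rw [hl0 l hl]; simp⟩
        obtain ⟨k, hk⟩ := hpow l hl
        have hGc : G = G 0 0 • (1 : M₂) := by
          ext i j
          fin_cases i <;> fin_cases j <;> simp [hns.1, hns.2.1, hns.2.2]
        refine ⟨G 0 0 ^ k, 0, ?_⟩
        rw [zero_smul, add_zero, ← Matrix.one_mul (blkB (f (upp l))), ← Matrix.mul_nonsing_inv _ hd1,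
          Matrix.mul_assoc, show M₁⁻¹ * blkB (f (upp l)) = gb f l from rfl, hk, hGc, smul_pow, one_pow]
        simp
    · have hblk : ∀ l : K, ∃ α β : F, blkB (f (upp l)) = α • M₁ + β • (M₁ * G) := fun l => by
        by_cases hl : l = 0
        · exact ⟨0, 0, by rw [hl0 l hl]; simp⟩
        obtain ⟨k, hk⟩ := hpow l hl
        obtain ⟨α, β, e⟩ := hspan _ (Commute.pow_self G k).eq hns
        refine ⟨α, β, ?_⟩
        rw [← Matrix.one_mul (blkB (f (upp l))), ← Matrix.mul_nonsing_inv _ hd1,
          Matrix.mul_assoc, show M₁⁻¹ * blkB (f (upp l)) = gb f l from rfl, hk, e, Matrix.mul_add,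
          Matrix.mul_smul, Matrix.mul_smul, Matrix.mul_one]
      -- some block outside the multiples of the first is symmetric, so `M₁ * G` is
      obtain ⟨l, hl, β, α, hβ, e⟩ : ∃ l : K, l ≠ 0 ∧ ∃ β α : F, β ≠ 0 ∧ blkB (f (upp l)) = α • M₁ + β • (M₁ * G) := by
        by_contra hcon
        push Not at hcon
        -- all blocks are multiples of the first, hence `G` is scalar
        have hsc : ∀ m : K, m ≠ 0 → ∃ a : F, gb f m = a • (1 : M₂) := fun m hm => by
          obtain ⟨a, b, e⟩ := hblk m
          by_cases hb : b = 0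
          · refine ⟨a, ?_⟩
            rw [gb, ← hM₁, e, hb, zero_smul, add_zero, Matrix.mul_smul, Matrix.nonsing_inv_mul _ hd1]
          · exact absurd e (hcon m hm b a hb)
        refine hns ?_
        have hG' : ∀ k : ℕ, ∀ m : K, m ≠ 0 → gb f m = G ^ k → (G ^ k) 0 1 = 0 ∧ (G ^ k) 1 0 = 0 ∧
            (G ^ k) 0 0 = (G ^ k) 1 1 := fun k m hm e => by
          obtain ⟨a, ha⟩ := hsc m hm
          rw [← e, ha]; simp
        obtain ⟨m, hm, hGm⟩ : ∃ m : K, m ≠ 0 ∧ gb f m = G := hGmem
        have := hG' 1 m hm (by rw [pow_one]; exact hGm)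
        rwa [pow_one] at this
      refine ⟨M₁ * G, ?_, fun α' β' ⟨e1, e2, e3⟩ => ?_, hblk⟩
      · obtain ⟨-, hs⟩ := R.uni l
        have h01 := congrFun (congrFun hs 0) 1
        rw [e] at h01
        simp [hs01] at h01
        exact mul_left_cancel₀ hβ (by linear_combination h01 + α * (0 : F))
      · -- the square of the matrix with the off-diagonal ones is scalar
        set Z : M₂ := α' • (1 : M₂) + β' • G with hZ
        have hQs : (M₁ * G) 0 1 = (M₁ * G) 1 0 := by
          obtain ⟨-, hs⟩ := R.uni l
          have h01 := congrFun (congrFun hs 0) 1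
          rw [e] at h01
          simp [hs01] at h01
          exact mul_left_cancel₀ hβ (by linear_combination h01)
        have hJ : M₁ * Z = !![0, 1; 1, 0] := by
          rw [hZ, Matrix.mul_add, Matrix.mul_smul, Matrix.mul_smul, Matrix.mul_one]
          ext i j
          fin_cases i <;> fin_cases j <;> simp only [Matrix.add_apply, Matrix.smul_apply, smul_eq_mul] <;> simp
          · exact e1
          · rw [hs01, hQs]; exact e2
          · exact e2
          · exact e3
        have hM : M₁ = !![p, q; q, r] := by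
          ext i j
          fin_cases i <;> fin_cases j <;> simp [← hp, ← hq, ← hr, hs01]
        obtain ⟨di, hdi⟩ : ∃ di : F, di * (p * r + q * q) = 1 := ⟨_, inv_mul_cancel₀ hd⟩
        have hZ2 : Z * Z = di • (1 : M₂) := by
          have hZv : Z = di • !![q, r; p, q] := by
            have h' : M₁ * (di • !![q, r; p, q]) = !![0, 1; 1, 0] := by
              rw [hM, Matrix.mul_smul]
              ext i j
              fin_cases i <;> fin_cases j <;> simp [Matrix.mul_apply, Fin.sum_univ_two]
              · right; linear_combination p * q * two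
              · linear_combination hdi
              · linear_combination hdi
              · right; linear_combination q * r * two
            calc Z = M₁⁻¹ * (M₁ * Z) := by rw [Matrix.nonsing_inv_mul_cancel_left _ _ hd1]
              _ = M₁⁻¹ * (M₁ * (di • !![q, r; p, q])) := by rw [hJ, h']
              _ = _ := by rw [Matrix.nonsing_inv_mul_cancel_left _ _ hd1]
          rw [hZv]
          ext i j
          fin_cases i <;> fin_cases j <;> simp [Matrix.mul_apply, Fin.sum_univ_two]
          · linear_combination di * hdi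
          · linear_combination di * di * q * r * two
          · linear_combination di * di * p * q * two
          · linear_combination di * hdi
        have hG2 : ∃ a : F, G * G = a • (1 : M₂) := by
          have hb0 : β' ≠ 0 := fun e0 => by
            rw [e0, zero_mul, add_zero] at e1 e2 e3
            have ha : α' ≠ 0 := fun e => by rw [e, zero_mul] at e2; exact zero_ne_one e2
            exact hdiag ⟨(mul_eq_zero.1 e1).resolve_left ha, (mul_eq_zero.1 e3).resolve_left ha⟩
          refine ⟨(di + α' ^ 2) / β' ^ 2, ?_⟩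
          have hexp : Z * Z = α' ^ 2 • (1 : M₂) + β' ^ 2 • (G * G) := by
            rw [hZ]
            ext i j
            fin_cases i <;> fin_cases j <;> simp [Matrix.mul_apply, Fin.sum_univ_two]
            · linear_combination α' * β' * G 0 0 * two
            · linear_combination α' * β' * G 0 1 * two
            · linear_combination α' * β' * G 1 0 * two
            · linear_combination α' * β' * G 1 1 * two
          rw [hexp] at hZ2
          ext i j
          have h := congrFun (congrFun hZ2 i) j
          simp only [Matrix.add_apply, Matrix.smul_apply, smul_eq_mul] at h ⊢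
          field_simp
          linear_combination h - (α' ^ 2 * (1 : M₂) i j) * two
        obtain ⟨a, ha⟩ := hG2
        obtain ⟨m, hm⟩ : ∃ m, Nat.card K - 1 = 2 * m + 1 := by
          have hc := R.card
          obtain ⟨n, -, hn⟩ := FiniteField.card K 2
          rw [← Nat.card_eq_fintype_card] at hn
          refine ⟨(Nat.card K - 2) / 2, ?_⟩
          have : 2 ∣ Nat.card K := by rw [hn]; exact dvd_pow_self 2 n.pos.ne'
          omega
        refine hns ?_
        have hGsc : G = (a ^ (m + 1)) • (1 : M₂) := by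
          calc G = G ^ (Nat.card K - 1) * G := by rw [hN, Matrix.one_mul]
            _ = (G * G) ^ (m + 1) := by rw [hm, ← pow_succ, ← pow_two, ← pow_mul]; congr 1
            _ = _ := by rw [ha, smul_pow, one_pow]
        rw [hGsc]
        simp
  obtain ⟨hnot, hlin⟩ := hmem
  -- a functional killing both and not the off-diagonal unit
  set τ := p * Q 1 1 + r * Q 0 0 with hτ
  by_cases hτ0 : τ = 0
  · -- the diagonals are proportional
    have hdep : ∀ α β : F, α * p + β * Q 0 0 = 0 → α * r + β * Q 1 1 = 0 → α * q + β * Q 1 0 = 0 := by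
      intro α β e1 e3
      by_contra h
      set e := α * q + β * Q 1 0 with he
      exact hnot (α / e) (β / e) ⟨by field_simp; linear_combination e1,
        by field_simp; rw [he], by field_simp; linear_combination e3⟩
    clear_value p q r
    rcases not_and_or.1 hdiag with h | h
    · refine ⟨q / p, 1, 0, one_ne_zero, fun l => ?_⟩
      have hk := hdep (Q 0 0 / p) 1 (by field_simp; linear_combination Q 0 0 * two)
        (by field_simp; linear_combination hτ0)
      obtain ⟨α, β, e⟩ := hlin l
      rw [e]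
      simp only [Matrix.add_apply, Matrix.smul_apply, smul_eq_mul, zero_mul, add_zero, ← hp, ← hq]
      field_simp at hk ⊢
      linear_combination β * hk + α * p * q * two
    · refine ⟨0, 1, q / r, one_ne_zero, fun l => ?_⟩
      have hk := hdep (Q 1 1 / r) 1 (by field_simp; linear_combination hτ0)
        (by field_simp; linear_combination Q 1 1 * two)
      obtain ⟨α, β, e⟩ := hlin l
      rw [e]
      simp only [Matrix.add_apply, Matrix.smul_apply, smul_eq_mul, zero_mul, zero_add, ← hr, ← hq]
      field_simp at hk ⊢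
      linear_combination β * hk + α * r * q * two
  · refine ⟨q * Q 1 1 + r * Q 1 0, τ, p * Q 1 0 + q * Q 0 0, hτ0, fun l => ?_⟩
    obtain ⟨α, β, e⟩ := hlin l
    rw [e, hτ]
    simp only [Matrix.add_apply, Matrix.smul_apply, smul_eq_mul, ← hp, ← hq, ← hr]
    linear_combination (α * (p * q * Q 1 1 + q * r * Q 0 0 + p * r * Q 1 0) +
      β * (p * Q 1 0 * Q 1 1 + q * Q 0 0 * Q 1 1 + r * Q 0 0 * Q 1 0)) * two

end Cfsg.Agent.Classical.SpFourRes
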