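import Cfsg.Agent.Lib.Classical.SpFourRes.AbstractPair

/-!
Stabiliser of a totally isotropic line, and centres of transvections on it.
-/

set_option autoImplicit false
set_option linter.unusedSectionVars false

namespace Cfsg.Agent.Classical.SpFourRes

open Matrix

variable {F : Type*} [Field F]

local notation "V₂" => (Fin 2 → F)
local notation "V₄" => (Fin 2 ⊕ Fin 2 → F)
local notation "M₂" => Matrix (Fin 2) (Fin 2) F
local notation "M₄" => Matrix (Fin 2 ⊕ Fin 2) (Fin 2 ⊕ Fin 2) F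
local notation "G₂" => GL (Fin 2) F
local notation "G₄" => GL (Fin 2 ⊕ Fin 2) F

/-- The vector on the standard line. -/
def lv (s : Fin 2 → F) : Fin 2 ⊕ Fin 2 → F := vec (s 0) (s 1) 0 0

/-- Membership in the standard line. -/
def InL (v : Fin 2 ⊕ Fin 2 → F) : Prop := v (Sum.inr 0) = 0 ∧ v (Sum.inr 1) = 0

theorem lv_inl (s : V₂) (i : Fin 2) : lv s (.inl i) = s i := by fin_cases i <;> rfl

theorem lv_inr (s : V₂) (i : Fin 2) : lv s (.inr i) = 0 := by fin_cases i <;> rfl

theorem lv_add (s t : V₂) : lv (s + t) = lv s + lv t := ext4 (by simp [lv]) (by simp [lv]) (by simp [lv]) (by simp [lv])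

theorem lv_smul (c : F) (s : V₂) : lv (c • s) = c • lv s := ext4 (by simp [lv]) (by simp [lv]) (by simp [lv]) (by simp [lv])

theorem lv_injective : Function.Injective (lv (F := F)) := fun s t h =>
  funext fun i => by rw [← lv_inl s i, ← lv_inl t i, h]

theorem lv_ne_zero {s : V₂} (h : s ≠ 0) : lv s ≠ 0 := fun e =>
  h (lv_injective (e.trans (ext4 (by simp [lv]) (by simp [lv]) (by simp [lv]) (by simp [lv]))))

theorem inL_lv (s : V₂) : InL (lv s) := ⟨lv_inr s 0, lv_inr s 1⟩

theorem InL.eq {v : V₄} (h : InL v) : v = lv ![v (.inl 0), v (.inl 1)] :=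
  ext4 (by simp [lv]) (by simp [lv]) (by simpa [lv] using h.1) (by simpa [lv] using h.2)

/-- The inner product with a vector on the line. -/
theorem sf_lv [CharP F 2] (w : V₄) (s : V₂) : sf w (lv s) = dot2 (fun i => w (.inr i)) s := by
  simp [sf_eq, lv, dot2]

theorem sf_lv_lv [CharP F 2] (s t : V₂) : sf (lv s) (lv t) = 0 := by simp [sf_eq, lv]

/-- The upper left block. -/
def blkA (g : GL (Fin 2 ⊕ Fin 2) F) : Matrix (Fin 2) (Fin 2) F :=
  Matrix.of fun i j => (g : Matrix (Fin 2 ⊕ Fin 2) (Fin 2 ⊕ Fin 2) F) (Sum.inl i) (Sum.inl j)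

/-- The upper right block. -/
def blkB (g : GL (Fin 2 ⊕ Fin 2) F) : Matrix (Fin 2) (Fin 2) F :=
  Matrix.of fun i j => (g : Matrix (Fin 2 ⊕ Fin 2) (Fin 2 ⊕ Fin 2) F) (Sum.inl i) (Sum.inr j)

/-- The lower right block. -/
def blkD (g : GL (Fin 2 ⊕ Fin 2) F) : Matrix (Fin 2) (Fin 2) F :=
  Matrix.of fun i j => (g : Matrix (Fin 2 ⊕ Fin 2) (Fin 2 ⊕ Fin 2) F) (Sum.inr i) (Sum.inr j)

section Stab

variable [Finite F]

/-- The stabiliser of the standard line. -/
def stabL : Subgroup (GL (Fin 2 ⊕ Fin 2) F) where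
  carrier := {g | ∀ i j, (g : Matrix (Fin 2 ⊕ Fin 2) (Fin 2 ⊕ Fin 2) F) (Sum.inr i) (Sum.inl j) = 0}
  one_mem' i j := by simp
  mul_mem' {g h} hg hh i j := by
    rw [Units.val_mul, Matrix.mul_apply, Fintype.sum_sum_type]
    simp [hg i, fun k => hh k j]
  inv_mem' {g} hg := by
    have hpow : ∀ n : ℕ, ∀ i j, ((g ^ n : G₄) : M₄) (.inr i) (.inl j) = 0 := by
      intro n
      induction n with
      | zero => intro i j; simp
      | succ n ih =>
        intro i j
        rw [pow_succ, Units.val_mul, Matrix.mul_apply, Fintype.sum_sum_type]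
        simp [ih i, fun k => hg k j]
    have : g⁻¹ = g ^ (orderOf g - 1) := by
      refine inv_eq_of_mul_eq_one_right ?_
      rw [← pow_succ', Nat.sub_add_cancel (orderOf_pos g), pow_orderOf_eq_one]
    rw [this]
    exact hpow _

theorem mem_stabL {g : G₄} : g ∈ stabL ↔ ∀ i j, (g : M₄) (.inr i) (.inl j) = 0 := Iff.rfl

theorem act_lv {g : G₄} (hg : g ∈ stabL) (s : V₂) : act g (lv s) = lv (blkA g *ᵥ s) := by
  funext x
  rcases x with i | i
  · rw [lv_inl, act, mulVec_apply4]
    simp [lv, blkA, Matrix.mulVec, dotProduct, Fin.sum_univ_two]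
  · rw [lv_inr, act, mulVec_apply4]
    simp [lv, hg i]

theorem mem_stabL_of_inL {g : G₄} {σ τ : V₂} [CharP F 2] (h : det2 σ τ ≠ 0) (hσ : InL (act g (lv σ)))
    (hτ : InL (act g (lv τ))) : g ∈ stabL := by
  have hall : ∀ s, InL (act g (lv s)) := fun s => by
    rw [expand2 h s, lv_add, lv_smul, lv_smul, act_add, act_smul, act_smul]
    constructor <;> simp [hσ.1, hσ.2, hτ.1, hτ.2]
  intro i j
  rw [coe_apply_act]
  have hs : (Pi.single (Sum.inl j) 1 : V₄) = lv (Pi.single j 1) := by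
    fin_cases j <;> refine ext4 ?_ ?_ ?_ ?_ <;> simp [lv]
  rw [hs]
  fin_cases i
  exacts [(hall _).1, (hall _).2]

theorem blkA_mul {g h : G₄} (hh : h ∈ stabL) : blkA (g * h) = blkA g * blkA h := by
  ext i j
  simp only [blkA, Matrix.of_apply, Units.val_mul, Matrix.mul_apply, Fintype.sum_sum_type]
  simp [fun k => hh k j]

theorem blkB_mul {g h : G₄} : blkB (g * h) = blkA g * blkB h + blkB g * blkD h := by
  ext i j
  simp [blkA, blkB, blkD, Units.val_mul, Matrix.mul_apply, Fintype.sum_sum_type]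

/-- The action on the line, as a homomorphism. -/
noncomputable def blockHom : (stabL (F := F)) →* GL (Fin 2) F :=
  MonoidHom.toHomUnits
    { toFun := fun g => blkA (g : GL (Fin 2 ⊕ Fin 2) F)
      map_one' := by
        ext i j
        simp [blkA, Matrix.one_apply]
      map_mul' := fun g h => blkA_mul h.2 }

theorem coe_blockHom (g : stabL (F := F)) : ((blockHom g : G₂) : M₂) = blkA (g : G₄) := rfl

theorem act_lv_hom (g : stabL (F := F)) (s : V₂) : act (g : G₄) (lv s) = lv (ap (blockHom g) s) := act_lv g.2 s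

/-- The group induced on the line. -/
noncomputable def onL (P : Subgroup (GL (Fin 2 ⊕ Fin 2) F)) : Subgroup (GL (Fin 2) F) :=
  (P.subgroupOf stabL).map blockHom

theorem mem_onL {P : Subgroup G₄} {x : G₂} :
    x ∈ onL P ↔ ∃ g : stabL (F := F), (g : G₄) ∈ P ∧ blockHom g = x :=
  Iff.rfl

variable [CharP F 2]

theorem blk_dual {g : G₄} (hg : g ∈ stabL) (hs : g ∈ spGL 2 F) : (blkA g)ᵀ * blkD g = 1 := by
  ext i j
  have h := sf_act hs (Pi.single (Sum.inl i) 1) (Pi.single (Sum.inr j) 1)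
  rw [sf_eq, sf_eq] at h
  simp only [← coe_apply_act, hg] at h
  fin_cases i <;> fin_cases j <;> simp [blkA, blkD, Matrix.mul_apply, Fin.sum_univ_two, hg 0 0, hg 0 1, hg 1 0, hg 1 1] at h ⊢ <;> exact h

theorem blk_symm {g : G₄} (hg : g ∈ stabL) (hs : g ∈ spGL 2 F) :
    (blkB g * (blkA g)ᵀ)ᵀ = blkB g * (blkA g)ᵀ := by
  have h2 : (blkB g)ᵀ * blkD g + (blkD g)ᵀ * blkB g = 0 := by
    ext i j
    have h := sf_act hs (Pi.single (Sum.inr i) 1) (Pi.single (Sum.inr j) 1)
    rw [sf_eq, sf_eq] at h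
    simp only [← coe_apply_act] at h
    fin_cases i <;> fin_cases j <;> simp [blkB, blkD, Matrix.mul_apply, Fin.sum_univ_two] at h ⊢ <;>
      linear_combination h
  have hDA : blkD g * (blkA g)ᵀ = 1 := mul_eq_one_comm.1 (blk_dual hg hs)
  have hAD : blkA g * (blkD g)ᵀ = 1 := by
    have := congrArg Matrix.transpose hDA
    rwa [Matrix.transpose_mul, Matrix.transpose_transpose, Matrix.transpose_one] at this
  have h3 : blkA g * ((blkB g)ᵀ * blkD g + (blkD g)ᵀ * blkB g) * (blkA g)ᵀ = 0 := by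
    rw [h2, Matrix.mul_zero, Matrix.zero_mul]
  rw [Matrix.mul_add, Matrix.add_mul, ← Matrix.mul_assoc, Matrix.mul_assoc _ (blkD g), hDA, Matrix.mul_one,
    ← Matrix.mul_assoc (blkA g) (blkD g)ᵀ, hAD, Matrix.one_mul] at h3
  rw [Matrix.transpose_mul, Matrix.transpose_transpose]
  ext i j
  have h4 := congrFun (congrFun h3 i) j
  rw [Matrix.add_apply, Matrix.zero_apply] at h4
  exact CharTwo.add_eq_zero.1 h4

/-- The symmetric matrix of an element of the stabiliser. -/
def symM (g : GL (Fin 2 ⊕ Fin 2) F) : Matrix (Fin 2) (Fin 2) F := blkB g * (blkA g)ᵀ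

theorem symM_mul {g h : G₄} (hh : h ∈ stabL) (hhs : h ∈ spGL 2 F) :
    symM (g * h) = blkA g * symM h * (blkA g)ᵀ + symM g := by
  have hDA : blkD h * (blkA h)ᵀ = 1 := mul_eq_one_comm.1 (blk_dual hh hhs)
  rw [symM, symM, symM, blkB_mul, blkA_mul hh, Matrix.transpose_mul, Matrix.add_mul]
  congr 1
  · simp only [Matrix.mul_assoc]
  · rw [Matrix.mul_assoc (blkB g), ← Matrix.mul_assoc (blkD h), hDA, Matrix.one_mul]

theorem tv_lv_mem (s : V₂) : tv (lv s) ∈ stabL := by
  intro i j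
  rw [coe_apply_act, act_tv]
  fin_cases i <;> fin_cases j <;> simp [sf_eq, lv]

theorem blkA_tv (s : V₂) : blkA (tv (lv s)) = 1 := by
  ext i j
  simp only [blkA, Matrix.of_apply]
  rw [coe_apply_act, act_tv]
  fin_cases i <;> fin_cases j <;> simp [sf_eq, lv]

theorem symM_tv (s : V₂) : symM (tv (lv s)) 0 0 = s 0 ^ 2 ∧ symM (tv (lv s)) 0 1 = s 0 * s 1 ∧
    symM (tv (lv s)) 1 1 = s 1 ^ 2 := by
  rw [symM, blkA_tv, Matrix.transpose_one, Matrix.mul_one]
  refine ⟨?_, ?_, ?_⟩ <;> simp only [blkB, Matrix.of_apply] <;> rw [coe_apply_act, act_tv] <;>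
    simp [sf_eq, lv] <;> ring

/-- An element fixing the line pointwise squares to one. -/
theorem sq_eq_one_of_fixL {g : G₄} (hs : g ∈ spGL 2 F) (h : ∀ s, act g (lv s) = lv s) : g * g = 1 := by
  refine ext_act fun x => ?_
  rw [act_mul, act_one]
  have hy : InL (act g x + x) := by
    constructor
    · have e : sf (act g x) (act g (lv ![1, 0])) = sf x (lv ![1, 0]) := sf_act hs _ _
      rw [h, sf_eq, sf_eq] at e
      simp [lv] at e
      simp [e, CharTwo.add_self_eq_zero]
    · have e : sf (act g x) (act g (lv ![0, 1])) = sf x (lv ![0, 1]) := sf_act hs _ _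
      rw [h, sf_eq, sf_eq] at e
      simp [lv] at e
      simp [e, CharTwo.add_self_eq_zero]
  have hfix : act g (act g x + x) = act g x + x := by rw [hy.eq, h]
  rw [act_add] at hfix
  funext i
  have := congrFun hfix i
  simp only [Pi.add_apply] at this
  linear_combination this

end Stab

end Cfsg.Agent.Classical.SpFourRes
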