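import Cfsg.Agent.Lib.Classical.SpFourRes.Primes
import Cfsg.Agent.Lib.Classical.SpFourRes.Realise
import Cfsg.Agent.Lib.Classical.PSpAutCard
import Cfsg.Agent.Lib.Lie.Sz.Tori
import Cfsg.Agent.Lib.Lie.Sz.Eigen
import Cfsg.Agent.Lib.Lie.Sz.SylowLie
import Cfsg.Agent.Lib.Invol.ThreeFree.Main
import Cfsg.Agent.Lib.Recog.SzSquare.Two
import Cfsg.Prelude.Def_Exceptional

/-!
The Suzuki groups in a residual subgroup: the field is the one of the representation.
-/

set_option autoImplicit false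
set_option linter.unusedSectionVars false

namespace Cfsg.Agent.Classical.SpFourRes

open Matrix Polynomial

section Sz

variable {K : Type*} [Field K] [Fintype K] {m : ℕ} (hS : Suz.SzField K m)
include hS


/-- The normaliser of the centraliser of a fixed-point-free element. -/
theorem card_normalizer_cent {g : (↥(Cfsg.Sz K m))} (hg : Suz.FPF m g) :
    Nat.card (Subgroup.normalizer ((Subgroup.centralizer ({g} : Set (↥(Cfsg.Sz K m)))) : Set (↥(Cfsg.Sz K m)))) =
      4 * Nat.card (Subgroup.centralizer ({g} : Set (↥(Cfsg.Sz K m)))) := by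
  obtain ⟨x, y, ⟨hx, -, hNx⟩, ⟨hy, -, hNy⟩, hall⟩ := Suz.exists_tori hS
  have key : ∀ {u : (↥(Cfsg.Sz K m))}, Suz.FPF m u →
      Nat.card (Subgroup.normalizer ((Subgroup.centralizer ({u} : Set (↥(Cfsg.Sz K m)))) : Set (↥(Cfsg.Sz K m)))) =
        4 * Nat.card (Subgroup.centralizer ({u} : Set (↥(Cfsg.Sz K m)))) → g ∈ Suz.conjSet (Subgroup.centralizer ({u} : Set (↥(Cfsg.Sz K m)))) →
      Nat.card (Subgroup.normalizer ((Subgroup.centralizer ({g} : Set (↥(Cfsg.Sz K m)))) : Set (↥(Cfsg.Sz K m)))) =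
        4 * Nat.card (Subgroup.centralizer ({g} : Set (↥(Cfsg.Sz K m)))) := by
    intro u hu hN hm
    obtain ⟨c, hc⟩ := Suz.FPF.eq_of_mem_conjSet hS hu hm
    rw [hc, Subgroup.card_map_of_injective (MulAut.conj c).injective, ← hN,
      ← Subgroup.map_equiv_normalizer_eq, Subgroup.card_map_of_injective (MulAut.conj c).injective]
  rcases hall g hg with h | h
  · exact key hx hNx h
  · exact key hy hNy h

/-- A fixed-point-free element is conjugate to its power by the field order. -/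
theorem conj_pow_q {g : (↥(Cfsg.Sz K m))} (hg : Suz.FPF m g) : ∃ c : (↥(Cfsg.Sz K m)), c * g * c⁻¹ = g ^ Fintype.card K := by
  classical
  haveI := Suz.charP hS
  obtain ⟨hirr, φ, hφ, hinj, hsurj⟩ := Suz.exists_field hS hg
  let Y := {y : (↥(Cfsg.Sz K m)) // IsConj g y ∧ y * g = g * y}
  let L := AdjoinRoot (Suz.mat g).charpoly
  let R := ↥((Suz.mat g).charpoly.rootSet L)
  -- at least four conjugates commute
  have hY : 4 ≤ Nat.card Y := by
    set C := Subgroup.centralizer ({g} : Set (↥(Cfsg.Sz K m))) with hC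
    set N := Subgroup.normalizer (C : Set (↥(Cfsg.Sz K m))) with hNdef
    have hN : Nat.card N = 4 * Nat.card C := card_normalizer_cent hS hg
    have hCN : C ≤ N := Subgroup.le_normalizer
    let ψ : N ⧸ C.subgroupOf N → Y := fun z => Quotient.liftOn' z
      (fun n => ⟨n * g * (n : (↥(Cfsg.Sz K m)))⁻¹, isConj_iff.2 ⟨n, rfl⟩, Subgroup.mem_centralizer_singleton_iff.1
        ((Subgroup.mem_normalizer_iff.1 n.2 g).1 (Subgroup.mem_centralizer_singleton_iff.2 rfl))⟩)
      (fun a b h => by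
        refine Subtype.ext ?_
        have hc : (a : (↥(Cfsg.Sz K m)))⁻¹ * b ∈ C := Subgroup.mem_subgroupOf.1 (QuotientGroup.leftRel_apply.1 h)
        have e := Subgroup.mem_centralizer_singleton_iff.1 hc
        show (a : (↥(Cfsg.Sz K m))) * g * (a : (↥(Cfsg.Sz K m)))⁻¹ = b * g * (b : (↥(Cfsg.Sz K m)))⁻¹
        calc (a : (↥(Cfsg.Sz K m))) * g * (a : (↥(Cfsg.Sz K m)))⁻¹ = a * (g * ((a : (↥(Cfsg.Sz K m)))⁻¹ * b)) * (b : (↥(Cfsg.Sz K m)))⁻¹ := by group
          _ = a * ((a : (↥(Cfsg.Sz K m)))⁻¹ * b * g) * (b : (↥(Cfsg.Sz K m)))⁻¹ := by rw [e]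
          _ = _ := by group)
    have hψ : Function.Injective ψ := fun z z' => by
      induction z using QuotientGroup.induction_on with
      | H a =>
        induction z' using QuotientGroup.induction_on with
        | H b =>
          intro h
          have e : (a : (↥(Cfsg.Sz K m))) * g * (a : (↥(Cfsg.Sz K m)))⁻¹ = b * g * (b : (↥(Cfsg.Sz K m)))⁻¹ := congrArg Subtype.val h
          refine QuotientGroup.eq.2 (Subgroup.mem_subgroupOf.2 ?_)
          rw [hC, Subgroup.mem_centralizer_singleton_iff]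
          show (a : (↥(Cfsg.Sz K m)))⁻¹ * b * g = g * ((a : (↥(Cfsg.Sz K m)))⁻¹ * b)
          calc (a : (↥(Cfsg.Sz K m)))⁻¹ * b * g = (a : (↥(Cfsg.Sz K m)))⁻¹ * (b * g * (b : (↥(Cfsg.Sz K m)))⁻¹) * b := by group
            _ = (a : (↥(Cfsg.Sz K m)))⁻¹ * (a * g * (a : (↥(Cfsg.Sz K m)))⁻¹) * b := by rw [e]
            _ = _ := by group
    have h1 := Subgroup.card_eq_card_quotient_mul_card_subgroup (C.subgroupOf N)
    rw [hN, Nat.card_congr (Subgroup.subgroupOfEquivOfLe hCN).toEquiv] at h1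
    have h2 : 4 = Nat.card (N ⧸ C.subgroupOf N) := Nat.eq_of_mul_eq_mul_right Nat.card_pos h1
    exact h2.le.trans (Nat.card_le_card_of_injective ψ hψ)
  -- each gives a root
  have hk : ∀ y : Y, ∃ k : R, φ (k : L) = Suz.mat (y : (↥(Cfsg.Sz K m))) := by
    rintro ⟨y, hy, hc⟩
    obtain ⟨k, hk⟩ := hsurj (Suz.mat y) (by show _ = _; rw [← Suz.mat_mul, ← Suz.mat_mul, hc])
    refine ⟨⟨k, mem_rootSet.2 ⟨(Suz.mat g).charpoly_monic.ne_zero, hinj ?_⟩⟩, hk⟩
    have htr : (Suz.mat y).trace = (Suz.mat g).trace := by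
      obtain ⟨c, hcy⟩ := isConj_iff.1 hy
      rw [← hcy, Suz.mat_mul, Matrix.trace_mul_comm, ← Suz.mat_mul, ← mul_assoc, inv_mul_cancel, one_mul]
    rw [map_zero, ← aeval_algHom_apply, hk, Suz.charpoly_mat hS g, ← htr, ← Suz.charpoly_mat hS y,
      Matrix.aeval_self_charpoly]
  choose e he using hk
  have heinj : Function.Injective e := fun y y' h =>
    Subtype.ext (Suz.mat_injective (by rw [← he y, ← he y', h]))
  have hR : Nat.card R ≤ 4 := by
    show Nat.card ↥((Suz.mat g).charpoly.rootSet L) ≤ 4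
    rw [rootSet_def, Nat.card_coe_set_eq, Set.ncard_coe_finset]
    refine (Multiset.toFinset_card_le _).trans ((card_roots' _).trans ?_)
    rw [natDegree_map, Matrix.charpoly_natDegree_eq_dim, Fintype.card_fin]
  haveI : Finite R := Set.Finite.to_subtype (rootSet_finite _ _)
  have hesurj : Function.Surjective e := by
    refine ((Nat.bijective_iff_injective_and_card e).2 ⟨heinj, ?_⟩).2
    exact le_antisymm (Nat.card_le_card_of_injective e heinj) (hR.trans hY)
  -- the image of the root under the Frobenius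
  have hroot : (AdjoinRoot.root (Suz.mat g).charpoly) ^ Fintype.card K ∈ (Suz.mat g).charpoly.rootSet L := by
    refine mem_rootSet.2 ⟨(Suz.mat g).charpoly_monic.ne_zero, ?_⟩
    haveI : Module.Finite K L := (AdjoinRoot.powerBasis hirr.out.ne_zero).finite
    haveI : Finite L := Module.finite_of_finite K
    have h := aeval_algHom_apply (FiniteField.frobeniusAlgHom K L) (AdjoinRoot.root (Suz.mat g).charpoly)
      (Suz.mat g).charpoly
    rw [AdjoinRoot.aeval_eq, AdjoinRoot.mk_self, map_zero, FiniteField.coe_frobeniusAlgHom] at h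
    exact h
  obtain ⟨⟨y, hy, hyc⟩, hey⟩ := hesurj ⟨_, hroot⟩
  have hymat := he ⟨y, hy, hyc⟩
  rw [hey] at hymat
  change φ (AdjoinRoot.root (Suz.mat g).charpoly ^ Fintype.card K) = Suz.mat y at hymat
  rw [map_pow, hφ, ← Suz.mat_pow] at hymat
  obtain ⟨c, hc⟩ := isConj_iff.1 hy
  exact ⟨c, hc.trans (Suz.mat_injective hymat).symm⟩

/-- The three kinds of elements. -/
theorem sz_kinds (g : (↥(Cfsg.Sz K m))) : g ^ 4 = 1 ∨ g ^ (Fintype.card K) = g ∨ ∃ c : (↥(Cfsg.Sz K m)), c * g * c⁻¹ = g ^ Fintype.card K := by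
  rcases Suz.trichotomy hS g with ⟨c, hc⟩ | ⟨c, z, -, hc⟩ | h
  · left
    have h4 := Suz.orderOf_of_mem_unip hS hc
    rw [Suz.orderOf_conj' hS] at h4
    exact orderOf_dvd_iff_pow_eq_one.1 h4
  · right; left
    have h4 := Suz.orderOf_of_mem_torus hS (g := c * g * c⁻¹) (by rw [hc]; exact Suz.hTor_mem_torus hS z)
    rw [Suz.orderOf_conj' hS] at h4
    have h1 : g ^ (2 ^ (2 * m + 1) - 1) = 1 := orderOf_dvd_iff_pow_eq_one.1 h4
    rw [hS.card, ← Nat.sub_add_cancel (Nat.one_le_two_pow (n := 2 * m + 1)), pow_succ, h1, one_mul]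
  · exact Or.inr (Or.inr (conj_pow_q hS h))

end Sz

variable {F : Type*} [Field F] [CharP F 2] [Fintype F]

local notation "M₄" => Matrix (Fin 2 ⊕ Fin 2) (Fin 2 ⊕ Fin 2) F
local notation "G₄" => GL (Fin 2 ⊕ Fin 2) F

theorem trace_pow_two_pow (M : Matrix (Fin 2 ⊕ Fin 2) (Fin 2 ⊕ Fin 2) F) (k : ℕ) :
    trace (M ^ (2 ^ k)) = trace M ^ (2 ^ k) := by
  induction k with
  | zero => simp
  | succ k ih =>
    rw [pow_succ, pow_mul, pow_mul, ← ih, pow_two (M ^ 2 ^ k)]
    have two := CharTwo.two_eq_zero (R := F)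
    generalize M ^ 2 ^ k = N
    simp only [Matrix.trace, Matrix.diag, Matrix.mul_apply, Fintype.sum_sum_type, Fin.sum_univ_two]
    grind

/-- The field of a Suzuki subgroup is the whole field. -/
theorem Res.suzuki_field {P : Subgroup G₄} (R : Res P) {K : Type*} [Field K] [Fintype K] {m : ℕ}
    (hS : Suz.SzField K m) (e : P ≃* ↥(Cfsg.Sz K m)) : Fintype.card F = 2 ^ (2 * m + 1) := by
  classical
  set n := 2 * m + 1 with hn
  have tr : ∀ g ∈ P, trace (g : M₄) ^ 2 ^ n = trace (g : M₄) := by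
    intro g hg
    set x : P := ⟨g, hg⟩
    rcases sz_kinds hS (e x) with h | h | ⟨c, hc⟩
    · rw [← map_pow, ← map_one e, e.injective.eq_iff] at h
      have h4 : (g : M₄) ^ 4 = 1 := by
        have := congrArg (fun y : P => ((y : G₄) : M₄)) h
        simpa [x] using this
      have ht := congrArg trace h4
      rw [show 4 = 2 ^ 2 from rfl, trace_pow_two_pow, Matrix.trace_one] at ht
      have h0 : trace (g : M₄) = 0 := pow_eq_zero_iff (two_ne_zero' ℕ |> fun _ => (by norm_num : (2 ^ 2 : ℕ) ≠ 0)) |>.1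
        (ht.trans (show ((4 : ℕ) : F) = 0 by
          rw [show (4 : ℕ) = 2 * 2 from rfl, Nat.cast_mul, Nat.cast_two, CharTwo.two_eq_zero, zero_mul]))
      rw [h0, zero_pow (pow_ne_zero n two_ne_zero)]
    · rw [← map_pow, e.injective.eq_iff, hS.card] at h
      have := congrArg (fun y : P => trace ((y : G₄) : M₄)) h
      simp only [SubgroupClass.coe_pow, Units.val_pow_eq_pow_val, trace_pow_two_pow] at this
      exact this
    · obtain ⟨d, rfl⟩ := e.surjective c
      rw [← map_inv, ← map_mul, ← map_mul, ← map_pow, e.injective.eq_iff, hS.card] at hc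
      have := congrArg (fun y : P => trace ((y : G₄) : M₄)) hc
      simp only [Subgroup.coe_mul, Subgroup.coe_inv, SubgroupClass.coe_pow, Units.val_pow_eq_pow_val,
        trace_pow_two_pow] at this
      rw [← this, Units.val_mul, Units.val_mul, Matrix.trace_mul_comm, ← mul_assoc, Units.inv_mul, one_mul]
  -- the subfield
  let F₀ : Subfield F :=
    { carrier := {x | x ^ 2 ^ n = x}
      mul_mem' := fun {a b} ha hb => by show (a * b) ^ 2 ^ n = a * b; rw [mul_pow, ha, hb]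
      one_mem' := one_pow _
      add_mem' := fun {a b} ha hb => by
        haveI : Fact (Nat.Prime 2) := ⟨Nat.prime_two⟩
        show (a + b) ^ 2 ^ n = a + b
        rw [add_pow_char_pow, ha, hb]
      zero_mem' := zero_pow (pow_ne_zero n two_ne_zero)
      neg_mem' := fun {a} ha => by show (-a) ^ 2 ^ n = -a; rw [CharTwo.neg_eq]; exact ha
      inv_mem' := fun a ha => by show a⁻¹ ^ 2 ^ n = a⁻¹; rw [inv_pow, ha] }
  have htop : F₀ = ⊤ := by
    by_contra hne
    obtain ⟨B, hB⟩ := realisable_of_trace P R.irr R.absolute F₀ fun g hg => tr g hg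
    exact R.noSub F₀ hne B hB
  obtain ⟨f, -, hf⟩ := FiniteField.card F 2
  -- `f` divides `n`
  have hdvd : (f : ℕ) ∣ n := by
    obtain ⟨z, hz⟩ := IsCyclic.exists_generator (α := Fˣ)
    have hzn : z ^ (2 ^ n - 1) = 1 := by
      have hzz : (z : F) ^ 2 ^ n = z := (show (z : F) ∈ F₀ by rw [htop]; exact Subfield.mem_top _)
      refine Units.ext (mul_right_cancel₀ z.ne_zero ?_)
      rw [Units.val_pow_eq_pow_val, Units.val_one, ← pow_succ, Nat.sub_add_cancel Nat.one_le_two_pow, hzz,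
        one_mul]
    have hord : orderOf z = 2 ^ (f : ℕ) - 1 := by
      rw [orderOf_eq_card_of_forall_mem_zpowers hz, Nat.card_units, Nat.card_eq_fintype_card, hf]
    have hd : 2 ^ (f : ℕ) - 1 ∣ 2 ^ n - 1 := hord ▸ orderOf_dvd_of_pow_eq_one hzn
    have hg := Nat.gcd_eq_left hd
    rw [Nat.pow_sub_one_gcd_pow_sub_one] at hg
    have hg' : 2 ^ Nat.gcd f n = 2 ^ (f : ℕ) := by
      have := Nat.one_le_two_pow (n := Nat.gcd f n)
      have := Nat.one_le_two_pow (n := (f : ℕ))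
      omega
    exact (Nat.pow_right_injective le_rfl hg') ▸ Nat.gcd_dvd_right _ _
  rw [hf]
  congr 1
  by_contra hne
  obtain ⟨k, hk⟩ := hdvd
  have h3 : 3 * (f : ℕ) ≤ n := by
    have hk2 : k % 2 = 1 := by
      by_contra h
      have : 2 ∣ k := by omega
      obtain ⟨j, rfl⟩ := this
      have : n = 2 * ((f : ℕ) * j) := by rw [hk]; ring
      omega
    have : 3 ≤ k := by
      by_contra h
      have : k = 1 := by omega
      rw [this, mul_one] at hk
      exact hne hk.symm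
    rw [hk, mul_comm 3]
    exact Nat.mul_le_mul_left _ this
  -- Sylow two-subgroups
  let ι : P →* Matrix.symplecticGroup (Fin 2) F :=
    { toFun := fun g => ⟨((g : G₄) : M₄), mem_symplecticGroup_iff_form.2 (R.simp'.le g.2)⟩
      map_one' := rfl
      map_mul' := fun _ _ => rfl }
  have hι : Function.Injective ι := fun a b h => Subtype.ext (Units.ext (congrArg Subtype.val h))
  have hd := Subgroup.card_dvd_of_injective ι hι
  rw [Classical.natCard_symplecticGroup, Nat.card_congr e.toEquiv, Suz.card_Sz hS, Nat.card_eq_fintype_card, hf] at hd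
  simp only [Finset.prod_range_succ, Finset.prod_range_zero, one_mul] at hd
  have h2 : 2 ^ (2 * n) ∣ (2 ^ (f : ℕ)) ^ 2 ^ 2 * (((2 ^ (f : ℕ)) ^ (2 * (0 + 1)) - 1) * ((2 ^ (f : ℕ)) ^ (2 * (1 + 1)) - 1)) := by
    refine Dvd.dvd.trans ?_ hd
    rw [← hn]
    exact Dvd.intro (((2 ^ n) ^ 2 + 1) * (2 ^ n - 1)) (by rw [← pow_mul, mul_comm 2 n, ← mul_assoc])
  have hcop : ∀ a, 0 < a → Nat.Coprime (2 ^ (2 * n)) (2 ^ a - 1) := fun a ha => by
    refine Nat.Coprime.pow_left _ ((Nat.prime_two.coprime_iff_not_dvd).2 fun h => ?_)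
    obtain ⟨b, rfl⟩ : ∃ b, a = b + 1 := ⟨a - 1, by omega⟩
    have := Nat.one_le_two_pow (n := b)
    rw [pow_succ] at h
    omega
  have h5 := ((hcop _ (by have := f.pos; positivity : 0 < (f : ℕ) * (2 * (1 + 1)))).dvd_of_dvd_mul_right
    (m := (2 ^ (f : ℕ)) ^ 2 ^ 2 * ((2 ^ (f : ℕ)) ^ (2 * (0 + 1)) - 1)) (by
      rw [pow_mul 2 (f : ℕ) (2 * (1 + 1)), mul_assoc]; exact h2))
  have h6 := (hcop _ (by have := f.pos; positivity : 0 < (f : ℕ) * (2 * (0 + 1)))).dvd_of_dvd_mul_right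
    (m := (2 ^ (f : ℕ)) ^ 2 ^ 2) (by rw [pow_mul 2 (f : ℕ) (2 * (0 + 1))]; exact h5)
  rw [← pow_mul] at h6
  have h7 : 2 * n ≤ (f : ℕ) * 4 := (Nat.pow_dvd_pow_iff_le_right (by norm_num : 1 < 2)).1 h6
  have := f.pos
  omega

/-- A residual subgroup of Suzuki order. -/
theorem Res.suzuki {P : Subgroup G₄} (R : Res P) (h : Cfsg.IsSuzuki P) :
    ∃ m : ℕ, 1 ≤ m ∧ Fintype.card F = 2 ^ (2 * m + 1) ∧ Nonempty (P ≃* ↥(Cfsg.Lie.Sz F (2 ^ (m + 1)))) := by
  obtain ⟨hs, m₀, hm₀, hcard⟩ := h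
  haveI := hs
  have h3 : ¬ 3 ∣ Nat.card P := by
    rw [hcard]
    have hq : 2 ^ (2 * m₀ + 1) % 3 = 2 := by
      rw [pow_succ, pow_mul, Nat.mul_mod, Nat.pow_mod]; norm_num
    intro h
    rcases Nat.prime_three.dvd_mul.1 h with h | h
    · rcases Nat.prime_three.dvd_mul.1 h with h | h
      · have := Nat.prime_three.dvd_of_dvd_pow h
        omega
      · rw [Nat.dvd_iff_mod_eq_zero, Nat.add_mod, Nat.pow_mod, hq] at h
        norm_num at h
    · have := Nat.one_le_two_pow (n := 2 * m₀ + 1)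
      omega
  have hna : ¬ IsMulCommutative P := fun hc => R.simp'.not_solvable (by
    haveI := hc
    exact Group.isSolvable_of_comm fun a b => mul_comm' a b)
  obtain ⟨K, i1, i2, m, hm, hK, ⟨e⟩⟩ := Invol.ThreeFree.isoSuzuki hna h3
  have hS : Suz.SzField K m := ⟨hm, hK⟩
  have hF := R.suzuki_field hS (e.trans (Suz.szEquiv hS).symm)
  have hSF : Suz.SzField F m := ⟨hm, hF⟩
  obtain ⟨e'⟩ := Recog.SzSquare.sz_congr hS hSF
  exact ⟨m, hm, hF, ⟨((e.trans (Suz.szEquiv hS).symm).trans e').trans (Suz.szEquiv hSF)⟩⟩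

end Cfsg.Agent.Classical.SpFourRes
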