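import Cfsg.Agent.Lib.Classical.SpFourRes.AltSix
import Cfsg.Agent.Lib.Classical.SpFourRes.Suzuki
import Cfsg.Agent.S0348

/-!
The residual class of `Sp(4, q)`, `q` even.
-/

set_option autoImplicit false
set_option linter.unusedSectionVars false

namespace Cfsg.Agent.Classical.SpFourRes

open Matrix

variable {F : Type*} [Field F] [CharP F 2] [Fintype F]

local notation "G₄" => GL (Fin 2 ⊕ Fin 2) F

/-- Scalar symplectic matrices are trivial. -/
theorem scalar_sp {g : G₄} (hg : g ∈ spGL 2 F) (hs : g ∈ Geo.scalars (Fin 2 ⊕ Fin 2) F) : g = 1 := by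
  obtain ⟨c, hc⟩ := (Geo.mem_scalars_iff g).1 hs
  have hact : ∀ x, act g x = (c : F) • x := fun x => by
    rw [act, hc, Matrix.smul_mulVec, Matrix.one_mulVec]
  have h := sf_act hg (vec 1 0 0 0) (vec 0 0 1 0)
  rw [hact, hact, sf_smul_left, sf_smul_right, sf_eq] at h
  simp at h
  have hc1 : (c : F) = 1 := sq_inj (by rw [one_pow]; linear_combination h)
  exact ext_act fun x => by rw [hact, hc1, one_smul, act_one]

/-- The socle preimage of a residual subgroup. -/
theorem res_of_core {H P : Subgroup G₄} (hlt : H < spGL 2 F) (hC : Geo.IsResidualCore H P)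
    (hQ : ¬ ∃ Q : (Fin 2 ⊕ Fin 2 → F) → F, Geo.IsNondegenerateQuadraticForm Q ∧
      Geo.FixesQuadForm (Geo.matrixSet P) Q) :
    Res P ∧ Nonempty ((P ⧸ (Geo.scalars (Fin 2 ⊕ Fin 2) F).subgroupOf P) ≃* P) := by
  have hle : P ≤ spGL 2 F := hC.le.trans hlt.le
  have hbot : (Geo.scalars (Fin 2 ⊕ Fin 2) F).subgroupOf P = ⊥ := by
    rw [Subgroup.eq_bot_iff_forall]
    intro x hx
    exact Subtype.ext (scalar_sp (hle x.2) (Subgroup.mem_subgroupOf.1 hx))
  have e : (P ⧸ (Geo.scalars (Fin 2 ⊕ Fin 2) F).subgroupOf P) ≃* P :=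
    (QuotientGroup.quotientMulEquivOfEq hbot).trans QuotientGroup.quotientBot
  refine ⟨⟨⟨hle, ?_, ?_⟩, ?_, ?_, ?_, ?_, hQ⟩, ⟨e⟩⟩
  · haveI := hC.simple
    haveI : Nontrivial P := e.toEquiv.symm.nontrivial
    exact e.symm.isSimpleGroup
  · exact fun hc => hC.nonabelian ⟨⟨fun a b => e.injective (by rw [map_mul, map_mul, hc.is_comm.comm])⟩⟩
  · intro W hW
    refine hC.absIrred.1 W ?_
    rintro _ ⟨g, hg, rfl⟩ _ ⟨v, hv, rfl⟩
    rw [Matrix.toLin'_apply]
    exact hW g hg v hv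
  · intro M hM
    refine hC.absIrred.2 M ?_
    rintro _ ⟨g, hg, rfl⟩
    exact hM g hg
  · intro F₀ h0 B hB
    refine hC.no_subfield F₀ h0 ⟨B⁻¹, ?_⟩
    rintro _ ⟨g, hg, rfl⟩ i j
    show ((B⁻¹ : G₄).val * g.val * ((B⁻¹)⁻¹ : G₄).val : Matrix _ _ F) i j ∈ F₀
    rw [inv_inv, ← Units.val_mul, ← Units.val_mul]
    exact hB g hg i j
  · exact fun h => hlt.ne (le_antisymm hlt.le (h.trans hC.le))

/-- A residual subgroup is a Suzuki group over the field. -/
theorem Res.classification {P : Subgroup G₄} (R : Res P) (h4 : 4 ≤ Fintype.card F) :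
    ∃ m : ℕ, 1 ≤ m ∧ Fintype.card F = 2 ^ (2 * m + 1) ∧ Nonempty (P ≃* ↥(Cfsg.Lie.Sz F (2 ^ (m + 1)))) := by
  haveI := R.simp'.simple
  have hna : ∃ a b : P, a * b ≠ b * a := by
    by_contra h
    push Not at h
    exact R.simp'.nonab ⟨⟨h⟩⟩
  have hcit : ∀ t : P, orderOf t = 2 → IsPGroup 2 (Subgroup.centralizer ({t} : Set P)) := fun t ht c =>
    ⟨2, Subtype.ext (Subtype.ext (R.cit t.2 ((Subgroup.orderOf_coe t).trans ht) c.1.2
      (congrArg Subtype.val (Subgroup.mem_centralizer_singleton_iff.1 c.2))))⟩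
  rcases S0348.result hna hcit with ⟨K, i1, i2, hK, ⟨e⟩⟩ | ⟨K, i1, i2, hK, ⟨e⟩⟩ | h
  · exfalso
    rcases hK with h9 | ⟨n, hn⟩ | ⟨hp, -⟩
    · exact R.not_psl_nine h4 h9 e
    · rcases n with _ | _ | n
      · have := Fintype.one_lt_card (α := K)
        omega
      · exact R.not_psl_prime (by rw [hn]; norm_num) e
      · haveI : CharP K 2 := by
          obtain ⟨q, hq⟩ := CharP.exists K
          obtain ⟨k, hqp, hk⟩ := FiniteField.card K q
          rw [hn] at hk
          have : q ∣ 2 ^ (n + 2) := hk ▸ dvd_pow_self q k.pos.ne'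
          have h2 := (Nat.prime_dvd_prime_iff_eq hqp Nat.prime_two).1 (hqp.dvd_of_dvd_pow this)
          rwa [h2] at hq
        refine R.not_sl_two (K := K) ?_
          ((MulEquiv.ofBijective (slToPSL 2 K) ⟨Residual.sl2_proj_injective, slToPSL_surjective⟩).trans e.symm)
        rw [Nat.card_eq_fintype_card, hn, pow_add]
        have := Nat.one_le_two_pow (n := n)
        omega
    · exact R.not_psl_prime hp e
  · exact (R.not_psl_three hK e).elim
  · exact R.suzuki h

end Cfsg.Agent.Classical.SpFourRes
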