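import Cfsg.Agent.Lib.Classical.SpFourRes.Line

/-!
Root groups of order two: the Sylow two-subgroup and the configuration on its line of centres.
-/

set_option autoImplicit false
set_option linter.unusedSectionVars false

namespace Cfsg.Agent.Classical.SpFourRes

open Matrix
open Cfsg.Agent.Classical.Residual (upp low upp_coe low_coe)

variable {F : Type*} [Field F] [CharP F 2] [Fintype F]

local notation "V₂" => (Fin 2 → F)
local notation "V₄" => (Fin 2 ⊕ Fin 2 → F)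
local notation "M₂" => Matrix (Fin 2) (Fin 2) F
local notation "M₄" => Matrix (Fin 2 ⊕ Fin 2) (Fin 2 ⊕ Fin 2) F
local notation "G₂" => GL (Fin 2) F
local notation "G₄" => GL (Fin 2 ⊕ Fin 2) F
local notation "SL₂" => Matrix.SpecialLinearGroup (Fin 2) F

theorem odd_tv_mul {u v : V₄} (h : sf u v ≠ 0) : Odd (orderOf (tv u * tv v)) := by
  have hu : u ≠ 0 := by rintro rfl; exact h (sf_zero_left v)
  obtain ⟨g, hg, h1, h3⟩ := exists_frame_pair (s := u) (v := (sf u v)⁻¹ • v)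
    (by rw [sf_smul_right, inv_mul_cancel₀ h])
  have hv' : act g (vec 0 0 (sf u v) 0) = v := by
    rw [show vec 0 0 (sf u v) 0 = sf u v • vec (0 : F) 0 1 0 from ext4 (by simp) (by simp) (by simp) (by simp),
      act_smul, h3, smul_inv_smul₀ h]
  have e : tv u * tv v = g * plane (upp (1 ^ 2 : F) * low ((sf u v) ^ 2)) * g⁻¹ := by
    rw [map_mul, plane_upp, plane_low]
    conv_lhs => rw [← h1]; arg 2; rw [← hv']
    rw [← tv_conj hg, ← tv_conj hg]
    simp [mul_assoc]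
  rw [e, show g * plane (upp (1 ^ 2 : F) * low ((sf u v) ^ 2)) * g⁻¹ =
    MulAut.conj g (plane (upp (1 ^ 2 : F) * low ((sf u v) ^ 2))) from rfl, MulEquiv.orderOf_eq,
    orderOf_injective plane plane_injective]
  refine Fus.SLRoot.odd_orderOf_of_trace_ne _ ?_
  rw [Matrix.SpecialLinearGroup.coe_mul, upp_coe, low_coe]
  simp [Matrix.mul_apply, Fin.sum_univ_two]
  exact h

/-- Transvections in a two-group have perpendicular centres. -/
theorem perp_of_two {Q : Subgroup G₄} (hQ : IsPGroup 2 Q) {u v : V₄} (hu : tv u ∈ Q) (hv : tv v ∈ Q)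
    (hv0 : v ≠ 0) : sf u v = 0 := by
  by_contra h
  obtain ⟨k, hk⟩ := hQ ⟨_, mul_mem hu hv⟩
  have h1 : (tv u * tv v) ^ 2 ^ k = 1 := by simpa using congrArg (fun z : Q => (z : G₄)) hk
  have h2 : orderOf (tv u * tv v) = 1 :=
    Nat.eq_one_of_dvd_coprimes ((Nat.coprime_two_left.2 (odd_tv_mul h)).pow_left k)
      (orderOf_dvd_of_pow_eq_one h1) dvd_rfl
  rw [orderOf_eq_one_iff, mul_eq_one_iff_eq_inv, tv_inv] at h2
  have hu0 : u ≠ 0 := by rintro rfl; exact h (sf_zero_left v)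
  exact h (by rw [tv_eq hu0 h2, sf_self])

/-- Two-subgroups of a subgroup have conjugates in a common two-subgroup. -/
theorem exists_common (C : Subgroup G₄) {R₁ R₂ : Subgroup G₄} (h₁ : R₁ ≤ C) (h₂ : R₂ ≤ C)
    (p₁ : IsPGroup 2 R₁) (p₂ : IsPGroup 2 R₂) :
    ∃ T₁ : Subgroup G₄, T₁ ≤ C ∧ IsPGroup 2 T₁ ∧ R₁ ≤ T₁ ∧ ∃ h ∈ C, ∀ x ∈ R₂, h * x * h⁻¹ ∈ T₁ := by
  haveI : Fact (Nat.Prime 2) := ⟨Nat.prime_two⟩
  have q₁ : IsPGroup 2 (R₁.subgroupOf C) := p₁.of_equiv (Subgroup.subgroupOfEquivOfLe h₁).symm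
  have q₂ : IsPGroup 2 (R₂.subgroupOf C) := p₂.of_equiv (Subgroup.subgroupOfEquivOfLe h₂).symm
  obtain ⟨S₁, hS₁⟩ := q₁.exists_le_sylow
  obtain ⟨S₂, hS₂⟩ := q₂.exists_le_sylow
  obtain ⟨g, hg⟩ := MulAction.exists_smul_eq C S₂ S₁
  refine ⟨(S₁ : Subgroup C).map C.subtype, Subgroup.map_subtype_le _, S₁.isPGroup'.map _,
    fun x hx => ⟨⟨x, h₁ hx⟩, hS₁ (show (⟨x, h₁ hx⟩ : C) ∈ R₁.subgroupOf C from hx), rfl⟩, g, g.2, fun x hx => ?_⟩
  have e : (⟨x, h₂ hx⟩ : C) ∈ (S₂ : Subgroup C) := hS₂ (show (⟨x, h₂ hx⟩ : C) ∈ R₂.subgroupOf C from hx)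
  have e2 : g * ⟨x, h₂ hx⟩ * g⁻¹ ∈ ((g • S₂ : Sylow 2 C) : Subgroup C) := by
    rw [Sylow.coe_subgroup_smul, Subgroup.mem_pointwise_smul_iff_inv_smul_mem]
    simpa [MulAut.smul_def, mul_assoc] using e
  rw [hg] at e2
  exact Subgroup.mem_map_of_mem C.subtype e2

/-- The standing hypotheses: two independent centres on the standard line inside a Sylow two-subgroup. -/
structure OnLine (P T : Subgroup (GL (Fin 2 ⊕ Fin 2) F)) : Prop where
  simp' : SimpleSp P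
  fix : ∀ x, (∀ g ∈ P, act g x = x) → x = 0
  small : ∀ (v : Fin 2 ⊕ Fin 2 → F) (l : F), IsCtr P v → IsCtr P (l • v) → l = 1
  syl : SylTwo P T
  pair : ∃ σ τ : Fin 2 → F, det2 σ τ ≠ 0 ∧ tv (lv σ) ∈ T ∧ tv (lv τ) ∈ T

/-- The centres on the line. -/
def ctrL (P : Subgroup (GL (Fin 2 ⊕ Fin 2) F)) : Set (Fin 2 → F) := {σ | IsCtr P (lv σ)}

/-- The functionals cut out by centres. -/
def funL (P : Subgroup (GL (Fin 2 ⊕ Fin 2) F)) : Set (Fin 2 → F) :=
  {p | ∃ w, IsCtr P w ∧ p = fun i => w (Sum.inr i)}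

theorem inL_of_perp {σ τ : V₂} (h : det2 σ τ ≠ 0) {x : V₄} (h1 : sf x (lv σ) = 0) (h2 : sf x (lv τ) = 0) :
    InL x := by
  rw [sf_lv] at h1 h2
  simp only [dot2] at h1 h2
  simp only [det2] at h
  have two := CharTwo.two_eq_zero (R := F)
  constructor <;> refine mul_left_cancel₀ h ?_ <;> rw [mul_zero]
  · linear_combination τ 1 * h1 - σ 1 * h2 + x (Sum.inr 0) * σ 1 * τ 0 * two
  · linear_combination σ 0 * h2 - τ 0 * h1 + x (Sum.inr 1) * σ 1 * τ 0 * two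

namespace OnLine

variable {P T : Subgroup (GL (Fin 2 ⊕ Fin 2) F)} (H : OnLine P T)

include H

theorem inL_of_mem {x : V₄} (hx : tv x ∈ T) : InL x := by
  obtain ⟨σ, τ, h, hσ, hτ⟩ := H.pair
  have h1 : lv σ ≠ 0 := lv_ne_zero (by rintro rfl; simp [det2] at h)
  have h2 : lv τ ≠ 0 := lv_ne_zero (by rintro rfl; simp [det2] at h)
  exact inL_of_perp h (perp_of_two H.syl.two hx hσ h1) (perp_of_two H.syl.two hx hτ h2)

theorem le_stabL : T ≤ stabL := by
  intro g hg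
  obtain ⟨σ, τ, h, hσ, hτ⟩ := H.pair
  have key : ∀ {s : V₂}, tv (lv s) ∈ T → InL (act g (lv s)) := fun hs =>
    H.inL_of_mem (tv_conj (H.simp'.le (H.syl.le hg)) _ ▸ mul_mem (mul_mem hg hs) (inv_mem hg))
  exact mem_stabL_of_inL h (key hσ) (key hτ)

/-- Elements of the group fixing the line pointwise lie in the Sylow subgroup. -/
theorem mem_of_fixL {g : G₄} (hg : g ∈ P) (h : ∀ s, act g (lv s) = lv s) : g ∈ T := by
  haveI : Fact (Nat.Prime 2) := ⟨Nat.prime_two⟩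
  set E : Subgroup G₄ :=
    { carrier := {x | x ∈ P ∧ ∀ s, act x (lv s) = lv s}
      one_mem' := ⟨one_mem P, fun s => act_one _⟩
      mul_mem' := fun {a b} ha hb => ⟨mul_mem ha.1 hb.1, fun s => by rw [act_mul, hb.2, ha.2]⟩
      inv_mem' := fun {a} ha => ⟨inv_mem ha.1, fun s => by
        conv_lhs => rw [← ha.2 s]
        exact act_inv_act a _⟩ } with hE
  have hE2 : IsPGroup 2 E := fun x => ⟨1, Subtype.ext (by
    show (x : G₄) ^ (2 ^ 1) = 1
    rw [pow_one, pow_two]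
    exact sq_eq_one_of_fixL (H.simp'.le x.2.1) x.2.2)⟩
  have hnorm : T ≤ Subgroup.normalizer (E : Set G₄) := fun t ht => by
    have conj : ∀ {t}, t ∈ T → ∀ x ∈ E, t * x * t⁻¹ ∈ E := fun {t} ht x hx =>
      ⟨mul_mem (mul_mem (H.syl.le ht) hx.1) (inv_mem (H.syl.le ht)), fun s => by
        rw [act_mul, act_mul, act_lv (inv_mem (H.le_stabL ht)), hx.2, ← act_lv (inv_mem (H.le_stabL ht)),
          act_act_inv]⟩
    rw [Subgroup.mem_normalizer_iff]
    refine fun x => ⟨conj ht x, fun hx => ?_⟩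
    have := conj (inv_mem ht) _ hx
    simpa [mul_assoc] using this
  have hR : IsPGroup 2 (T ⊔ E : Subgroup G₄) := IsPGroup.to_sup_of_normal_right' H.syl.two hE2 hnorm
  rw [← H.syl.max (T ⊔ E) (sup_le H.syl.le fun x hx => hx.1) hR le_sup_left]
  exact Subgroup.mem_sup_right ⟨hg, h⟩

theorem tv_mem {σ : V₂} (hσ : σ ∈ ctrL P) : tv (lv σ) ∈ T :=
  H.mem_of_fixL hσ.mem fun s => tv_fix (sf_lv_lv s σ)

theorem exists_mover {σ τ : V₂} (hσ : σ ∈ ctrL P) (hτ : τ ∈ ctrL P) :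
    ∃ n : stabL (F := F), (n : G₄) ∈ P ∧ ap (blockHom n) σ = τ := by
  obtain ⟨g, hg, hgσ⟩ := H.simp'.ctr_conj H.fix hσ hτ
  obtain ⟨α, β, hab, hα, hβ⟩ := H.pair
  have hαc : α ∈ ctrL P := ⟨lv_ne_zero (by rintro rfl; simp [det2] at hab), H.syl.le hα⟩
  have hβc : β ∈ ctrL P := ⟨lv_ne_zero (by rintro rfl; simp [det2] at hab), H.syl.le hβ⟩
  set C : Subgroup G₄ := P ⊓ Subgroup.centralizer {tv (lv τ)} with hC
  set R₁ : Subgroup G₄ := Subgroup.closure {x | ∃ π ∈ ctrL P, x = tv (lv π)} with hR₁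
  set R₂ : Subgroup G₄ := mv g R₁ with hR₂
  have hR₁T : R₁ ≤ T := by
    rw [hR₁, Subgroup.closure_le]
    rintro _ ⟨π, hπ, rfl⟩
    exact H.tv_mem hπ
  have hR₁P : R₁ ≤ P := hR₁T.trans H.syl.le
  have hcent : ∀ ρ : V₂, ∀ x ∈ R₁, tv (lv ρ) * x = x * tv (lv ρ) := by
    intro ρ x hx
    induction hx using Subgroup.closure_induction with
    | mem x hx =>
      obtain ⟨π, -, rfl⟩ := hx
      have := tv_conj (SpFourRes.tv_mem (lv ρ)) (lv π)
      rw [tv_fix (sf_lv_lv π ρ)] at this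
      exact mul_inv_eq_iff_eq_mul.1 this
    | one => simp
    | mul a b _ _ ha hb => rw [← mul_assoc, ha, mul_assoc, hb, mul_assoc]
    | inv a _ ha => exact ((show Commute (tv (lv ρ)) a from ha).inv_right).eq
  have h₁ : R₁ ≤ C := fun x hx => ⟨hR₁P hx, Subgroup.mem_centralizer_singleton_iff.2 (hcent τ x hx).symm⟩
  have h₂ : R₂ ≤ C := by
    rintro _ ⟨x, hx, rfl⟩
    refine ⟨P.mul_mem (P.mul_mem hg (hR₁P hx)) (P.inv_mem hg), Subgroup.mem_centralizer_singleton_iff.2 ?_⟩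
    rw [← hgσ, ← tv_conj (H.simp'.le hg)]
    show g * x * g⁻¹ * (g * tv (lv σ) * g⁻¹) = g * tv (lv σ) * g⁻¹ * (g * x * g⁻¹)
    calc g * x * g⁻¹ * (g * tv (lv σ) * g⁻¹) = g * (x * tv (lv σ)) * g⁻¹ := by group
      _ = g * (tv (lv σ) * x) * g⁻¹ := by rw [hcent σ x hx]
      _ = g * tv (lv σ) * g⁻¹ * (g * x * g⁻¹) := by group
  have p₁ : IsPGroup 2 R₁ := H.syl.two.to_le hR₁T
  obtain ⟨T₁, -, hT₁, hle, h, hh, hconj⟩ := exists_common C h₁ h₂ p₁ (p₁.map _)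
  have hhP : h ∈ P := hh.1
  have hfix : act h (lv τ) = lv τ := by
    refine (tv_eq (act_ne_zero h hτ.ne) ?_)
    rw [← tv_conj (H.simp'.le hhP), mul_inv_eq_iff_eq_mul]
    exact Subgroup.mem_centralizer_singleton_iff.1 hh.2
  have hn : h * g ∈ P := mul_mem hhP hg
  have himg : ∀ π ∈ ctrL P, InL (act (h * g) (lv π)) := fun π hπ => by
    have h1 : tv (act (h * g) (lv π)) ∈ T₁ := by
      rw [act_mul, ← tv_conj (H.simp'.le hhP), ← tv_conj (H.simp'.le hg)]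
      exact hconj _ (conj_mem_mv (Subgroup.subset_closure ⟨π, hπ, rfl⟩))
    exact inL_of_perp hab
      (perp_of_two hT₁ h1 (hle (Subgroup.subset_closure ⟨α, hαc, rfl⟩)) hαc.ne)
      (perp_of_two hT₁ h1 (hle (Subgroup.subset_closure ⟨β, hβc, rfl⟩)) hβc.ne)
  have hs : h * g ∈ stabL := mem_stabL_of_inL hab (himg α hαc) (himg β hβc)
  refine ⟨⟨h * g, hs⟩, hn, lv_injective ?_⟩
  rw [← act_lv_hom]
  show act (h * g) (lv σ) = lv τ
  rw [act_mul, hgσ, hfix]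

theorem transfer {a b c c₀ : F} (hc₀ : c₀ ≠ 0) (hq : ∀ σ ∈ ctrL P, quad2 a b c σ = c₀) : False := by
  have two := CharTwo.two_eq_zero (R := F)
  obtain ⟨α, β, hab, hα, hβ⟩ := H.pair
  have hαc : α ∈ ctrL P := ⟨lv_ne_zero (by rintro rfl; simp [det2] at hab), H.syl.le hα⟩
  have hβc : β ∈ ctrL P := ⟨lv_ne_zero (by rintro rfl; simp [det2] at hab), H.syl.le hβ⟩
  have himg : ∀ {g : G₄}, g ∈ P → ∀ hs : g ∈ stabL, ∀ σ ∈ ctrL P, blkA g *ᵥ σ ∈ ctrL P :=
    fun {g} hg hs σ hσ => by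
      show IsCtr P (lv _)
      rw [← act_lv hs]
      exact IsCtr.map H.simp'.le hσ hg
  have hdetA : ∀ g ∈ T, (blkA g).det = 1 := fun g hg => by
    obtain ⟨k, hk⟩ := H.syl.two ⟨g, hg⟩
    have h1 : (⟨g, H.le_stabL hg⟩ : stabL (F := F)) ^ 2 ^ k = 1 :=
      Subtype.ext (by simpa using congrArg (fun z : T => (z : G₄)) hk)
    have h2 := congrArg (fun z : stabL (F := F) => ((blockHom z : G₂) : M₂).det) h1
    simp only [map_pow, Units.val_pow_eq_pow_val, Matrix.det_pow, map_one, Units.val_one, Matrix.det_one, coe_blockHom] at h2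
    rw [show (1 : F) = 1 ^ 2 ^ k from (one_pow _).symm] at h2
    exact (iterateFrobenius_inj F 2 k) (by simp only [iterateFrobenius_def]; exact h2)
  have hinv : ∀ g ∈ T, ∀ s, quad2 a b c (blkA g *ᵥ s) = quad2 a b c s := fun g hg s => by
    have e := expand2 hab s
    generalize det2 s β / det2 α β = x at e
    generalize det2 α s / det2 α β = y at e
    rw [e, Matrix.mulVec_add, Matrix.mulVec_smul, Matrix.mulVec_smul, quad2_comb, quad2_comb,
      hq _ (himg (H.syl.le hg) (H.le_stabL hg) α hαc), hq _ (himg (H.syl.le hg) (H.le_stabL hg) β hβc),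
      hq α hαc, hq β hβc]
    have hd := det2_ap (blockHom (⟨g, H.le_stabL hg⟩ : stabL (F := F))) α β
    simp only [ap, coe_blockHom] at hd
    rw [hdetA g hg, one_mul] at hd
    rw [hd]
  refine H.simp'.no_additive H.syl (φ := fun g => a * symM g 0 0 + b * symM g 0 1 + c * symM g 1 1)
    (fun g hg h hh => ?_) (H.tv_mem hαc) (orderOf_tv hαc.ne) hc₀ (fun g hg hmem => ?_)
  · show a * symM (g * h) 0 0 + b * symM (g * h) 0 1 + c * symM (g * h) 1 1 = _
    rw [symM_mul (H.le_stabL hh) (H.simp'.le (H.syl.le hh))]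
    have hsym : symM h 1 0 = symM h 0 1 :=
      congrFun (congrFun (blk_symm (H.le_stabL hh) (H.simp'.le (H.syl.le hh))) 0) 1
    have e0 := hinv g hg ![1, 0]
    have e1 := hinv g hg ![0, 1]
    have ed := hdetA g hg
    rw [det_two] at ed
    simp [quad2, Matrix.mulVec, dotProduct, Fin.sum_univ_two] at e0 e1
    simp [Matrix.mul_apply, Fin.sum_univ_two, hsym]
    linear_combination symM h 0 0 * e0 + symM h 1 1 * e1 + b * symM h 0 1 * ed +
      (a * (blkA g 0 0 * blkA g 0 1 * symM h 0 1) + c * (blkA g 1 0 * blkA g 1 1 * symM h 0 1)) * two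
  · have hx : tv (act g (lv α)) ∈ T := by rwa [← tv_conj (H.simp'.le hg)]
    have hc : IsCtr P (act g (lv α)) := IsCtr.map H.simp'.le hαc hg
    have e := (H.inL_of_mem hx).eq
    show a * symM (g * tv (lv α) * g⁻¹) 0 0 + b * symM (g * tv (lv α) * g⁻¹) 0 1 +
      c * symM (g * tv (lv α) * g⁻¹) 1 1 = c₀
    rw [tv_conj (H.simp'.le hg), e]
    obtain ⟨m0, m1, m2⟩ := symM_tv (![act g (lv α) (.inl 0), act g (lv α) (.inl 1)] : V₂)
    rw [m0, m1, m2]
    exact hq _ (show IsCtr P _ by rw [← e]; exact hc)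

end OnLine

end Cfsg.Agent.Classical.SpFourRes
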