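import Cfsg.Agent.Lib.Classical.SpFourRes.Two
import Cfsg.Agent.S0205

/-!
Elementary algebra in two dimensions in characteristic two, and subgroups of odd order of `GL(2, 2^f)`.
-/

set_option autoImplicit false
set_option linter.unusedSectionVars false

namespace Cfsg.Agent.Classical.SpFourRes

open Matrix
open scoped commutatorElement

variable {F : Type*} [Field F]

local notation "V₂" => (Fin 2 → F)
local notation "M₂" => Matrix (Fin 2) (Fin 2) F
local notation "G₂" => GL (Fin 2) F

/-- The action on the plane. -/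
abbrev ap (g : GL (Fin 2) F) (s : Fin 2 → F) : Fin 2 → F := (g : Matrix (Fin 2) (Fin 2) F) *ᵥ s

/-- The standard pairing on the plane. -/
def dot2 (p s : Fin 2 → F) : F := p 0 * s 0 + p 1 * s 1

/-- The determinant of two vectors. -/
def det2 (v w : Fin 2 → F) : F := v 0 * w 1 + v 1 * w 0

/-- A binary quadratic form. -/
def quad2 (a b c : F) (s : Fin 2 → F) : F := a * s 0 ^ 2 + b * (s 0 * s 1) + c * s 1 ^ 2

theorem ap_apply (g : G₂) (s : V₂) (i : Fin 2) :
    ap g s i = (g : M₂) i 0 * s 0 + (g : M₂) i 1 * s 1 := by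
  simp [ap, Matrix.mulVec, dotProduct, Fin.sum_univ_two]

theorem ap_mul (g h : G₂) (s : V₂) : ap (g * h) s = ap g (ap h s) := by
  rw [ap, ap, ap, Units.val_mul, Matrix.mulVec_mulVec]

@[simp] theorem ap_one (s : V₂) : ap (1 : G₂) s = s := by rw [ap, Units.val_one, Matrix.one_mulVec]

theorem ap_smul (g : G₂) (c : F) (s : V₂) : ap g (c • s) = c • ap g s := Matrix.mulVec_smul _ _ _

theorem ap_add (g : G₂) (s t : V₂) : ap g (s + t) = ap g s + ap g t := Matrix.mulVec_add _ _ _

theorem ap_inv_ap (g : G₂) (s : V₂) : ap g⁻¹ (ap g s) = s := by rw [← ap_mul, inv_mul_cancel, ap_one]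

theorem ext2 {s t : V₂} (h0 : s 0 = t 0) (h1 : s 1 = t 1) : s = t := funext fun i => by fin_cases i <;> assumption

theorem gl_ext {g h : G₂} (h00 : (g : M₂) 0 0 = (h : M₂) 0 0) (h01 : (g : M₂) 0 1 = (h : M₂) 0 1)
    (h10 : (g : M₂) 1 0 = (h : M₂) 1 0) (h11 : (g : M₂) 1 1 = (h : M₂) 1 1) : g = h := by
  refine Units.ext (Matrix.ext fun i j => ?_)
  fin_cases i <;> fin_cases j <;> assumption

variable [CharP F 2]

theorem det_two (M : M₂) : M.det = M 0 0 * M 1 1 + M 0 1 * M 1 0 := by
  rw [det_fin_two, CharTwo.sub_eq_add]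

theorem det2_ap (g : G₂) (v w : V₂) : det2 (ap g v) (ap g w) = (g : M₂).det * det2 v w := by
  simp only [det2, ap_apply, det_two]
  linear_combination ((g : M₂) 0 0 * (g : M₂) 1 0 * v 0 * w 0 + (g : M₂) 0 1 * (g : M₂) 1 1 * v 1 * w 1) *
    CharTwo.two_eq_zero (R := F)

/-- Coordinates in a basis. -/
theorem expand2 {σ τ : V₂} (h : det2 σ τ ≠ 0) (s : V₂) :
    s = (det2 s τ / det2 σ τ) • σ + (det2 σ s / det2 σ τ) • τ := by
  have two := CharTwo.two_eq_zero (R := F)
  refine ext2 ?_ ?_
  · simp only [Pi.add_apply, Pi.smul_apply, smul_eq_mul]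
    field_simp
    simp only [det2]
    linear_combination (-(σ 0 * τ 0 * s 1)) * two
  · simp only [Pi.add_apply, Pi.smul_apply, smul_eq_mul]
    field_simp
    simp only [det2]
    linear_combination (-(τ 1 * σ 1 * s 0)) * two

/-- Vectors with zero determinant are proportional. -/
theorem proportional {σ τ : V₂} (hσ : σ ≠ 0) (h : det2 σ τ = 0) : ∃ c : F, τ = c • σ := by
  simp only [det2] at h
  rw [CharTwo.add_eq_zero] at h
  by_cases h0 : σ 0 = 0
  · have h1 : σ 1 ≠ 0 := fun e => hσ (ext2 (by simpa using h0) (by simpa using e))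
    refine ⟨τ 1 / σ 1, ext2 ?_ ?_⟩
    · have : τ 0 = 0 := by simpa [h0, h1] using h.symm
      simp [this, h0]
    · simp [h1]
  · refine ⟨τ 0 / σ 0, ext2 ?_ ?_⟩
    · simp [h0]
    · simp only [Pi.smul_apply, smul_eq_mul]
      field_simp
      linear_combination h

theorem quad2_comb (a b c x y : F) (σ τ : V₂) :
    quad2 a b c (x • σ + y • τ) = x ^ 2 * quad2 a b c σ + y ^ 2 * quad2 a b c τ + x * y * (b * det2 σ τ) := by
  simp only [quad2, det2, Pi.add_apply, Pi.smul_apply, smul_eq_mul]
  linear_combination (x * y * (a * σ 0 * τ 0 + c * σ 1 * τ 1)) * CharTwo.two_eq_zero (R := F)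

theorem ap_eq_self_of_two {g : G₂} {σ τ : V₂} (h : det2 σ τ ≠ 0) (hσ : ap g σ = σ) (hτ : ap g τ = τ) : g = 1 := by
  refine Units.ext (Matrix.ext_iff_mulVec.2 fun s => ?_)
  show ap g s = ap 1 s
  rw [ap_one, expand2 h s, ap_add, ap_smul, ap_smul, hσ, hτ]

/-- Elements commuting with a non-scalar matrix commute. -/
theorem commute_of_commute {h x y : M₂} (hns : ¬ (h 0 1 = 0 ∧ h 1 0 = 0 ∧ h 0 0 = h 1 1))
    (hx : x * h = h * x) (hy : y * h = h * y) : x * y = y * x := by
  have key : ∀ {z : M₂}, z * h = h * z → ∃ b : F, z 0 1 = b * h 0 1 ∧ z 1 0 = b * h 1 0 ∧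
      z 0 0 + z 1 1 = b * (h 0 0 + h 1 1) := by
    intro z hz
    have e00 := congrFun (congrFun hz 0) 0
    have e01 := congrFun (congrFun hz 0) 1
    have e10 := congrFun (congrFun hz 1) 0
    simp only [Matrix.mul_apply, Fin.sum_univ_two] at e00 e01 e10
    have two := CharTwo.two_eq_zero (R := F)
    by_cases h1 : h 0 1 = 0
    · by_cases h2 : h 1 0 = 0
      · have h3 : h 0 0 + h 1 1 ≠ 0 := fun e => hns ⟨h1, h2, CharTwo.add_eq_zero.1 e⟩
        refine ⟨(z 0 0 + z 1 1) / (h 0 0 + h 1 1), ?_, ?_, by field_simp⟩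
        · field_simp
          linear_combination e01 + (z 0 1 * h 0 0 - h 0 1 * z 0 0) * two
        · field_simp
          linear_combination e10 + (z 1 0 * h 1 1 - h 1 0 * z 1 1) * two
      · refine ⟨z 1 0 / h 1 0, ?_, by field_simp, ?_⟩
        · field_simp
          linear_combination e00
        · field_simp
          linear_combination -e10 + (z 1 1 * h 1 0 - z 1 0 * h 1 1) * two
    · refine ⟨z 0 1 / h 0 1, by field_simp, ?_, ?_⟩
      · field_simp
        linear_combination -e00
      · field_simp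
        linear_combination e01 + (z 1 1 * h 0 1 - z 0 1 * h 1 1) * two
  obtain ⟨a, a1, a2, a3⟩ := key hx
  obtain ⟨b, b1, b2, b3⟩ := key hy
  refine Matrix.ext fun i j => ?_
  have y11 : y 1 1 = y 0 0 + b * (h 0 0 + h 1 1) := CharTwo.add_eq_zero.1 (by
    rw [← b3]; linear_combination (y 0 0 + y 1 1) * CharTwo.two_eq_zero (R := F))
  have x11 : x 1 1 = x 0 0 + a * (h 0 0 + h 1 1) := CharTwo.add_eq_zero.1 (by
    rw [← a3]; linear_combination (x 0 0 + x 1 1) * CharTwo.two_eq_zero (R := F))
  fin_cases i <;> fin_cases j <;> simp only [Matrix.mul_apply, Fin.sum_univ_two] <;> simp <;>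
    simp only [a1, a2, b1, b2, x11, y11] <;> ring

/-- Subgroups of odd order of `GL(2, 2^f)` are abelian. -/
theorem odd_comm [Finite F] (O : Subgroup G₂) (hodd : Odd (Nat.card O)) : ∀ x ∈ O, ∀ y ∈ O, x * y = y * x := by
  by_contra hcon
  haveI : Group.IsSolvable O := S0205.result hodd
  obtain ⟨n, hn⟩ := Group.IsSolvable.solvable (G := O)
  classical
  have hex : ∃ n, derivedSeries O n = ⊥ := ⟨n, hn⟩
  obtain ⟨k, hk⟩ : ∃ k, Nat.find hex = k + 2 := by
    refine ⟨Nat.find hex - 2, ?_⟩
    have hspec := Nat.find_spec hex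
    have h2 : 2 ≤ Nat.find hex := by
      by_contra hlt
      have : derivedSeries O 1 = ⊥ := le_bot_iff.1 (by
        rw [← hspec]; exact derivedSeries_antitone O (by omega))
      rw [derivedSeries_one] at this
      refine hcon fun x hx y hy => ?_
      have h : ⁅(⟨x, hx⟩ : O), ⟨y, hy⟩⁆ ∈ commutator O :=
        Subgroup.commutator_mem_commutator (Subgroup.mem_top _) (Subgroup.mem_top _)
      rw [this, Subgroup.mem_bot, commutatorElement_eq_one_iff_mul_comm] at h
      exact congrArg Subtype.val h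
    omega
  set D := derivedSeries O (k + 1) with hD
  have hne : D ≠ ⊥ := Nat.find_min hex (by omega)
  have hDcomm : ∀ a ∈ D, ∀ b ∈ D, a * b = b * a := fun a ha b hb => by
    have h := Subgroup.commutator_mem_commutator ha hb
    rw [hD, ← derivedSeries_succ, show k + 1 + 1 = Nat.find hex from hk.symm, Nat.find_spec hex,
      Subgroup.mem_bot, commutatorElement_eq_one_iff_mul_comm] at h
    exact h
  have hdet : ∀ a ∈ D, ((a : G₂) : M₂).det = 1 := fun a ha => by
    have h1 : a ∈ derivedSeries O 1 := derivedSeries_antitone O (by omega) ha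
    rw [derivedSeries_one] at h1
    have h2 := Abelianization.commutator_subset_ker
      ((Matrix.GeneralLinearGroup.det).comp O.subtype) h1
    exact congrArg Units.val (MonoidHom.mem_ker.1 h2)
  obtain ⟨h, hh, hh1⟩ := (Subgroup.ne_bot_iff_exists_ne_one.1 hne) |> fun ⟨⟨a, ha⟩, e⟩ =>
    (⟨a, ha, fun e' => e (Subtype.ext e')⟩ : ∃ a, a ∈ D ∧ a ≠ 1)
  set H := ((h : G₂) : M₂) with hH
  have hd : H.det = 1 := hdet h hh
  have two := CharTwo.two_eq_zero (R := F)
  have ht : H 0 0 + H 1 1 ≠ 0 := fun e => by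
    have e' := CharTwo.add_eq_zero.1 e
    rw [det_two] at hd
    have hsq : h * h = 1 := Subtype.ext (gl_ext (by simp [Matrix.mul_apply, Fin.sum_univ_two, ← hH]; linear_combination hd + H 0 0 * e')
      (by simp [Matrix.mul_apply, Fin.sum_univ_two, ← hH]; linear_combination H 0 1 * e' + H 0 1 * H 1 1 * two)
      (by simp [Matrix.mul_apply, Fin.sum_univ_two, ← hH]; linear_combination H 1 0 * e' + H 1 0 * H 1 1 * two)
      (by simp [Matrix.mul_apply, Fin.sum_univ_two, ← hH]; linear_combination hd - H 1 1 * e'))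
    exact hh1 (orderOf_eq_one_iff.1 (Nat.eq_one_of_dvd_coprimes
      (Nat.Coprime.symm (Nat.coprime_two_left.2 (hodd.of_dvd_nat (orderOf_dvd_natCard h))))
      dvd_rfl (orderOf_dvd_of_pow_eq_one (by rw [pow_two, hsq]))))
  have hns : ¬ (H 0 1 = 0 ∧ H 1 0 = 0 ∧ H 0 0 = H 1 1) := fun e => ht (CharTwo.add_eq_zero.2 e.2.2)
  have hcent : ∀ g : O, g * h = h * g := fun g => by
    have hg : g * h * g⁻¹ ∈ D := (derivedSeries_normal O (k + 1)).conj_mem h hh g
    have hsq : g * g * h = h * (g * g) := by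
      set c := g * h * g⁻¹ with hc
      have hcc : c = h ∨ c = h⁻¹ := by
        set C := ((c : G₂) : M₂) with hC
        have hcm : C * H = H * C := congrArg (fun z : O => ((z : G₂) : M₂)) (hDcomm c hg h hh)
        have hCd : C.det = 1 := hdet c hg
        have htr : C 0 0 + C 1 1 = H 0 0 + H 1 1 := by
          have := Matrix.trace_units_conj (g : G₂) H
          rw [trace_fin_two, trace_fin_two] at this
          rw [← this, hC, hc, hH]
          simp
        rw [det_two] at hd hCd
        have e00 := congrFun (congrFun hcm 0) 0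
        have e01 := congrFun (congrFun hcm 0) 1
        have e10 := congrFun (congrFun hcm 1) 0
        simp only [Matrix.mul_apply, Fin.sum_univ_two] at e00 e01 e10
        have k01 : C 0 1 = H 0 1 := mul_right_cancel₀ ht (by
          linear_combination e01 + H 0 1 * htr +
            (H 0 0 * C 0 1 - C 0 0 * H 0 1) * two)
        have k10 : C 1 0 = H 1 0 := mul_right_cancel₀ ht (by
          linear_combination e10 + H 1 0 * htr + (C 1 0 * H 1 1 - H 1 0 * C 1 1) * two)
        have hprod : (C 0 0 + H 0 0) * (C 0 0 + H 1 1) = 0 := by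
          rw [k01, k10] at hCd
          linear_combination hCd - hd - C 0 0 * htr + (C 0 0 * C 0 0 + H 0 0 * H 1 1) * two
        rcases mul_eq_zero.1 hprod with e | e <;> rw [CharTwo.add_eq_zero] at e
        · exact Or.inl (Subtype.ext (gl_ext e k01 k10 (by linear_combination htr - e)))
        · refine Or.inr (eq_inv_of_mul_eq_one_left (Subtype.ext (gl_ext ?_ ?_ ?_ ?_))) <;>
            simp [Matrix.mul_apply, Fin.sum_univ_two, ← hC, ← hH, e, k01, k10,
              show C 1 1 = H 0 0 by linear_combination htr - e]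
          · linear_combination hd
          · linear_combination H 0 1 * H 1 1 * two
          · linear_combination H 0 0 * H 1 0 * two
          · linear_combination hd
      rw [← mul_inv_eq_iff_eq_mul]
      rcases hcc with e | e
      · calc g * g * h * (g * g)⁻¹ = g * (g * h * g⁻¹) * g⁻¹ := by group
          _ = h := by rw [← hc, e, ← hc, e]
      · calc g * g * h * (g * g)⁻¹ = g * (g * h * g⁻¹) * g⁻¹ := by group
          _ = g * h⁻¹ * g⁻¹ := by rw [← hc, e]
          _ = (g * h * g⁻¹)⁻¹ := by group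
          _ = h := by rw [← hc, e, inv_inv]
    obtain ⟨m, hm⟩ := hodd.of_dvd_nat (orderOf_dvd_natCard g)
    have hg2 : g = (g * g) ^ (m + 1) := by
      rw [← pow_two, ← pow_mul, show 2 * (m + 1) = orderOf g + 1 by omega, pow_succ, pow_orderOf_eq_one, one_mul]
    rw [hg2]
    exact (Commute.pow_left hsq (m + 1)).eq
  refine hcon fun x hx y hy => ?_
  exact Units.ext (commute_of_commute hns (congrArg (fun z : O => ((z : G₂) : M₂)) (hcent ⟨x, hx⟩))
    (congrArg (fun z : O => ((z : G₂) : M₂)) (hcent ⟨y, hy⟩)))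

end Cfsg.Agent.Classical.SpFourRes
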