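import Cfsg.Agent.Lib.Classical.SpFourRes.LTwo
import Cfsg.Agent.Lib.Classical.MatrixOrders
import Cfsg.Agent.Lib.Grp.TwoSymFour.Known
import Cfsg.Agent.S0251
import Cfsg.Agent.S0252
import Cfsg.Agent.S0253

/-!
Elements of prime order in a residual subgroup: `PSL(2, p)` and `PSL(3, 4)` do not occur.
-/

set_option autoImplicit false
set_option linter.unusedSectionVars false

namespace Cfsg.Agent.Classical.SpFourRes

open Matrix Polynomial

variable {F : Type*} [Field F]

local notation "M₄" => Matrix (Fin 2 ⊕ Fin 2) (Fin 2 ⊕ Fin 2) F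
local notation "G₄" => GL (Fin 2 ⊕ Fin 2) F

/-- In `Sp` an element and its inverse have the same characteristic polynomial. -/
theorem charpoly_inv {g : G₄} (hg : g ∈ spGL 2 F) : ((g⁻¹ : G₄) : M₄).charpoly = (g : M₄).charpoly := by
  have hM : (g : M₄) ∈ Matrix.symplecticGroup (Fin 2) F := mem_symplecticGroup_iff_form.2 hg
  set A : Matrix.symplecticGroup (Fin 2) F := ⟨(g : M₄), hM⟩
  have h1 : ((A⁻¹ : Matrix.symplecticGroup (Fin 2) F) : M₄) = ((g⁻¹ : G₄) : M₄) := by
    have h : ((A⁻¹ : Matrix.symplecticGroup (Fin 2) F) : M₄) * (g : M₄) = 1 := congrArg Subtype.val (inv_mul_cancel A)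
    calc ((A⁻¹ : Matrix.symplecticGroup (Fin 2) F) : M₄)
        = ((A⁻¹ : Matrix.symplecticGroup (Fin 2) F) : M₄) * ((g : M₄) * ((g⁻¹ : G₄) : M₄)) := by
          rw [← Units.val_mul, mul_inv_cancel, Units.val_one, mul_one]
      _ = _ := by rw [← mul_assoc, h, one_mul]
  rw [← h1, SymplecticGroup.coe_inv]
  have hJ := Matrix.J_squared (Fin 2) F
  set J := Matrix.J (Fin 2) F with hJdef
  have hJu : J * (-J) = 1 ∧ (-J) * J = 1 := by rw [mul_neg, neg_mul, hJ, neg_neg]; exact ⟨rfl, rfl⟩
  let u : M₄ˣ := ⟨-J, J, hJu.2, hJu.1⟩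
  have e : -J * (A : M₄)ᵀ * J = (u : M₄) * (g : M₄)ᵀ * ((u⁻¹ : M₄ˣ) : M₄) := rfl
  rw [e, Matrix.coe_units_inv, Matrix.charpoly_units_conj, Matrix.charpoly_transpose]

/-- Five powers of an element of prime order cannot have its characteristic polynomial. -/
theorem not_five [CharP F 2] {g : G₄} {p : ℕ} (hp : p.Prime) (hp2 : p ≠ 2) (hg : g ^ p = 1) (hg1 : g ≠ 1) (A : Finset ℕ)
    (hA : 5 ≤ A.card) (hinj : ∀ a ∈ A, ∀ b ∈ A, a % p = b % p → a = b)
    (hchar : ∀ a ∈ A, ((g ^ a : G₄) : M₄).charpoly = (g : M₄).charpoly) : False := by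
  classical
  let L := AlgebraicClosure F
  let φ : F →+* L := algebraMap F L
  set M : Matrix (Fin 2 ⊕ Fin 2) (Fin 2 ⊕ Fin 2) L := (g : M₄).map φ with hM
  have hMpow : ∀ k : ℕ, M ^ k = ((g ^ k : G₄) : M₄).map φ := fun k => by
    rw [Units.val_pow_eq_pow_val, hM]
    exact (map_pow φ.mapMatrix (g : M₄) k).symm
  have hMp : M ^ p = 1 := by rw [hMpow, hg, Units.val_one]; exact Matrix.map_one _ (map_zero φ) (map_one φ)
  have hdeg : M.charpoly.natDegree = 4 := by rw [Matrix.charpoly_natDegree_eq_dim]; rfl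
  have hne : M.charpoly ≠ 0 := fun e => by rw [e] at hdeg; simp at hdeg
  -- an eigenvalue different from one
  obtain ⟨l, hl, hl1⟩ : ∃ l : L, M.charpoly.IsRoot l ∧ l ≠ 1 := by
    by_contra hcon
    push Not at hcon
    haveI : CharP L 2 := charP_of_injective_algebraMap φ.injective 2
    have hroots : M.charpoly.roots = Multiset.replicate 4 1 := by
      refine Multiset.eq_replicate.2 ⟨?_, fun x hx => hcon x (isRoot_of_mem_roots hx)⟩
      rw [← hdeg]
      exact ((splits_iff_card_roots).1 (IsAlgClosed.splits _))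
    have hprod := (IsAlgClosed.splits M.charpoly).eq_prod_roots_of_monic (Matrix.charpoly_monic M)
    rw [hroots, Multiset.map_replicate, Multiset.prod_replicate] at hprod
    have h := Matrix.aeval_self_charpoly M
    rw [hprod, map_pow, map_sub, aeval_X, map_one, map_one] at h
    have hc : Commute M 1 := Commute.one_right M
    have h4 : M ^ 4 = 1 := by
      have h' : (M - 1) ^ 4 = M ^ 4 - 1 := by
        haveI : Fact (Nat.Prime 2) := ⟨Nat.prime_two⟩
        rw [show (4 : ℕ) = 2 ^ 2 from rfl, sub_pow_char_pow_of_commute 2 2 hc, one_pow]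
      rw [h', sub_eq_zero] at h
      exact h
    have hg4 : g ^ 4 = 1 := by
      refine Units.ext ?_
      rw [hMpow 4] at h4
      refine Matrix.ext fun i j => φ.injective ?_
      have := congrFun (congrFun h4 i) j
      rw [Units.val_one]
      simpa [Matrix.map_apply, Matrix.one_apply, apply_ite φ] using this
    have hco : Nat.Coprime (2 ^ 2) p := ((Nat.coprime_primes Nat.prime_two hp).2 hp2.symm).pow_left 2
    exact hg1 (orderOf_eq_one_iff.1 (Nat.eq_one_of_dvd_coprimes hco (orderOf_dvd_of_pow_eq_one hg4)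
      (orderOf_dvd_of_pow_eq_one hg)))
  rw [IsRoot.def, Matrix.eval_charpoly] at hl
  obtain ⟨v, hv0, hv⟩ := Matrix.exists_mulVec_eq_zero_iff.2 hl
  have hev : M *ᵥ v = l • v := by
    rw [Matrix.sub_mulVec, sub_eq_zero] at hv
    rw [← hv]
    funext i; simp [Matrix.mulVec_diagonal]
  have hevk : ∀ k : ℕ, (M ^ k) *ᵥ v = l ^ k • v := fun k => by
    induction k with
    | zero => simp
    | succ k ih => rw [pow_succ, ← Matrix.mulVec_mulVec, hev, Matrix.mulVec_smul, ih, smul_smul, ← pow_succ']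
  have hlp : l ^ p = 1 := by
    have h := hevk p
    rw [hMp, Matrix.one_mulVec] at h
    obtain ⟨i, hi⟩ := Function.ne_iff.1 hv0
    exact (mul_eq_right₀ hi).1 (congrFun h i).symm
  have hord : orderOf l = p := by
    haveI := Fact.mk hp
    exact orderOf_eq_prime hlp hl1
  have hl0 : IsUnit l := IsUnit.of_pow_eq_one hlp hp.ne_zero
  have hsub : A.image (fun a => l ^ a) ⊆ M.charpoly.roots.toFinset := fun x hx => by
    obtain ⟨a, ha, rfl⟩ := Finset.mem_image.1 hx
    rw [Multiset.mem_toFinset, mem_roots hne]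
    have hchM : (M ^ a).charpoly = M.charpoly := by
      rw [hMpow, hM, Matrix.charpoly_map, Matrix.charpoly_map, hchar a ha]
    rw [← hchM, IsRoot.def, Matrix.eval_charpoly]
    refine Matrix.exists_mulVec_eq_zero_iff.1 ⟨v, hv0, ?_⟩
    rw [Matrix.sub_mulVec, hevk]
    funext i; simp [Matrix.mulVec_diagonal]
  have h5 := Finset.card_le_card hsub
  rw [Finset.card_image_of_injOn fun a ha b hb e => hinj a ha b hb ?_] at h5
  · have := (Multiset.toFinset_card_le M.charpoly.roots).trans (card_roots' _)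
    omega
  · have := (pow_inj_mod (x := hl0.unit)).1 (Units.ext (by simpa using e))
    rwa [show orderOf hl0.unit = p by rw [← orderOf_units, IsUnit.unit_spec, hord]] at this

variable [CharP F 2] [Fintype F]

theorem charpoly_conj {g h : G₄} : ((h * g * h⁻¹ : G₄) : M₄).charpoly = (g : M₄).charpoly := by
  rw [Units.val_mul, Units.val_mul, Matrix.coe_units_inv]
  exact Matrix.charpoly_units_conj h (g : M₄)

/-- An element of prime order at least seven conjugate to the squares of its powers does not occur. -/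
theorem not_square_classes {P : Subgroup G₄} (hP : P ≤ spGL 2 F) {p : ℕ} (hp : p.Prime) (h7 : 7 ≤ p) {g : G₄}
    (hg : g ∈ P) (hgp : g ^ p = 1) (hg1 : g ≠ 1)
    (hconj : ∀ a : ℕ, ¬ p ∣ a → ((g ^ (a ^ 2) : G₄) : M₄).charpoly = (g : M₄).charpoly) : False := by
  have hp2 : p ≠ 2 := by omega
  by_cases h11 : 11 ≤ p
  · refine not_five hp hp2 hgp hg1 {1, 4, 9, 16, 25} (by decide) ?_ ?_
    · intro a ha b hb e
      simp only [Finset.mem_insert, Finset.mem_singleton] at ha hb
      have key : ∀ a b : ℕ, a ≤ b → b ≤ 5 → 1 ≤ a → a ^ 2 % p = b ^ 2 % p → a = b := by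
        intro a b hab hb5 ha1 e
        by_contra hne
        have h1 : p ∣ b ^ 2 - a ^ 2 :=
          (Nat.modEq_iff_dvd' (Nat.pow_le_pow_left hab 2)).1 e
        rw [Nat.sq_sub_sq] at h1
        rcases hp.dvd_mul.1 h1 with h | h
        · have := Nat.le_of_dvd (by omega) h; omega
        · have := Nat.le_of_dvd (by omega) h; omega
      obtain ⟨i, rfl, hi1, hi5⟩ : ∃ i, a = i ^ 2 ∧ 1 ≤ i ∧ i ≤ 5 := by
        rcases ha with rfl | rfl | rfl | rfl | rfl
        exacts [⟨1, rfl, by omega⟩, ⟨2, rfl, by omega⟩, ⟨3, rfl, by omega⟩, ⟨4, rfl, by omega⟩, ⟨5, rfl, by omega⟩]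
      obtain ⟨j, rfl, hj1, hj5⟩ : ∃ i, b = i ^ 2 ∧ 1 ≤ i ∧ i ≤ 5 := by
        rcases hb with rfl | rfl | rfl | rfl | rfl
        exacts [⟨1, rfl, by omega⟩, ⟨2, rfl, by omega⟩, ⟨3, rfl, by omega⟩, ⟨4, rfl, by omega⟩, ⟨5, rfl, by omega⟩]
      rcases le_total i j with h | h
      · rw [key i j h hj5 hi1 e]
      · rw [key j i h hi5 hj1 e.symm]
    · intro a ha
      simp only [Finset.mem_insert, Finset.mem_singleton] at ha
      have hd : ∀ i, 1 ≤ i → i ≤ 5 → ¬ p ∣ i := fun i h1 h5 h => by have := Nat.le_of_dvd (by omega) h; omega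
      rcases ha with rfl | rfl | rfl | rfl | rfl
      · exact hconj 1 (hd 1 le_rfl (by omega))
      · exact hconj 2 (hd 2 (by omega) (by omega))
      · exact hconj 3 (hd 3 (by omega) (by omega))
      · exact hconj 4 (hd 4 (by omega) (by omega))
      · exact hconj 5 (hd 5 (by omega) (by omega))
  · have h7' : p = 7 := by
      rcases (show p = 7 ∨ p = 8 ∨ p = 9 ∨ p = 10 by omega) with h | h | h | h
      · exact h
      all_goals rw [h] at hp; norm_num at hp
    subst h7'
    refine not_five hp hp2 hgp hg1 {1, 4, 2, 6, 3} (by decide) (by decide) ?_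
    have h4 := hconj 2 (by omega)
    have h2 := hconj 3 (by omega)
    have e9 : g ^ (3 ^ 2) = g ^ 2 := by
      rw [show (3 : ℕ) ^ 2 = 7 + 2 from rfl, pow_add, hgp, one_mul]
    rw [e9] at h2
    have e6 : g ^ 6 = g⁻¹ := eq_inv_of_mul_eq_one_left (by rw [← pow_succ]; exact hgp)
    have e3 : g ^ 3 = (g ^ 4)⁻¹ := eq_inv_of_mul_eq_one_left (by rw [← pow_add]; exact hgp)
    intro a ha
    simp only [Finset.mem_insert, Finset.mem_singleton] at ha
    rcases ha with rfl | rfl | rfl | rfl | rfl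
    · rw [pow_one]
    · exact h4
    · exact h2
    · rw [e6]; exact charpoly_inv (hP hg)
    · rw [e3, charpoly_inv (hP (pow_mem hg 4))]; exact h4

/-- `PSL(2, p)` does not occur. -/
theorem Res.not_psl_prime {P : Subgroup G₄} (R : Res P) {K : Type*} [Field K] [Fintype K]
    (hK : (Fintype.card K).Prime) (e : P ≃* Matrix.ProjectiveSpecialLinearGroup (Fin 2) K) : False := by
  set p := Fintype.card K with hpdef
  by_cases h7 : 7 ≤ p
  · haveI := Fact.mk hK
    haveI : CharP K p := by
      obtain ⟨q, hq⟩ := CharP.exists K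
      obtain ⟨n, hqp, hn⟩ := FiniteField.card K q
      rw [← hpdef] at hn
      have hn1 : (n : ℕ) = 1 := (Nat.Prime.pow_eq_iff hK).1 hn.symm |>.2
      rw [hn1, pow_one] at hn
      rwa [hn]
    set f : Matrix.SpecialLinearGroup (Fin 2) K →* G₄ :=
      P.subtype.comp (e.symm.toMonoidHom.comp (slToPSL 2 K)) with hf
    let U : K → Matrix.SpecialLinearGroup (Fin 2) K := fun b => ⟨!![1, b; 0, 1], by simp [det_fin_two]⟩
    have hUpow : ∀ n : ℕ, U 1 ^ n = U (n : K) := fun n => by
      induction n with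
      | zero =>
        refine Subtype.ext ?_
        simp [U]
        exact Matrix.one_fin_two
      | succ n ih =>
        rw [pow_succ, ih]
        refine Subtype.ext ?_
        rw [Matrix.SpecialLinearGroup.coe_mul]
        show (!![1, (n : K); 0, 1] : Matrix (Fin 2) (Fin 2) K) * !![1, 1; 0, 1] = !![1, ((n + 1 : ℕ) : K); 0, 1]
        rw [Nat.cast_succ]
        ext i j
        fin_cases i <;> fin_cases j <;> simp [Matrix.mul_apply, Fin.sum_univ_two, add_comm]
    have hU0 : U 0 = 1 := Subtype.ext (by simp [U]; exact Matrix.one_fin_two.symm)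
    set g := f (U 1) with hg
    have hgP : g ∈ P := (e.symm (slToPSL 2 K (U 1))).2
    have hgp : g ^ p = 1 := by
      rw [hg, ← map_pow, hUpow, show ((p : ℕ) : K) = 0 from CharP.cast_eq_zero K p, hU0, map_one]
    have hg1 : g ≠ 1 := fun h => by
      have h1 : e.symm (slToPSL 2 K (U 1)) = 1 := Subtype.ext h
      rw [map_eq_one_iff _ e.symm.injective, slToPSL_eq_one_iff] at h1
      obtain ⟨c, hc⟩ := h1
      have := congrFun (congrFun hc 0) 1
      simp [U] at this
    refine not_square_classes R.simp'.le hK h7 hgP hgp hg1 fun a ha => ?_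
    have ha0 : (a : K) ≠ 0 := fun h => ha ((CharP.cast_eq_zero_iff K p a).1 h)
    let D : Matrix.SpecialLinearGroup (Fin 2) K := ⟨!![(a : K), 0; 0, (a : K)⁻¹], by simp [det_fin_two, ha0]⟩
    have hDU : D * U 1 = U ((a : K) ^ 2) * D := by
      refine Subtype.ext ?_
      rw [Matrix.SpecialLinearGroup.coe_mul, Matrix.SpecialLinearGroup.coe_mul]
      show (!![(a : K), 0; 0, (a : K)⁻¹] : Matrix (Fin 2) (Fin 2) K) * !![1, 1; 0, 1] =
        !![1, (a : K) ^ 2; 0, 1] * !![(a : K), 0; 0, (a : K)⁻¹]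
      ext i j
      fin_cases i <;> fin_cases j <;> simp [Matrix.mul_apply, Fin.sum_univ_two] <;> field_simp
    have : g ^ (a ^ 2) = f D * g * (f D)⁻¹ := by
      rw [hg, ← map_pow, hUpow, Nat.cast_pow, eq_mul_inv_iff_mul_eq, ← map_mul, ← map_mul, hDU]
    rw [this, charpoly_conj]
  · have h2 := hK.two_le
    haveI := R.simp'.simple
    rcases (show p = 2 ∨ p = 3 ∨ p = 5 by
        rcases (show p = 2 ∨ p = 3 ∨ p = 4 ∨ p = 5 ∨ p = 6 by omega) with h | h | h | h | h <;>
          first | omega | (rw [h] at hK; norm_num at hK)) with h | h | h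
    · haveI : CharP K 2 := charP_of_card_eq_prime (p := 2) (by rw [← hpdef, h])
      have h6 : Nat.card P = 2 * 3 := by
        rw [Nat.card_congr e.toEquiv, ← Nat.card_congr ((MulEquiv.ofBijective (slToPSL 2 K)
          ⟨Residual.sl2_proj_injective, slToPSL_surjective⟩).toEquiv), Fus.PSLTwo.natCard_SL_two, ← hpdef, h]
      haveI : Fact (Nat.Prime 3) := ⟨Nat.prime_three⟩
      obtain ⟨S⟩ : Nonempty (Sylow 3 P) := inferInstance
      have hS : Nat.card S = 3 := by
        rw [S.card_eq_multiplicity, h6, Nat.factorization_mul two_ne_zero three_ne_zero]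
        simp [Nat.prime_two.factorization, Nat.prime_three.factorization]
      have hi : (S : Subgroup P).index = 2 := by
        have := (S : Subgroup P).card_mul_index
        rw [show Nat.card (S : Subgroup P) = 3 from hS, h6] at this
        omega
      haveI := Subgroup.normal_of_index_eq_two hi
      rcases R.simp'.normal_cases (S : Subgroup P) with h' | h'
      · rw [show Nat.card S = Nat.card (S : Subgroup P) from rfl, h', Subgroup.card_bot] at hS
        omega
      · rw [h', Subgroup.index_top] at hi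
        omega
    · obtain ⟨e2⟩ := S0251.result (F := K) h
      haveI := Grp.TwoSymFour.isSolvable_perm_four
      exact R.simp'.not_solvable (Group.isSolvable_of_isSolvable_injective (f := (alternatingGroup (Fin 4)).subtype.comp
        (e.trans e2).toMonoidHom) ((alternatingGroup (Fin 4)).subtype_injective.comp (e.trans e2).injective))
    · obtain ⟨e5⟩ := S0253.result (F := K) h
      haveI : Fact (Nat.Prime 2) := ⟨Nat.prime_two⟩
      haveI : Fintype (GaloisField 2 2) := Fintype.ofFinite _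
      have h4 : Nat.card (GaloisField 2 2) = 4 := GaloisField.card 2 2 (by norm_num)
      obtain ⟨e4⟩ := S0252.result (F := GaloisField 2 2) (by rw [← Nat.card_eq_fintype_card]; exact h4)
      exact R.not_sl_two (K := GaloisField 2 2) h4.ge
        (((MulEquiv.ofBijective (slToPSL 2 (GaloisField 2 2))
          ⟨Residual.sl2_proj_injective, slToPSL_surjective⟩).trans e4).trans (e.trans e5).symm)

/-- `PSL(3, 4)` does not occur. -/
theorem Res.not_psl_three {P : Subgroup G₄} (R : Res P) {K : Type*} [Field K] [Fintype K]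
    (hK : Fintype.card K = 4) (e : P ≃* Matrix.ProjectiveSpecialLinearGroup (Fin 3) K) : False := by
  haveI : CharP K 2 := by
    obtain ⟨q, hq⟩ := CharP.exists K
    obtain ⟨n, hqp, hn⟩ := FiniteField.card K q
    rw [hK] at hn
    have : q ∣ 2 ^ 2 := by rw [show (2 : ℕ) ^ 2 = 4 from rfl, hn]; exact dvd_pow_self q n.pos.ne'
    have h2 := (Nat.prime_dvd_prime_iff_eq hqp Nat.prime_two).1 (hqp.dvd_of_dvd_pow this)
    rwa [h2] at hq
  set f : Matrix.SpecialLinearGroup (Fin 3) K →* G₄ :=
    P.subtype.comp (e.symm.toMonoidHom.comp (slToPSL 3 K)) with hf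
  have two := CharTwo.two_eq_zero (R := K)
  let C : Matrix.SpecialLinearGroup (Fin 3) K := ⟨!![0, 0, 1; 1, 0, 1; 0, 1, 0], by simp [det_fin_three]⟩
  let T : Matrix.SpecialLinearGroup (Fin 3) K := ⟨!![1, 0, 0; 0, 0, 1; 0, 1, 1], by
    simp [det_fin_three]; exact CharTwo.neg_eq 1⟩
  have hT : T * C = (C * C) * T := by
    refine Subtype.ext ?_
    rw [Matrix.SpecialLinearGroup.coe_mul, Matrix.SpecialLinearGroup.coe_mul, Matrix.SpecialLinearGroup.coe_mul]
    show (!![1, 0, 0; 0, 0, 1; 0, 1, 1] : Matrix (Fin 3) (Fin 3) K) * !![0, 0, 1; 1, 0, 1; 0, 1, 0] =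
      !![0, 0, 1; 1, 0, 1; 0, 1, 0] * !![0, 0, 1; 1, 0, 1; 0, 1, 0] * !![1, 0, 0; 0, 0, 1; 0, 1, 1]
    ext i j
    fin_cases i <;> fin_cases j <;> simp [Matrix.mul_apply, Fin.sum_univ_three] <;>
      first | linear_combination two | linear_combination -two
  have hC2 : ((C * C : Matrix.SpecialLinearGroup (Fin 3) K) : Matrix (Fin 3) (Fin 3) K) = !![0, 1, 0; 0, 1, 1; 1, 0, 1] := by
    rw [Matrix.SpecialLinearGroup.coe_mul]
    show (!![0, 0, 1; 1, 0, 1; 0, 1, 0] : Matrix (Fin 3) (Fin 3) K) * !![0, 0, 1; 1, 0, 1; 0, 1, 0] = _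
    ext i j
    fin_cases i <;> fin_cases j <;> simp [Matrix.mul_apply, Fin.sum_univ_three]
  have hC7 : C ^ 7 = 1 := by
    have : C ^ 7 = (C * C) * (C * C) * (C * C) * C := by simp only [pow_succ, pow_zero, one_mul, mul_assoc]
    rw [this]
    refine Subtype.ext ?_
    rw [Matrix.SpecialLinearGroup.coe_mul _ C, Matrix.SpecialLinearGroup.coe_mul (C * C * (C * C)) (C * C),
      Matrix.SpecialLinearGroup.coe_mul (C * C) (C * C), hC2, Matrix.SpecialLinearGroup.coe_one]
    show (!![0, 1, 0; 0, 1, 1; 1, 0, 1] : Matrix (Fin 3) (Fin 3) K) * !![0, 1, 0; 0, 1, 1; 1, 0, 1] *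
      !![0, 1, 0; 0, 1, 1; 1, 0, 1] * !![0, 0, 1; 1, 0, 1; 0, 1, 0] = 1
    ext i j
    fin_cases i <;> fin_cases j <;> simp [Matrix.mul_apply, Fin.sum_univ_three] <;>
      first
      | linear_combination two
      | linear_combination 2 * two
      | linear_combination (0 : K) * two
  set g := f C with hg
  have hgP : g ∈ P := (e.symm (slToPSL 3 K C)).2
  have hg7 : g ^ 7 = 1 := by rw [hg, ← map_pow, hC7, map_one]
  have hg1 : g ≠ 1 := fun h => by
    have h1 : e.symm (slToPSL 3 K C) = 1 := Subtype.ext h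
    rw [map_eq_one_iff _ e.symm.injective, slToPSL_eq_one_iff] at h1
    obtain ⟨c, hc⟩ := h1
    have := congrFun (congrFun hc 1) 0
    simp [C] at this
  have h2 : ((g ^ 2 : G₄) : M₄).charpoly = (g : M₄).charpoly := by
    have : g ^ 2 = f T * g * (f T)⁻¹ := by
      rw [eq_mul_inv_iff_mul_eq, pow_two, hg, ← map_mul, ← map_mul, ← map_mul, hT]
    rw [this, charpoly_conj]
  have h4 : ((g ^ 4 : G₄) : M₄).charpoly = (g : M₄).charpoly := by
    have : g ^ 4 = (f T * f T) * g * (f T * f T)⁻¹ := by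
      have hc : g ^ 2 = f T * g * (f T)⁻¹ := by
        rw [eq_mul_inv_iff_mul_eq, pow_two, hg, ← map_mul, ← map_mul, ← map_mul, hT]
      calc g ^ 4 = (g ^ 2) ^ 2 := by rw [← pow_mul]
        _ = (f T * g * (f T)⁻¹) ^ 2 := by rw [hc]
        _ = f T * (g ^ 2) * (f T)⁻¹ := conj_pow
        _ = _ := by rw [hc]; group
    rw [this, charpoly_conj]
  refine not_five (by norm_num : Nat.Prime 7) (by norm_num) hg7 hg1 {1, 2, 4, 6, 5} (by decide) (by decide) ?_
  have e6 : g ^ 6 = g⁻¹ := eq_inv_of_mul_eq_one_left (by rw [← pow_succ]; exact hg7)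
  have e5 : g ^ 5 = (g ^ 2)⁻¹ := eq_inv_of_mul_eq_one_left (by rw [← pow_add]; exact hg7)
  intro a ha
  simp only [Finset.mem_insert, Finset.mem_singleton] at ha
  rcases ha with rfl | rfl | rfl | rfl | rfl
  · rw [pow_one]
  · exact h2
  · exact h4
  · rw [e6]; exact charpoly_inv (R.simp'.le hgP)
  · rw [e5, charpoly_inv (R.simp'.le (pow_mem hgP 2))]; exact h2

end Cfsg.Agent.Classical.SpFourRes
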