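import Cfsg.Agent.Lib.Classical.SpFourRes.Dichotomy

/-!
Simple subgroups of the four-dimensional symplectic group generated by transvections.
-/

set_option autoImplicit false
set_option linter.unusedSectionVars false

namespace Cfsg.Agent.Classical.SpFourRes

open Matrix

variable {F : Type*} [Field F] [CharP F 2] [Fintype F]

local notation "V₂" => (Fin 2 → F)
local notation "V₄" => (Fin 2 ⊕ Fin 2 → F)
local notation "M₂" => Matrix (Fin 2) (Fin 2) F
local notation "M₄" => Matrix (Fin 2 ⊕ Fin 2) (Fin 2 ⊕ Fin 2) F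
local notation "G₂" => GL (Fin 2) F
local notation "G₄" => GL (Fin 2 ⊕ Fin 2) F

theorem SylTwo.mv {P T : Subgroup G₄} (h : SylTwo P T) (g : G₄) : SylTwo (mv g P) (SpFourRes.mv g T) := by
  refine ⟨Subgroup.map_mono h.le, h.two.map _, fun R hR h2 hle => ?_⟩
  have e : SpFourRes.mv g⁻¹ R = T := by
    refine h.max _ ?_ (h2.map _) fun x hx => ?_
    · rintro x hx
      have := hR (mem_mv.1 hx)
      rw [mem_mv] at this
      simpa [mul_assoc] using this
    · rw [mem_mv]
      exact hle (by simpa using conj_mem_mv (g := g) hx)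
  rw [← e]
  ext x
  rw [mem_mv, mem_mv]
  simp [mul_assoc]

namespace OnLine

variable {P T : Subgroup (GL (Fin 2 ⊕ Fin 2) F)} (H : OnLine P T)

include H

/-- A change of basis on the line. -/
theorem change (C : G₂) : ∃ P' T' : Subgroup G₄, OnLine P' T' ∧ ∀ x, x ∈ onL P → C⁻¹ * x * C ∈ onL P' := by
  have hc : det2 (ap C ![1, 0]) (ap C ![0, 1]) ≠ 0 := by
    rw [det2_ap]
    simp [det2]
    exact (Matrix.GeneralLinearGroup.det C).ne_zero
  obtain ⟨B, hB, h1, h2⟩ := exists_frame_two (s₁ := lv (ap C ![1, 0])) (s₂ := lv (ap C ![0, 1]))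
    (by
      refine LinearIndependent.pair_iff.2 fun s t e => ?_
      rw [← lv_smul, ← lv_smul, ← lv_add, ← ap_smul, ← ap_smul, ← ap_add] at e
      have e' := congrArg (ap C⁻¹) (lv_injective (e.trans (show (0 : V₄) = lv 0 from
        ext4 (by simp [lv]) (by simp [lv]) (by simp [lv]) (by simp [lv]))))
      rw [ap_inv_ap] at e'
      simp [ap] at e'
      exact e') (sf_lv_lv _ _)
  have eb1 : lv ![(1 : F), 0] = vec 1 0 0 0 := ext4 (by simp [lv]) (by simp [lv]) (by simp [lv]) (by simp [lv])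
  have eb2 : lv ![(0 : F), 1] = vec 0 1 0 0 := ext4 (by simp [lv]) (by simp [lv]) (by simp [lv]) (by simp [lv])
  have hBL : B ∈ stabL := mem_stabL_of_inL (σ := ![1, 0]) (τ := ![0, 1]) (by simp [det2])
    (by rw [eb1, h1]; exact inL_lv _) (by rw [eb2, h2]; exact inL_lv _)
  have hBC : blockHom ⟨B, hBL⟩ = C := by
    have e1 : ap (blockHom ⟨B, hBL⟩) ![1, 0] = ap C ![1, 0] :=
      lv_injective ((act_lv_hom _ _).symm.trans (by show act B _ = _; rw [eb1, h1]))
    have e2 : ap (blockHom ⟨B, hBL⟩) ![0, 1] = ap C ![0, 1] :=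
      lv_injective ((act_lv_hom _ _).symm.trans (by show act B _ = _; rw [eb2, h2]))
    have a0 := congrFun e1 0
    have a1 := congrFun e1 1
    have b0 := congrFun e2 0
    have b1 := congrFun e2 1
    simp [ap_apply] at a0 a1 b0 b1
    exact gl_ext a0 b0 a1 b1
  have hmap : ∀ {v : V₄}, IsCtr (SpFourRes.mv B⁻¹ P) v → IsCtr P (act B v) := fun {v} h => by
    refine ⟨act_ne_zero B h.ne, ?_⟩
    have := mem_mv.1 h.mem
    rwa [inv_inv, tv_conj hB] at this
  refine ⟨SpFourRes.mv B⁻¹ P, SpFourRes.mv B⁻¹ T, ⟨H.simp'.mv (inv_mem hB), fun x hx => ?_, fun v l hv hv' => ?_,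
    H.syl.mv _, ?_⟩, fun x hx => ?_⟩
  · have e : act B x = 0 := H.fix _ fun g hg => by
      have := hx _ (conj_mem_mv (g := B⁻¹) hg)
      rw [inv_inv, act_mul, act_mul] at this
      conv_rhs => rw [← this, act_act_inv]
    exact act_injective B (e.trans (act_zero B).symm)
  · exact H.small _ l (hmap hv) (by rw [← act_smul]; exact hmap hv')
  · obtain ⟨σ, τ, h, hσ, hτ⟩ := H.pair
    refine ⟨ap C⁻¹ σ, ap C⁻¹ τ, ?_, ?_, ?_⟩
    · rw [det2_ap]; exact mul_ne_zero (Matrix.GeneralLinearGroup.det C⁻¹).ne_zero h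
    all_goals
      rw [mem_mv, inv_inv, tv_conj hB]
      rw [show B = ((⟨B, hBL⟩ : stabL (F := F)) : G₄) from rfl, act_lv_hom, hBC, ← ap_mul, mul_inv_cancel, ap_one]
      assumption
  · obtain ⟨n, hn, rfl⟩ := mem_onL.1 hx
    refine mem_onL.2 ⟨(⟨B, hBL⟩ : stabL (F := F))⁻¹ * n * ⟨B, hBL⟩, ?_, ?_⟩
    · show B⁻¹ * (n : G₄) * B ∈ SpFourRes.mv B⁻¹ P
      simpa using conj_mem_mv (g := B⁻¹) hn
    · rw [map_mul, map_mul, map_inv, hBC]

end OnLine

/-- A fixed vector of a unipotent element becomes the first basis vector. -/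
theorem exists_upper {u : G₂} (hu : u * u = 1) (hu1 : u ≠ 1) :
    ∃ C : G₂, ∃ a : F, a ≠ 0 ∧ ((C⁻¹ * u * C : G₂) : M₂) = !![1, a; 0, 1] := by
  set U := (u : M₂) with hU
  have two := CharTwo.two_eq_zero (R := F)
  have hUU : U * U = 1 := congrArg (fun z : G₂ => (z : M₂)) hu
  have e00 := congrFun (congrFun hUU 0) 0
  have e01 := congrFun (congrFun hUU 0) 1
  have e10 := congrFun (congrFun hUU 1) 0
  have e11 := congrFun (congrFun hUU 1) 1
  simp [Matrix.mul_apply, Fin.sum_univ_two] at e00 e01 e10 e11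
  have htr : U 0 0 = U 1 1 := by
    by_contra hne
    have hne' : U 0 0 + U 1 1 ≠ 0 := fun e => hne (CharTwo.add_eq_zero.1 e)
    have h01 : U 0 1 = 0 := (mul_eq_zero.1 (show U 0 1 * (U 0 0 + U 1 1) = 0 by linear_combination e01)).resolve_right hne'
    rw [h01] at e00 e11
    have h0 : U 0 0 = 1 := sq_inj (by linear_combination e00)
    have h1 : U 1 1 = 1 := sq_inj (by linear_combination e11)
    exact hne (h0.trans h1.symm)
  have hk : (U 0 0 + 1) ^ 2 = U 0 1 * U 1 0 := by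
    linear_combination e00 + (U 0 0 - U 0 1 * U 1 0 + 1) * two
  by_cases hc : U 1 0 = 0
  · have h0 : U 0 0 = 1 := CharTwo.add_eq_zero.1 (sq_inj (by rw [hk, hc]; ring) : U 0 0 + 1 = 0)
    refine ⟨1, U 0 1, fun e => hu1 (gl_ext ?_ ?_ ?_ ?_), ?_⟩
    · simp [← hU, h0]
    · simp [← hU, e]
    · simp [← hU, hc]
    · simp [← hU, ← htr, h0]
    · rw [inv_one, one_mul, mul_one]
      ext i j
      fin_cases i <;> fin_cases j <;> simp [← hU, h0, hc, ← htr]
  · set c := U 1 0 with hcd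
    set k := U 0 0 + 1 with hkd
    have hdet : (!![k, 1; c, 0] : M₂).det ≠ 0 := by
      rw [det_fin_two_of]
      simpa using hc
    refine ⟨Matrix.GeneralLinearGroup.mkOfDetNeZero _ hdet, 1, one_ne_zero, ?_⟩
    set C := Matrix.GeneralLinearGroup.mkOfDetNeZero _ hdet with hC
    have hCM : (C : M₂) = !![k, 1; c, 0] := rfl
    have key : U * (C : M₂) = (C : M₂) * !![1, 1; 0, 1] := by
      rw [hCM]
      ext i j
      fin_cases i <;> fin_cases j <;> simp [Matrix.mul_apply, Fin.sum_univ_two, ← hcd, hkd]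
      · linear_combination -hk + (U 0 0 ^ 2 + U 0 0) * two
      · linear_combination -two
      · rw [← htr]; linear_combination c * U 0 0 * two
    rw [Units.val_mul, Units.val_mul, mul_assoc, ← hU, key, ← mul_assoc, ← Units.val_mul, inv_mul_cancel,
      Units.val_one, one_mul]

theorem conj_upper_of_commute {u v : G₂} {a : F} (ha : a ≠ 0) (hu : (u : M₂) = !![1, a; 0, 1]) (hv : v * v = 1)
    (hc : v * u = u * v) : (v : M₂) = !![1, (v : M₂) 0 1; 0, 1] := by
  have e00 := congrFun (congrFun (congrArg (fun z : G₂ => (z : M₂)) hv) 0) 0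
  have e11 := congrFun (congrFun (congrArg (fun z : G₂ => (z : M₂)) hv) 1) 1
  have f00 := congrFun (congrFun (congrArg (fun z : G₂ => (z : M₂)) hc) 0) 0
  simp [Matrix.mul_apply, Fin.sum_univ_two, hu] at e00 e11 f00
  have h10 : (v : M₂) 1 0 = 0 := f00.resolve_left ha
  rw [h10] at e00 e11
  have h00 : (v : M₂) 0 0 = 1 := sq_inj (by linear_combination e00)
  have h11 : (v : M₂) 1 1 = 1 := sq_inj (by linear_combination e11)
  ext i j
  fin_cases i <;> fin_cases j <;> simp [h00, h11, h10]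

theorem upper_of_normalises {X : Subgroup G₂} (h : ∀ x ∈ X, x * x = 1 → (x : M₂) 1 0 = 0) {u : G₂} (hu : u ∈ X)
    {a : F} (ha : a ≠ 0) (hM : (u : M₂) = !![1, a; 0, 1]) {g : G₂} (hg : g ∈ X) : (g : M₂) 1 0 = 0 := by
  have hu2 : u * u = 1 := by
    refine gl_ext ?_ ?_ ?_ ?_ <;> simp [Matrix.mul_apply, Fin.sum_univ_two, hM]
    exact CharTwo.add_self_eq_zero a
  set w := g⁻¹ * u * g with hw
  have hww : w * w = 1 := by
    rw [hw]
    calc g⁻¹ * u * g * (g⁻¹ * u * g) = g⁻¹ * (u * u) * g := by group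
      _ = 1 := by rw [hu2]; group
  have h10 := h w (mul_mem (mul_mem (inv_mem hg) hu) hg) hww
  have e : g * w = u * g := by rw [hw]; group
  have e00 := congrFun (congrFun (congrArg (fun z : G₂ => (z : M₂)) e) 0) 0
  have e11 := congrFun (congrFun (congrArg (fun z : G₂ => (z : M₂)) hww) 0) 0
  simp [Matrix.mul_apply, Fin.sum_univ_two, hM, h10] at e00 e11
  have w00 : (w : M₂) 0 0 = 1 := sq_inj (by rw [one_pow, pow_two]; exact e11)
  rw [w00, mul_one] at e00
  exact (mul_eq_zero.1 (show a * (g : M₂) 1 0 = 0 by linear_combination -e00)).resolve_left ha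

/-- Root groups of order two do not occur. -/
theorem small_root {P T : Subgroup G₄} (H : OnLine P T) : False := by
  by_cases h4 : 4 ∣ Nat.card (onL P)
  · haveI : Fact (Nat.Prime 2) := ⟨Nat.prime_two⟩
    obtain ⟨R, hR⟩ := Sylow.exists_subgroup_card_pow_prime 2 (n := 2) (G := onL P) h4
    have hR2 : IsPGroup 2 R := IsPGroup.of_card hR
    have hinv : ∀ x ∈ R, x * x = 1 := fun x hx => by
      obtain ⟨k, hk⟩ := hR2 ⟨x, hx⟩
      have hk' : (x : G₂) ^ 2 ^ k = 1 := by simpa using congrArg (fun z : R => ((z : onL P) : G₂)) hk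
      have hd : ((x : G₂) : M₂).det = 1 := by
        have h2 := congrArg (fun z : G₂ => (z : M₂).det) hk'
        simp only [Units.val_pow_eq_pow_val, Matrix.det_pow, Units.val_one, Matrix.det_one] at h2
        rw [show (1 : F) = 1 ^ 2 ^ k from (one_pow _).symm] at h2
        exact iterateFrobenius_inj F 2 k (by simp only [iterateFrobenius_def]; exact h2)
      let g : Matrix.SpecialLinearGroup (Fin 2) F := ⟨((x : G₂) : M₂), hd⟩
      have hg : g ^ 2 ^ k = 1 := Subtype.ext (by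
        rw [Matrix.SpecialLinearGroup.coe_pow, Matrix.SpecialLinearGroup.coe_one]
        show ((x : G₂) : M₂) ^ 2 ^ k = 1
        rw [← Units.val_pow_eq_pow_val, hk', Units.val_one])
      have h5 : (g : M₂) ^ 2 = 1 := by
        rw [← Matrix.SpecialLinearGroup.coe_pow, (Residual.two_power_sq hg).1, Matrix.SpecialLinearGroup.coe_one]
      refine Subtype.ext (Units.ext ?_)
      rw [Subgroup.coe_mul, Units.val_mul, ← pow_two]
      exact h5
    classical
    obtain ⟨u, hu, v, hv, hu1, hv1, huv⟩ : ∃ u ∈ R, ∃ v ∈ R, u ≠ 1 ∧ v ≠ 1 ∧ u ≠ v := by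
      haveI := Fintype.ofFinite R
      have h3 : 1 < ((Finset.univ : Finset R).erase 1).card := by
        rw [Finset.card_erase_of_mem (Finset.mem_univ _), Finset.card_univ, ← Nat.card_eq_fintype_card, hR]
        norm_num
      obtain ⟨u, hu, v, hv, huv⟩ := Finset.one_lt_card.1 h3
      exact ⟨u, u.2, v, v.2, fun e => (Finset.ne_of_mem_erase hu) (Subtype.ext e),
        fun e => (Finset.ne_of_mem_erase hv) (Subtype.ext e), fun e => huv (Subtype.ext e)⟩
    have huv' : v * u = u * v := by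
      have h := hinv _ (mul_mem hu hv)
      calc v * u = u * (u * v * (u * v)) * v * (1 : onL P) := by
            rw [mul_one, show u * (u * v * (u * v)) * v = (u * u) * (v * u) * (v * v) by simp only [mul_assoc],
              hinv u hu, hinv v hv, one_mul, mul_one]
        _ = u * v := by rw [h, mul_one, mul_one]
    obtain ⟨C₁, a, ha, hC₁⟩ := exists_upper (u := (u : G₂)) (congrArg Subtype.val (hinv u hu))
      (fun e => hu1 (Subtype.ext e))
    obtain ⟨P₁, T₁, H₁, hm₁⟩ := H.change C₁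
    set u₁ := C₁⁻¹ * (u : G₂) * C₁ with hu₁
    set v₁ := C₁⁻¹ * (v : G₂) * C₁ with hv₁
    have hv₁sq : v₁ * v₁ = 1 := by
      rw [hv₁]
      calc C₁⁻¹ * (v : G₂) * C₁ * (C₁⁻¹ * (v : G₂) * C₁) = C₁⁻¹ * ((v * v : onL P) : G₂) * C₁ := by
            rw [Subgroup.coe_mul]; group
        _ = 1 := by rw [hinv v hv]; simp
    have hcomm₁ : v₁ * u₁ = u₁ * v₁ := by
      rw [hv₁, hu₁]
      calc C₁⁻¹ * (v : G₂) * C₁ * (C₁⁻¹ * (u : G₂) * C₁) = C₁⁻¹ * ((v * u : onL P) : G₂) * C₁ := by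
            rw [Subgroup.coe_mul]; group
        _ = C₁⁻¹ * ((u * v : onL P) : G₂) * C₁ := by rw [huv']
        _ = _ := by rw [Subgroup.coe_mul]; group
    have hvM := conj_upper_of_commute ha hC₁ hv₁sq hcomm₁
    set b := (v₁ : M₂) 0 1 with hb
    have hinj : ∀ {x y : onL P}, C₁⁻¹ * (x : G₂) * C₁ = C₁⁻¹ * (y : G₂) * C₁ → x = y := fun e =>
      Subtype.ext (mul_left_cancel (mul_right_cancel e))
    have hb0 : b ≠ 0 := fun e => hv1 (hinj (y := 1) (by
      rw [← hv₁]; refine Units.ext ?_; rw [hvM, e]; simp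
      ext i j; fin_cases i <;> fin_cases j <;> simp))
    have hab : a ≠ b := fun e => huv (hinj (Units.ext (by rw [← hu₁, ← hv₁, hC₁, hvM, e])))
    by_cases hup : ∀ x ∈ onL P₁, x * x = 1 → (x : M₂) 1 0 = 0
    · exact H₁.config.false_upper (fun g hg => upper_of_normalises hup (hm₁ _ u.2) ha hC₁ hg) ha hb0 hab
        (hm₁ _ u.2) (hm₁ _ v.2) hC₁ hvM
    push Not at hup
    obtain ⟨x, hx, hxx, hx10⟩ := hup
    set c := (x : M₂) 1 0 with hc
    set k := (x : M₂) 0 0 + 1 with hk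
    have hdet : (!![1, k; 0, c] : M₂).det ≠ 0 := by rw [det_fin_two_of]; simpa using hx10
    set C₂ := Matrix.GeneralLinearGroup.mkOfDetNeZero _ hdet with hC₂
    have hC₂M : (C₂ : M₂) = !![1, k; 0, c] := rfl
    obtain ⟨P₂, T₂, H₂, hm₂⟩ := H₁.change C₂
    have hconj : ∀ {g : G₂} {N : M₂}, (g : M₂) * (C₂ : M₂) = (C₂ : M₂) * N → ((C₂⁻¹ * g * C₂ : G₂) : M₂) = N :=
      fun {g N} e => by
        rw [Units.val_mul, Units.val_mul, mul_assoc, e, ← mul_assoc, ← Units.val_mul, inv_mul_cancel, Units.val_one,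
          one_mul]
    have hux : ∀ {g : G₂} {d : F}, (g : M₂) = !![1, d; 0, 1] → ((C₂⁻¹ * g * C₂ : G₂) : M₂) = !![1, d * c; 0, 1] :=
      fun {g d} e => hconj (by
        rw [e, hC₂M]
        ext i j
        fin_cases i <;> fin_cases j <;> simp [Matrix.mul_apply, Fin.sum_univ_two]
        ring)
    have e00 := congrFun (congrFun (congrArg (fun z : G₂ => (z : M₂)) hxx) 0) 0
    have e10 := congrFun (congrFun (congrArg (fun z : G₂ => (z : M₂)) hxx) 1) 0
    simp [Matrix.mul_apply, Fin.sum_univ_two, ← hc] at e00 e10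
    have htr : (x : M₂) 0 0 = (x : M₂) 1 1 := by
      rw [← CharTwo.add_eq_zero]
      exact (mul_eq_zero.1 (show c * ((x : M₂) 0 0 + (x : M₂) 1 1) = 0 by linear_combination e10)).resolve_left hx10
    refine H₂.config.false_pair (a₁ := a * c) (a₂ := b * c) (mul_ne_zero ha hx10) (mul_ne_zero hb0 hx10)
      (fun e => hab (mul_right_cancel₀ hx10 e)) (hm₂ _ (hm₁ _ u.2)) (hm₂ _ (hm₁ _ v.2)) (hm₂ _ hx)
      (hux hC₁) (hux hvM) (hconj ?_)
    rw [hC₂M]
    ext i j
    fin_cases i <;> fin_cases j <;> simp [Matrix.mul_apply, Fin.sum_univ_two, ← hc, hk]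
    · linear_combination ((x : M₂) 0 0 + (1 : F)) * 0 - CharTwo.two_eq_zero (R := F) * (0 : F) -
        CharTwo.two_eq_zero (R := F) * (0 : F) - (1 : F) * CharTwo.two_eq_zero (R := F)
    · linear_combination e00 + ((x : M₂) 0 0 * (0 : F)) * CharTwo.two_eq_zero (R := F)
    · rw [← htr]; linear_combination c * (x : M₂) 0 0 * CharTwo.two_eq_zero (R := F)
  · exact H.config.false_small h4

/-- Simple subgroups containing transvections and fixing no vector. -/
theorem transvection_dichotomy {P : Subgroup G₄} (K : SimpleSp P) {u : V₄} (hu : IsCtr P u)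
    (hfix : ∀ x, (∀ g ∈ P, act g x = x) → x = 0) :
    ∃ F₀ : Subfield F, (∃ B ∈ spGL 2 F, ∀ g ∈ P, ∀ i j, ((B⁻¹ * g * B : G₄) : M₄) i j ∈ F₀) ∧
      (F₀ = ⊤ → spGL 2 F ≤ P) := by
  by_cases h3 : ∃ v, IsCtr P v ∧ 3 ≤ (coef P v).ncard
  · obtain ⟨v, hv, hv3⟩ := h3
    exact big_root K hfix hv hv3
  exfalso
  push Not at h3
  have hsmall : ∀ (v : V₄) (l : F), IsCtr P v → IsCtr P (l • v) → l = 1 := fun v l hv hl => by
    by_contra hl1
    have hl0 : l ≠ 0 := by rintro rfl; exact hl.ne (zero_smul F v)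
    have hsub : ({0, 1, l} : Set F) ⊆ coef P v := by
      rintro x (rfl | rfl | rfl)
      exacts [zero_mem_coef P v, hv.one_mem_coef, hl.mem]
    have hc : ({0, 1, l} : Set F).ncard = 3 :=
      Set.ncard_eq_three.2 ⟨0, 1, l, zero_ne_one, hl0.symm, fun e => hl1 e.symm, rfl⟩
    have := Set.ncard_le_ncard hsub
    have := h3 v hv
    omega
  haveI : Fact (Nat.Prime 2) := ⟨Nat.prime_two⟩
  obtain ⟨T, hT, hle⟩ := K.exists_syl (Q := Subgroup.zpowers (tv u)) ((Subgroup.zpowers_le).2 hu.mem)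
    (IsPGroup.of_card (n := 1) (by rw [Nat.card_zpowers, orderOf_tv hu.ne, pow_one]))
  have huT : tv u ∈ T := hle (Subgroup.mem_zpowers _)
  obtain ⟨g, hg, hgT, hne⟩ := K.not_isolated hT huT (orderOf_tv hu.ne)
  rw [tv_conj (K.le hg)] at hgT hne
  set v := act g u with hv
  have hvc : IsCtr P v := hu.map K.le hg
  have hperp : sf u v = 0 := perp_of_two hT.two huT hgT hvc.ne
  have hli : LinearIndependent F ![u, v] := by
    refine linearIndependent_fin2.2 ⟨hvc.ne, fun c e => ?_⟩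
    simp only [Matrix.cons_val_zero, Matrix.cons_val_one] at e
    have := hsmall v c hvc (by rw [e]; exact hu)
    exact hne (by rw [← e, this, one_smul])
  obtain ⟨B, hB, h1, h2⟩ := exists_frame_two hli hperp
  refine small_root (P := mv B⁻¹ P) (T := mv B⁻¹ T) ⟨K.mv (inv_mem hB), fun x hx => ?_, fun x l hx hlx => ?_,
    hT.mv _, ![1, 0], ![0, 1], by simp [det2], ?_, ?_⟩
  · have e : act B x = 0 := hfix _ fun k hk => by
      have := hx _ (conj_mem_mv (g := B⁻¹) hk)
      rw [inv_inv, act_mul, act_mul] at this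
      conv_rhs => rw [← this, act_act_inv]
    exact act_injective B (e.trans (act_zero B).symm)
  · have hm : ∀ {y : V₄}, IsCtr (mv B⁻¹ P) y → IsCtr P (act B y) := fun {y} h => by
      refine ⟨act_ne_zero B h.ne, ?_⟩
      have := mem_mv.1 h.mem
      rwa [inv_inv, tv_conj hB] at this
    exact hsmall _ l (hm hx) (by rw [← act_smul]; exact hm hlx)
  · rw [mem_mv, inv_inv, tv_conj hB,
      show lv ![(1 : F), 0] = vec 1 0 0 0 from ext4 (by simp [lv]) (by simp [lv]) (by simp [lv]) (by simp [lv]), h1]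
    exact huT
  · rw [mem_mv, inv_inv, tv_conj hB,
      show lv ![(0 : F), 1] = vec 0 1 0 0 from ext4 (by simp [lv]) (by simp [lv]) (by simp [lv]) (by simp [lv]), h2]
    exact hgT

end Cfsg.Agent.Classical.SpFourRes
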