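import Cfsg.Agent.Lib.Classical.SpFourRes.RootSmall

/-!
The exceptional endomorphism of the four-dimensional symplectic group in characteristic two.
-/

set_option autoImplicit false
set_option linter.unusedSectionVars false

namespace Cfsg.Agent.Classical.SpFourRes

open Matrix

variable {F : Type*} [Field F] [CharP F 2]

local notation "V₄" => (Fin 2 ⊕ Fin 2 → F)
local notation "M₄" => Matrix (Fin 2 ⊕ Fin 2) (Fin 2 ⊕ Fin 2) F
local notation "G₄" => GL (Fin 2 ⊕ Fin 2) F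

/-- The four essential minors of a pair of vectors. -/
def wedge (u v : Fin 2 ⊕ Fin 2 → F) : Fin 2 ⊕ Fin 2 → F :=
  vec (u (.inl 0) * v (.inl 1) + u (.inl 1) * v (.inl 0)) (u (.inl 0) * v (.inr 1) + u (.inr 1) * v (.inl 0))
    (u (.inr 1) * v (.inr 0) + u (.inr 0) * v (.inr 1)) (u (.inl 1) * v (.inr 0) + u (.inr 0) * v (.inl 1))

theorem sf_wedge {a b c d : V₄} (hab : sf a b = 0) (hcd : sf c d = 0) :
    sf (wedge a b) (wedge c d) = sf a c * sf b d + sf a d * sf b c := by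
  rw [sf_eq] at hab hcd
  simp only [sf_eq, wedge, vec_inl0, vec_inl1, vec_inr0, vec_inr1]
  have two : (2 : F) = 0 := CharTwo.two_eq_zero
  grind

theorem wedge_e1 : wedge (vec (1 : F) 0 0 0) (vec 0 1 0 0) = vec 1 0 0 0 := ext4 (by simp [wedge]) (by simp [wedge]) (by simp [wedge]) (by simp [wedge])

theorem wedge_e2 : wedge (vec (1 : F) 0 0 0) (vec 0 0 0 1) = vec 0 1 0 0 := ext4 (by simp [wedge]) (by simp [wedge]) (by simp [wedge]) (by simp [wedge])

theorem wedge_f1 : wedge (vec (0 : F) 0 0 1) (vec 0 0 1 0) = vec 0 0 1 0 := ext4 (by simp [wedge]) (by simp [wedge]) (by simp [wedge]) (by simp [wedge])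

theorem wedge_f2 : wedge (vec (0 : F) 1 0 0) (vec 0 0 1 0) = vec 0 0 0 1 := ext4 (by simp [wedge]) (by simp [wedge]) (by simp [wedge]) (by simp [wedge])

theorem exists_rho {g : G₄} (hg : g ∈ spGL 2 F) : ∃ h ∈ spGL 2 F, (h : M₄) =
    colMat (wedge (act g (vec 1 0 0 0)) (act g (vec 0 1 0 0))) (wedge (act g (vec 1 0 0 0)) (act g (vec 0 0 0 1)))
      (wedge (act g (vec 0 0 0 1)) (act g (vec 0 0 1 0))) (wedge (act g (vec 0 1 0 0)) (act g (vec 0 0 1 0))) := by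
  refine exists_of_basis ?_ ?_ ?_ ?_ ?_ ?_ <;>
    (rw [sf_wedge (by rw [sf_act hg, sf_eq]; simp) (by rw [sf_act hg, sf_eq]; simp)]
     simp [sf_act hg, sf_eq, -Matrix.cons_val])

/-- The endomorphism. -/
noncomputable def rho (g : spGL 2 F) : GL (Fin 2 ⊕ Fin 2) F := (exists_rho g.2).choose

theorem rho_mem (g : spGL 2 F) : rho g ∈ spGL 2 F := (exists_rho g.2).choose_spec.1

theorem act_rho_std (g : spGL 2 F) :
    act (rho g) (vec 1 0 0 0) = wedge (act (g : G₄) (vec 1 0 0 0)) (act (g : G₄) (vec 0 1 0 0)) ∧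
    act (rho g) (vec 0 1 0 0) = wedge (act (g : G₄) (vec 1 0 0 0)) (act (g : G₄) (vec 0 0 0 1)) ∧
    act (rho g) (vec 0 0 1 0) = wedge (act (g : G₄) (vec 0 0 0 1)) (act (g : G₄) (vec 0 0 1 0)) ∧
    act (rho g) (vec 0 0 0 1) = wedge (act (g : G₄) (vec 0 1 0 0)) (act (g : G₄) (vec 0 0 1 0)) :=
  act_of_basis (exists_rho g.2).choose_spec.2

theorem eq_of_sf_eq {x y : V₄} (h : ∀ z : V₄, sf x z = sf y z) : x = y := by
  refine ext4 ?_ ?_ ?_ ?_
  · simpa [sf_eq] using h (vec 0 0 1 0)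
  · simpa [sf_eq] using h (vec 0 0 0 1)
  · simpa [sf_eq] using h (vec 1 0 0 0)
  · simpa [sf_eq] using h (vec 0 1 0 0)

theorem std_sum (x : V₄) : x = x (.inl 0) • vec 1 0 0 0 + x (.inl 1) • vec 0 1 0 0 + x (.inr 0) • vec 0 0 1 0 +
    x (.inr 1) • vec 0 0 0 1 := ext4 (by simp) (by simp) (by simp) (by simp)

/-- The defining property on isotropic pairs. -/
theorem act_rho (g : spGL 2 F) {x y : V₄} (h : sf x y = 0) :
    act (rho g) (wedge x y) = wedge (act (g : G₄) x) (act (g : G₄) y) := by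
  have hg := g.2
  obtain ⟨s1, s2, s3, s4⟩ := act_rho_std g
  refine eq_of_sf_eq fun z => ?_
  obtain ⟨w, rfl⟩ : ∃ w, z = act (rho g) w := ⟨_, (act_act_inv (rho g) z).symm⟩
  rw [sf_act (rho_mem g)]
  have key : ∀ {a b : V₄}, sf a b = 0 → act (rho g) (wedge a b) = wedge (act (g : G₄) a) (act (g : G₄) b) →
      sf (wedge x y) (wedge a b) = sf (wedge (act (g : G₄) x) (act (g : G₄) y)) (act (rho g) (wedge a b)) := by
    intro a b hab e
    rw [e, sf_wedge h hab, sf_wedge (by rw [sf_act hg, h]) (by rw [sf_act hg, hab]), sf_act hg, sf_act hg,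
      sf_act hg, sf_act hg]
  have k1 := key (a := vec 1 0 0 0) (b := vec 0 1 0 0) (by simp [sf_eq]) (by rw [wedge_e1]; exact s1)
  have k2 := key (a := vec 1 0 0 0) (b := vec 0 0 0 1) (by simp [sf_eq]) (by rw [wedge_e2]; exact s2)
  have k3 := key (a := vec 0 0 0 1) (b := vec 0 0 1 0) (by simp [sf_eq]) (by rw [wedge_f1]; exact s3)
  have k4 := key (a := vec 0 1 0 0) (b := vec 0 0 1 0) (by simp [sf_eq]) (by rw [wedge_f2]; exact s4)
  rw [wedge_e1] at k1
  rw [wedge_e2] at k2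
  rw [wedge_f1] at k3
  rw [wedge_f2] at k4
  rw [std_sum w]
  simp only [act_add, act_smul, sf_add_right, sf_smul_right, k1, k2, k3, k4]

theorem rho_mul (g h : spGL 2 F) : rho (g * h) = rho g * rho h := by
  obtain ⟨t1, t2, t3, t4⟩ := act_rho_std (g * h)
  obtain ⟨s1, s2, s3, s4⟩ := act_rho_std h
  refine ext_act fun z => ?_
  rw [std_sum z]
  simp only [act_add, act_smul, act_mul, s1, s2, s3, s4, t1, t2, t3, t4, Subgroup.coe_mul]
  rw [act_rho g (by rw [sf_act h.2, sf_eq]; simp), act_rho g (by rw [sf_act h.2, sf_eq]; simp),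
    act_rho g (by rw [sf_act h.2, sf_eq]; simp), act_rho g (by rw [sf_act h.2, sf_eq]; simp)]

/-- The endomorphism as a homomorphism. -/
noncomputable def rhoHom : spGL 2 F →* spGL 2 F :=
  MonoidHom.mk' (fun g => ⟨rho g, rho_mem g⟩) fun g h => Subtype.ext (rho_mul g h)

theorem coe_rhoHom (g : spGL 2 F) : ((rhoHom g : spGL 2 F) : G₄) = rho g := rfl

theorem rho_one : rho (1 : spGL 2 F) = 1 := by
  rw [← coe_rhoHom, map_one]; rfl

theorem rho_tv_inj {v w : V₄} (h : rho ⟨tv v, tv_mem v⟩ = rho ⟨tv w, tv_mem w⟩) : v = w := by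
  have key : ∀ u : V₄, act (rho ⟨tv u, tv_mem u⟩) (vec 1 0 0 0) (.inl 1) = u (.inr 1) ^ 2 ∧
      act (rho ⟨tv u, tv_mem u⟩) (vec 1 0 0 0) (.inr 1) = u (.inr 0) ^ 2 ∧
      act (rho ⟨tv u, tv_mem u⟩) (vec 0 0 1 0) (.inl 1) = u (.inl 0) ^ 2 ∧
      act (rho ⟨tv u, tv_mem u⟩) (vec 0 0 1 0) (.inr 1) = u (.inl 1) ^ 2 := by
    intro u
    obtain ⟨s1, -, s3, -⟩ := act_rho_std (⟨tv u, tv_mem u⟩ : spGL 2 F)
    rw [s1, s3]
    simp only [wedge, vec_inl1, vec_inr1]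
    refine ⟨?_, ?_, ?_, ?_⟩ <;> simp [act_tv, sf_eq] <;>
      (have two : (2 : F) = 0 := CharTwo.two_eq_zero; grind)
  obtain ⟨a1, a2, a3, a4⟩ := key v
  obtain ⟨b1, b2, b3, b4⟩ := key w
  rw [h] at a1 a2 a3 a4
  exact ext4 (sq_inj (a3.symm.trans b3)) (sq_inj (a4.symm.trans b4)) (sq_inj (a2.symm.trans b2))
    (sq_inj (a1.symm.trans b1))

theorem rhoHom_injective : Function.Injective (rhoHom (F := F)) := by
  refine (injective_iff_map_eq_one _).2 fun g hg => Subtype.ext (ext_act fun v => ?_)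
  rw [OneMemClass.coe_one, act_one]
  refine rho_tv_inj ?_
  have e : (⟨tv (act (g : G₄) v), tv_mem _⟩ : spGL 2 F) = g * ⟨tv v, tv_mem v⟩ * g⁻¹ :=
    Subtype.ext (tv_conj g.2 v).symm
  rw [← coe_rhoHom, ← coe_rhoHom, e, map_mul, map_mul, map_inv, hg]
  simp

section Finite

variable [Fintype F]

theorem rhoHom_surjective : Function.Surjective (rhoHom (F := F)) :=
  Finite.injective_iff_surjective.1 rhoHom_injective

/-- The image of a subgroup. -/
noncomputable def rhoGrp (P : Subgroup (GL (Fin 2 ⊕ Fin 2) F)) : Subgroup (GL (Fin 2 ⊕ Fin 2) F) :=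
  ((P.subgroupOf (spGL 2 F)).map rhoHom).map (spGL 2 F).subtype

theorem mem_rhoGrp {P : Subgroup G₄} {x : G₄} :
    x ∈ rhoGrp P ↔ ∃ g : spGL 2 F, (g : G₄) ∈ P ∧ rho g = x := by
  constructor
  · rintro ⟨_, ⟨g, hg, rfl⟩, rfl⟩
    exact ⟨g, hg, rfl⟩
  · rintro ⟨g, hg, rfl⟩
    exact ⟨_, ⟨g, hg, rfl⟩, rfl⟩

theorem rhoGrp_equiv {P : Subgroup G₄} (hP : P ≤ spGL 2 F) : Nonempty (P ≃* rhoGrp P) :=
  ⟨((Subgroup.subgroupOfEquivOfLe hP).symm.trans
    (Subgroup.equivMapOfInjective _ _ rhoHom_injective)).trans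
      (Subgroup.equivMapOfInjective _ _ (Subgroup.subtype_injective _))⟩

theorem SimpleSp.rhoGrp {P : Subgroup G₄} (K : SimpleSp P) : SimpleSp (rhoGrp P) := by
  obtain ⟨e⟩ := rhoGrp_equiv K.le
  refine ⟨?_, ?_, fun hc => K.nonab ⟨⟨fun a b => e.injective (by rw [map_mul, map_mul, hc.is_comm.comm])⟩⟩⟩
  · intro x hx
    obtain ⟨g, -, rfl⟩ := mem_rhoGrp.1 hx
    exact rho_mem g
  · haveI := K.simple
    haveI : Nontrivial (SpFourRes.rhoGrp P) := e.toEquiv.symm.nontrivial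
    exact e.symm.isSimpleGroup

/-- If no proper nonzero subspace is invariant then no vector is fixed by the image. -/
theorem rhoGrp_fix {P : Subgroup G₄} (hP : P ≤ spGL 2 F)
    (hirr : ∀ W : Submodule F V₄, (∀ g ∈ P, ∀ v ∈ W, act g v ∈ W) → W = ⊥ ∨ W = ⊤) {x : V₄}
    (hx : ∀ g ∈ rhoGrp P, act g x = x) : x = 0 := by
  by_contra hx0
  obtain ⟨B, hB, hBx⟩ := exists_frame_one hx0
  obtain ⟨h, hh⟩ := rhoHom_surjective ⟨B, hB⟩
  have hhB : rho h = B := congrArg Subtype.val hh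
  set a := act (h : G₄) (vec 1 0 0 0) with ha
  set b := act (h : G₄) (vec 0 1 0 0) with hb
  have hab : sf a b = 0 := by rw [ha, hb, sf_act h.2, sf_eq]; simp
  have hxw : wedge a b = x := by rw [← (act_rho_std h).1, hhB, hBx]
  have key : ∀ g ∈ P, ∀ v : V₄, (v = a ∨ v = b) → act (h : G₄)⁻¹ (act g v) (.inr 0) = 0 ∧
      act (h : G₄)⁻¹ (act g v) (.inr 1) = 0 := by
    intro g hg v hv
    set k : spGL 2 F := h⁻¹ * ⟨g, hP hg⟩ * h with hk
    have hk1 : act (rho k) (vec 1 0 0 0) = vec 1 0 0 0 := by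
      have e := hx _ (mem_rhoGrp.2 ⟨⟨g, hP hg⟩, hg, rfl⟩)
      rw [← hBx] at e
      rw [hk, rho_mul, rho_mul, act_mul, act_mul, hhB, e, ← hhB, ← act_mul, ← rho_mul, inv_mul_cancel, rho_one,
        act_one]
    rw [(act_rho_std k).1] at hk1
    have hsf := sf_act k.2 (vec 1 0 0 0) (vec 0 1 0 0)
    have hu : act (h : G₄)⁻¹ (act g a) = act (k : G₄) (vec 1 0 0 0) := by
      rw [ha, hk, Subgroup.coe_mul, Subgroup.coe_mul, act_mul, act_mul]; rfl
    have hw : act (h : G₄)⁻¹ (act g b) = act (k : G₄) (vec 0 1 0 0) := by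
      rw [hb, hk, Subgroup.coe_mul, Subgroup.coe_mul, act_mul, act_mul]; rfl
    generalize act (k : G₄) (vec 1 0 0 0) = u at hu hk1 hsf
    generalize act (k : G₄) (vec 0 1 0 0) = w at hw hk1 hsf
    have m1 := congrFun hk1 (.inl 0)
    have m2 := congrFun hk1 (.inl 1)
    have m3 := congrFun hk1 (.inr 0)
    have m4 := congrFun hk1 (.inr 1)
    simp only [wedge, vec_inl0, vec_inl1, vec_inr0, vec_inr1] at m1 m2 m3 m4
    rw [sf_eq, sf_eq] at hsf
    simp at hsf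
    have two : (2 : F) = 0 := CharTwo.two_eq_zero
    -- the remaining minor vanishes by the quadratic relation
    set m := u (.inl 0) * w (.inr 0) + u (.inr 0) * w (.inl 0) with hm
    have hm0 : m = 0 := by
      refine sq_inj (b := 0) ?_
      grind
    rcases hv with rfl | rfl
    · rw [hu]; constructor <;> grind
    · rw [hw]; constructor <;> grind
  -- the invariant plane
  set W : Submodule F V₄ :=
    { carrier := {v | act (h : G₄)⁻¹ v (.inr 0) = 0 ∧ act (h : G₄)⁻¹ v (.inr 1) = 0}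
      add_mem' := fun {u v} hu hv => by
        constructor <;> rw [act_add, Pi.add_apply]
        · rw [hu.1, hv.1, add_zero]
        · rw [hu.2, hv.2, add_zero]
      zero_mem' := by constructor <;> rw [act_zero] <;> rfl
      smul_mem' := fun c v hv => by
        constructor <;> rw [act_smul, Pi.smul_apply]
        · rw [hv.1, smul_zero]
        · rw [hv.2, smul_zero] } with hW
  have hWa : a ∈ W := by
    show act (h : G₄)⁻¹ a (.inr 0) = 0 ∧ act (h : G₄)⁻¹ a (.inr 1) = 0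
    rw [ha, act_inv_act]; simp
  have hinv : ∀ g ∈ P, ∀ v ∈ W, act g v ∈ W := by
    intro g hg v hv
    have hv' : v = act (h : G₄)⁻¹ v (.inl 0) • a + act (h : G₄)⁻¹ v (.inl 1) • b := by
      conv_lhs => rw [← act_act_inv (h : G₄) v, std_sum (act (h : G₄)⁻¹ v)]
      rw [(hv : _ ∧ _).1, (hv : _ ∧ _).2]
      simp [act_add, act_smul, ← ha, ← hb]
    rw [hv', act_add, act_smul, act_smul]
    exact W.add_mem (W.smul_mem _ (key g hg a (Or.inl rfl))) (W.smul_mem _ (key g hg b (Or.inr rfl)))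
  rcases hirr W hinv with e | e
  · rw [e, Submodule.mem_bot] at hWa
    exact act_ne_zero (h : G₄) (fun e' => by simpa using congrFun e' (.inl 0)) hWa
  · have : act (h : G₄) (vec 0 0 1 0) ∈ W := e ▸ Submodule.mem_top
    have h1 := (this : _ ∧ _).1
    rw [act_inv_act] at h1
    simp at h1

theorem exists_rhoGrp_eq {P : Subgroup G₄} (hP : P ≤ spGL 2 F) (h : spGL 2 F ≤ rhoGrp P) : spGL 2 F ≤ P := by
  intro g hg
  obtain ⟨k, hk, e⟩ := mem_rhoGrp.1 (h (rho_mem ⟨g, hg⟩))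
  have := rhoHom_injective (a₁ := k) (a₂ := ⟨g, hg⟩) (Subtype.ext e)
  rw [this] at hk
  exact hk

/-- Symplectic matrices over a subfield. -/
def spRat (F₀ : Subfield F) : Set (GL (Fin 2 ⊕ Fin 2) F) :=
  {g | g ∈ spGL 2 F ∧ ∀ i j, (g : Matrix (Fin 2 ⊕ Fin 2) (Fin 2 ⊕ Fin 2) F) i j ∈ F₀}

theorem act_mem {F₀ : Subfield F} {g : G₄} (hg : ∀ i j, (g : M₄) i j ∈ F₀) {v : V₄} (hv : ∀ i, v i ∈ F₀)
    (i : Fin 2 ⊕ Fin 2) : act g v i ∈ F₀ := by
  rw [act, mulVec_apply4]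
  exact F₀.add_mem (F₀.add_mem (F₀.add_mem (F₀.mul_mem (hg _ _) (hv _)) (F₀.mul_mem (hg _ _) (hv _)))
    (F₀.mul_mem (hg _ _) (hv _))) (F₀.mul_mem (hg _ _) (hv _))

theorem rho_rat {F₀ : Subfield F} {g : spGL 2 F} (hg : (g : G₄) ∈ spRat F₀) : rho g ∈ spRat F₀ := by
  refine ⟨rho_mem g, fun i j => ?_⟩
  have hw : ∀ {u v : V₄}, (∀ i, u i ∈ F₀) → (∀ i, v i ∈ F₀) → ∀ i, wedge u v i ∈ F₀ := fun hu hv i => by
    rcases i with i | i <;> fin_cases i <;>
      exact F₀.add_mem (F₀.mul_mem (hu _) (hv _)) (F₀.mul_mem (hu _) (hv _))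
  have hs : ∀ (a b c d : F), a ∈ F₀ → b ∈ F₀ → c ∈ F₀ → d ∈ F₀ → ∀ i, vec a b c d i ∈ F₀ := fun a b c d ha hb hc hd i => by
    rcases i with i | i <;> fin_cases i <;> assumption
  have ha : ∀ (a b c d : F), a ∈ F₀ → b ∈ F₀ → c ∈ F₀ → d ∈ F₀ → ∀ i, act (g : G₄) (vec a b c d) i ∈ F₀ :=
    fun a b c d ha hb hc hd => act_mem hg.2 (hs a b c d ha hb hc hd)
  obtain ⟨s1, s2, s3, s4⟩ := act_rho_std g
  rw [coe_apply_act]
  have z := F₀.zero_mem
  have o := F₀.one_mem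
  rcases eq_single (F := F) j with e | e | e | e <;> rw [e]
  · rw [s1]; exact hw (ha _ _ _ _ o z z z) (ha _ _ _ _ z o z z) i
  · rw [s2]; exact hw (ha _ _ _ _ o z z z) (ha _ _ _ _ z z z o) i
  · rw [s3]; exact hw (ha _ _ _ _ z z z o) (ha _ _ _ _ z z o z) i
  · rw [s4]; exact hw (ha _ _ _ _ z o z z) (ha _ _ _ _ z z o z) i

theorem rat_of_rho {F₀ : Subfield F} {g : spGL 2 F} (hg : rho g ∈ spRat F₀) : (g : G₄) ∈ spRat F₀ := by
  let f : {g : spGL 2 F // (g : G₄) ∈ spRat F₀} → {g : spGL 2 F // (g : G₄) ∈ spRat F₀} :=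
    fun x => ⟨rhoHom x.1, rho_rat x.2⟩
  have hf : Function.Injective f := fun x y e => Subtype.ext (rhoHom_injective (congrArg Subtype.val e))
  obtain ⟨k, hk⟩ := (Finite.injective_iff_surjective.1 hf) ⟨rhoHom g, hg⟩
  have := rhoHom_injective (congrArg Subtype.val hk)
  rw [← this]
  exact k.2

end Finite

end Cfsg.Agent.Classical.SpFourRes
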