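import Cfsg.Agent.Lib.Classical.SpFourRes.Base
import Cfsg.Agent.Lib.Classical.Residual.EvenDickson
import Cfsg.Agent.Lib.Fus.TransvectionInvolutions

/-!
Subgroups of `SL(2, 2^f)` with many root elements, and the embedding of `SL(2)` on a hyperbolic plane.
-/

set_option autoImplicit false
set_option linter.unusedSectionVars false

namespace Cfsg.Agent.Classical.SpFourRes

open Matrix
open Cfsg.Agent.Classical.Residual (upp low upp_coe low_coe dickson_even)

variable {F : Type*} [Field F] [CharP F 2]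

local notation "SL₂" => Matrix.SpecialLinearGroup (Fin 2) F
local notation "M₂" => Matrix (Fin 2) (Fin 2) F

theorem sq_inj {a b : F} (h : a ^ 2 = b ^ 2) : a = b := by
  have : (a + b) ^ 2 = 0 := by
    rw [CharTwo.add_sq, h, CharTwo.add_self_eq_zero]
  exact CharTwo.add_eq_zero.1 (pow_eq_zero_iff two_ne_zero |>.1 this)

theorem exists_sq [Finite F] (a : F) : ∃ b : F, b ^ 2 = a := by
  have : Function.Surjective fun b : F => b ^ 2 := Finite.injective_iff_surjective.1 fun _ _ h => sq_inj h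
  exact this a

/-- A root group over a subfield. -/
structure RootPair (X : Subgroup (Matrix.SpecialLinearGroup (Fin 2) F)) (F₀ : Subfield F) : Prop where
  four : 3 ≤ Nat.card F₀
  up : ∀ a, upp a ∈ X ↔ a ∈ F₀
  dn : ∀ a, low a ∈ X ↔ a ∈ F₀
  tr : ∀ g ∈ X, trace (g : Matrix (Fin 2) (Fin 2) F) ∈ F₀

theorem exists_rootPair [Fintype F] (X : Subgroup (Matrix.SpecialLinearGroup (Fin 2) F))
    (hA : 3 ≤ {a : F | upp a ∈ X}.ncard) (hlow : low 1 ∈ X) : ∃ F₀ : Subfield F, RootPair X F₀ := by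
  classical
  haveI : Fact (Nat.Prime 2) := ⟨Nat.prime_two⟩
  obtain ⟨hB, htr⟩ := dickson_even X hA one_ne_zero hlow
  let A : AddSubgroup F :=
    { carrier := {a | upp a ∈ X}
      add_mem' := fun {a b} ha hb => by
        show upp (a + b) ∈ X
        rw [← Residual.upp_mul]; exact mul_mem ha hb
      zero_mem' := by
        show upp (0 : F) ∈ X
        rw [show upp (0 : F) = 1 from Subtype.ext (by ext i j; fin_cases i <;> fin_cases j <;> simp)]
        exact one_mem _
      neg_mem' := fun {a} ha => by rw [CharTwo.neg_eq]; exact ha }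
  obtain ⟨f, -, hf⟩ := FiniteField.card F 2
  obtain ⟨n, -, hn⟩ := (Nat.dvd_prime_pow Nat.prime_two).1 (show Nat.card A ∣ 2 ^ (f : ℕ) by
    rw [← hf, ← Nat.card_eq_fintype_card]; exact AddSubgroup.card_addSubgroup_dvd_card A)
  have hAn : {a : F | upp a ∈ X}.ncard = 2 ^ n := by
    rw [← hn, ← Nat.card_coe_set_eq]; rfl
  let F₀ : Subfield F := (iterateFrobenius F 2 n).eqLocusField (RingHom.id F)
  have mem0 : ∀ x, x ∈ F₀ ↔ x ^ 2 ^ n = x := fun x => by
    show iterateFrobenius F 2 n x = x ↔ _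
    rw [iterateFrobenius_def]
  have hle : {a : F | upp a ∈ X} ⊆ (F₀ : Set F) := fun a ha => by
    rw [SetLike.mem_coe, mem0]
    have h := htr _ (mul_mem ha hlow)
    rw [hAn, Matrix.SpecialLinearGroup.coe_mul, upp_coe, low_coe] at h
    simp only [trace_fin_two, Matrix.mul_apply, Fin.sum_univ_two] at h
    simp at h
    rw [show (1 : F) + a + 1 = a by linear_combination CharTwo.two_eq_zero (R := F)] at h
    exact h
  have hcard : (F₀ : Set F).ncard ≤ 2 ^ n := by
    have hn1 : 1 < 2 ^ n := by omega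
    have hP : (Polynomial.X ^ 2 ^ n - Polynomial.X : Polynomial F) ≠ 0 :=
      FiniteField.X_pow_card_sub_X_ne_zero F hn1
    refine le_trans (Set.ncard_le_ncard (t := ((Polynomial.X ^ 2 ^ n - Polynomial.X : Polynomial F).roots.toFinset : Set F))
      (fun x hx => ?_)) ?_
    · rw [Finset.mem_coe, Multiset.mem_toFinset, Polynomial.mem_roots hP]
      simp [(mem0 x).1 hx]
    · rw [Set.ncard_coe_finset]
      refine (Multiset.toFinset_card_le _).trans ((Polynomial.card_roots' _).trans ?_)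
      rw [FiniteField.X_pow_card_sub_X_natDegree_eq F hn1]
  have hAeq : {a : F | upp a ∈ X} = (F₀ : Set F) :=
    Set.eq_of_subset_of_ncard_le hle (by omega)
  have hle' : {a : F | low a ∈ X} ⊆ (F₀ : Set F) := fun a ha => by
    rw [SetLike.mem_coe, mem0]
    have h1 : upp (1 : F) ∈ X := by
      have : (1 : F) ∈ {a : F | upp a ∈ X} := hAeq ▸ F₀.one_mem
      exact this
    have h := htr _ (mul_mem h1 ha)
    rw [hAn, Matrix.SpecialLinearGroup.coe_mul, upp_coe, low_coe] at h
    simp only [trace_fin_two, Matrix.mul_apply, Fin.sum_univ_two] at h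
    simp at h
    rw [show (1 : F) + a + 1 = a by linear_combination CharTwo.two_eq_zero (R := F)] at h
    exact h
  have hBeq : {a : F | low a ∈ X} = (F₀ : Set F) :=
    Set.eq_of_subset_of_ncard_le hle' (by omega)
  refine ⟨F₀, ⟨?_, fun a => ?_, fun a => ?_, fun g hg => ?_⟩⟩
  · rw [show Nat.card F₀ = (F₀ : Set F).ncard from (Nat.card_coe_set_eq _), ← hAeq]
    exact hA
  · exact Set.ext_iff.1 hAeq a
  · exact Set.ext_iff.1 hBeq a
  · rw [mem0]
    have := htr g hg
    rwa [hAn] at this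

namespace RootPair

variable {X : Subgroup (Matrix.SpecialLinearGroup (Fin 2) F)} {F₀ : Subfield F} (R : RootPair X F₀)

include R

theorem swap_mem : ∃ w ∈ X, (w : M₂) = !![0, 1; 1, 0] := by
  refine ⟨upp 1 * low 1 * upp 1, mul_mem (mul_mem ((R.up 1).2 F₀.one_mem) ((R.dn 1).2 F₀.one_mem))
    ((R.up 1).2 F₀.one_mem), ?_⟩
  rw [Matrix.SpecialLinearGroup.coe_mul, Matrix.SpecialLinearGroup.coe_mul, upp_coe, low_coe]
  ext i j
  fin_cases i <;> fin_cases j <;> simp [Matrix.mul_apply, Fin.sum_univ_two] <;>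
    linear_combination CharTwo.two_eq_zero (R := F)

/-- All matrices of determinant one over the subfield. -/
theorem mem_of_entries {a b c d : F} (ha : a ∈ F₀) (hb : b ∈ F₀) (hc : c ∈ F₀) (hd : d ∈ F₀)
    (hdet : a * d + b * c = 1) : ∃ g ∈ X, (g : M₂) = !![a, b; c, d] := by
  have two := CharTwo.two_eq_zero (R := F)
  have gen : ∀ a b c d : F, a ∈ F₀ → b ∈ F₀ → c ∈ F₀ → d ∈ F₀ → a * d + b * c = 1 → c ≠ 0 →
      ∃ g ∈ X, (g : M₂) = !![a, b; c, d] := by
    intro a b c d ha hb hc hd hdet hc0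
    refine ⟨upp ((a + 1) / c) * low c * upp ((d + 1) / c),
      mul_mem (mul_mem ((R.up _).2 (F₀.div_mem (F₀.add_mem ha F₀.one_mem) hc)) ((R.dn _).2 hc))
        ((R.up _).2 (F₀.div_mem (F₀.add_mem hd F₀.one_mem) hc)), ?_⟩
    rw [Matrix.SpecialLinearGroup.coe_mul, Matrix.SpecialLinearGroup.coe_mul, upp_coe, upp_coe, low_coe]
    ext i j
    fin_cases i <;> fin_cases j <;> simp [Matrix.mul_apply, Fin.sum_univ_two]
    · field_simp; linear_combination two
    · field_simp; linear_combination (-1 : F) * hdet + (a * d + a + d + 1) * two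
    · field_simp; linear_combination two
  by_cases hc0 : c = 0
  · subst hc0
    obtain ⟨w, hw, hwM⟩ := R.swap_mem
    have ha0 : a ≠ 0 := by rintro rfl; simp at hdet
    obtain ⟨g, hg, hgM⟩ := gen 0 d a b F₀.zero_mem hd ha hb (by linear_combination hdet) ha0
    refine ⟨w * g, mul_mem hw hg, ?_⟩
    rw [Matrix.SpecialLinearGroup.coe_mul, hwM, hgM]
    ext i j
    fin_cases i <;> fin_cases j <;> simp [Matrix.mul_apply, Fin.sum_univ_two]
  · exact gen a b c d ha hb hc hd hdet hc0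

theorem torus_mem {l : F} (hl : l ∈ F₀) (h0 : l ≠ 0) : ∃ g ∈ X, (g : M₂) = !![l, 0; 0, l⁻¹] :=
  R.mem_of_entries hl F₀.zero_mem F₀.zero_mem (F₀.inv_mem hl) (by field_simp; ring)

end RootPair

section Plane

local notation "V₄" => (Fin 2 ⊕ Fin 2 → F)
local notation "M₄" => Matrix (Fin 2 ⊕ Fin 2) (Fin 2 ⊕ Fin 2) F

/-- A plane matrix extended by the identity on the orthogonal plane. -/
def planeMat (M : Matrix (Fin 2) (Fin 2) F) : Matrix (Fin 2 ⊕ Fin 2) (Fin 2 ⊕ Fin 2) F :=
  colMat (vec (M 0 0) 0 (M 1 0) 0) (vec 0 1 0 0) (vec (M 0 1) 0 (M 1 1) 0) (vec 0 0 0 1)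

theorem planeMat_mulVec (M : M₂) (x : V₄) : planeMat M *ᵥ x = vec (M 0 0 * x (.inl 0) + M 0 1 * x (.inr 0))
    (x (.inl 1)) (M 1 0 * x (.inl 0) + M 1 1 * x (.inr 0)) (x (.inr 1)) := by
  rw [planeMat, colMat_mulVec]
  refine ext4 ?_ ?_ ?_ ?_ <;> simp <;> ring

theorem planeMat_mul (M N : M₂) : planeMat (M * N) = planeMat M * planeMat N := by
  refine Matrix.ext_iff_mulVec.2 fun x => ?_
  rw [← Matrix.mulVec_mulVec, planeMat_mulVec, planeMat_mulVec, planeMat_mulVec]
  refine ext4 ?_ ?_ ?_ ?_ <;> simp [Matrix.mul_apply, Fin.sum_univ_two] <;> ring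

theorem planeMat_one : planeMat (1 : M₂) = 1 := by
  refine Matrix.ext_iff_mulVec.2 fun x => ?_
  rw [planeMat_mulVec, Matrix.one_mulVec]
  refine ext4 ?_ ?_ ?_ ?_ <;> simp

/-- The embedding on the plane of the first hyperbolic pair. -/
noncomputable def plane : Matrix.SpecialLinearGroup (Fin 2) F →* GL (Fin 2 ⊕ Fin 2) F :=
  MonoidHom.toHomUnits
    { toFun := fun M => planeMat (M : Matrix (Fin 2) (Fin 2) F)
      map_one' := by rw [Matrix.SpecialLinearGroup.coe_one, planeMat_one]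
      map_mul' := fun M N => by rw [Matrix.SpecialLinearGroup.coe_mul, planeMat_mul] }

theorem act_plane (M : SL₂) (x : V₄) : act (plane M) x = vec ((M : M₂) 0 0 * x (.inl 0) + (M : M₂) 0 1 * x (.inr 0))
    (x (.inl 1)) ((M : M₂) 1 0 * x (.inl 0) + (M : M₂) 1 1 * x (.inr 0)) (x (.inr 1)) :=
  planeMat_mulVec _ _

theorem plane_injective : Function.Injective (plane (F := F)) := fun M N h => by
  have h0 := congrArg (fun g => act g (vec 1 0 0 0)) h
  have h1 := congrArg (fun g => act g (vec 0 0 1 0)) h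
  simp only [act_plane] at h0 h1
  have a0 := congrFun h0 (.inl 0)
  have a1 := congrFun h0 (.inr 0)
  have b0 := congrFun h1 (.inl 0)
  have b1 := congrFun h1 (.inr 0)
  simp at a0 a1 b0 b1
  ext i j
  fin_cases i <;> fin_cases j <;> assumption

theorem plane_upp (a : F) : plane (upp (a ^ 2)) = tv (vec a 0 0 0) := ext_act fun x => by
  rw [act_plane, act_tv, sf_eq]
  refine ext4 ?_ ?_ ?_ ?_ <;> simp <;> ring

theorem plane_low (a : F) : plane (low (a ^ 2)) = tv (vec 0 0 a 0) := ext_act fun x => by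
  rw [act_plane, act_tv, sf_eq]
  refine ext4 ?_ ?_ ?_ ?_ <;> simp <;> ring

/-- Two non-commuting transvections are conjugate in the group they generate. -/
theorem conj_of_ne_perp [Fintype F] {u v : V₄} (h : sf u v ≠ 0) :
    ∃ g ∈ Subgroup.closure ({tv u, tv v} : Set (GL (Fin 2 ⊕ Fin 2) F)), act g u = v := by
  have hu : u ≠ 0 := by rintro rfl; exact h (sympForm_zero_left v)
  have hv : v ≠ 0 := by rintro rfl; exact h (sympForm_zero_right u)
  have hodd : Odd (orderOf (tv u * tv v)) := by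
    obtain ⟨w, hw1, hw2, hw3, hw4⟩ : ∃ s : V₄, sf u ((sf u v)⁻¹ • v) = 1 ∧ sf u s = 0 ∧ sf s ((sf u v)⁻¹ • v) = 0 ∧ s ≠ 0 := by
      obtain ⟨g, hg, hgu⟩ := exists_frame_one hu
      set w := act g⁻¹ ((sf u v)⁻¹ • v) with hwdef
      have hwc : w (.inr 0) = 1 := by
        have : sf (vec 1 0 0 0) w = 1 := by
          rw [hwdef, ← sf_act hg, act_act_inv, hgu, sf_smul_right, inv_mul_cancel₀ h]
        rw [sf_eq] at this
        simpa using this
      refine ⟨act g (vec (w (.inr 1)) 1 0 0), ?_, ?_, ?_, ?_⟩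
      · rw [sf_smul_right, inv_mul_cancel₀ h]
      · rw [← hgu, sf_act hg, sf_eq]; simp
      · rw [sf_act_left hg, ← hwdef, sf_eq]
        simp [hwc, CharTwo.add_self_eq_zero]
      · exact act_ne_zero g fun e => by simpa using congrFun e (.inl 1)
    obtain ⟨g, hg, hg1, hg2, hg3⟩ := exists_frame_three hw1 hw2 hw3 hw4
    have hv' : act g ((vec 0 0 (sf u v) 0)) = v := by
      rw [show vec 0 0 (sf u v) 0 = sf u v • vec (0 : F) 0 1 0 from ext4 (by simp) (by simp) (by simp) (by simp),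
        act_smul, hg3, smul_inv_smul₀ h]
    obtain ⟨x, hx⟩ : ∃ x : SL₂, x = upp (1 ^ 2 : F) * low ((sf u v) ^ 2) := ⟨_, rfl⟩
    have e : tv u * tv v = g * plane x * g⁻¹ := by
      rw [hx, map_mul, plane_upp, plane_low]
      conv_lhs => rw [← hg1]; arg 2; rw [← hv']
      rw [← tv_conj hg, ← tv_conj hg]
      simp [mul_assoc]
    rw [e, show g * plane x * g⁻¹ = MulAut.conj g (plane x) from rfl, MulEquiv.orderOf_eq,
      orderOf_injective plane plane_injective]
    refine Fus.SLRoot.odd_orderOf_of_trace_ne x ?_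
    rw [hx, Matrix.SpecialLinearGroup.coe_mul, upp_coe, low_coe]
    simp [Matrix.mul_apply, Fin.sum_univ_two]
    exact h
  obtain ⟨k, hk⟩ := hodd
  set h' := tv u * tv v with hh
  have hinv : tv u * h' * tv u = h'⁻¹ := by
    rw [hh, _root_.mul_inv_rev, tv_inv, tv_inv, ← mul_assoc, tv_sq, one_mul]
  have hpow : tv u * (h' ^ (k + 1)) * tv u = (h' ^ (k + 1))⁻¹ := by
    have := conj_pow (a := tv u) (b := h') (i := k + 1)
    rw [tv_inv, hinv, inv_pow] at this
    exact this.symm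
  have hmem : h' ∈ Subgroup.closure ({tv u, tv v} : Set (GL (Fin 2 ⊕ Fin 2) F)) :=
    mul_mem (Subgroup.subset_closure (by simp)) (Subgroup.subset_closure (by simp))
  refine ⟨(h' ^ (k + 1))⁻¹, inv_mem (pow_mem hmem _), ?_⟩
  refine (tv_eq hv ?_).symm
  have hsp : (h' ^ (k + 1))⁻¹ ∈ spGL 2 F := inv_mem (pow_mem (mul_mem (tv_mem u) (tv_mem v)) _)
  rw [← tv_conj hsp, inv_inv]
  have h2 : (h' ^ (k + 1))⁻¹ * tv u * h' ^ (k + 1) = tv u * (h' ^ (k + 1) * h' ^ (k + 1)) := by
    rw [← hpow]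
    simp only [mul_assoc]
    rw [← mul_assoc (tv u) (tv u), tv_sq, one_mul]
  rw [h2, ← pow_add, show k + 1 + (k + 1) = orderOf h' + 1 by omega, pow_succ, pow_orderOf_eq_one, one_mul,
    hh, ← mul_assoc, tv_sq, one_mul]

end Plane

end Cfsg.Agent.Classical.SpFourRes
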